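import Mathlib.GroupTheory.Perm.Sign
import Mathlib.Data.Set.Card
import Mathlib.Tactic

set_option autoImplicit false

namespace CfsgLib.SporMisc

section bound

variable {M : Type*} [Group M] (x y z : M)

/-- Six words in two generators. -/
def wordK : Fin 6 → M := ![1, x, y, x * y, y * x, x * y * x]

/-- Four coset words. -/
def wordR : Fin 4 → M := ![1, z, z * y, z * y * x]

variable {x y z}
variable (hx : x * x = 1) (hy : y * y = 1) (hz : z * z = 1)
  (hxy : x * y * x = y * x * y) (hyz : y * z * y = z * y * z) (hxz : x * z = z * x)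

include hx hy hxy in
theorem wordK_mul_gen (i : Fin 6) :
    (∃ j, wordK x y j = wordK x y i * x) ∧ (∃ j, wordK x y j = wordK x y i * y) := by
  fin_cases i
  · exact ⟨⟨1, by simp [wordK]⟩, ⟨2, by simp [wordK]⟩⟩
  · exact ⟨⟨0, by simp [wordK, hx]⟩, ⟨3, by simp [wordK]⟩⟩
  · exact ⟨⟨4, by simp [wordK]⟩, ⟨0, by simp [wordK, hy]⟩⟩
  · exact ⟨⟨5, by simp [wordK]⟩, ⟨1, by simp [wordK, mul_assoc, hy]⟩⟩
  · refine ⟨⟨2, by simp [wordK, mul_assoc, hx]⟩, ⟨5, ?_⟩⟩
    simp [wordK, hxy]
  · refine ⟨⟨3, by simp [wordK, mul_assoc, hx]⟩, ⟨4, ?_⟩⟩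
    simp [wordK, hxy, mul_assoc, hy]

include hx hy hz hxy hyz hxz in
theorem word_mul_gen (p : Fin 6 × Fin 4) (g : M) (hg : g = x ∨ g = y ∨ g = z) :
    ∃ q : Fin 6 × Fin 4, wordK x y q.1 * wordR x y z q.2 = wordK x y p.1 * wordR x y z p.2 * g := by
  obtain ⟨i, r⟩ := p
  obtain ⟨⟨jx, hjx⟩, ⟨jy, hjy⟩⟩ := wordK_mul_gen hx hy hxy i
  have e1 : z * x = x * z := hxz.symm
  have e2 : z * y * z = y * (z * y) := by rw [← hyz, mul_assoc]
  have e3 : z * y * x * y = x * (z * y * x) := by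
    calc z * y * x * y = z * (y * x * y) := by group
      _ = z * x * y * x := by rw [← hxy]; group
      _ = x * (z * y * x) := by rw [e1]; group
  have e4 : z * y * x * z = y * (z * y * x) := by
    calc z * y * x * z = z * y * (x * z) := by group
      _ = z * y * z * x := by rw [hxz]; group
      _ = y * (z * y * x) := by rw [e2]; group
  fin_cases r <;> rcases hg with h | h | h <;> rw [h] <;>
    simp only [wordR, Matrix.cons_val_zero, Matrix.cons_val_one, Fin.isValue, Fin.zero_eta, Fin.mk_one,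
      mul_one, Matrix.cons_val, Fin.reduceFinMk]
  · exact ⟨(jx, 0), by simpa [wordR] using hjx⟩
  · exact ⟨(jy, 0), by simpa [wordR] using hjy⟩
  · exact ⟨(i, 1), by simp [wordR]⟩
  · exact ⟨(jx, 1), by simp [wordR, hjx, mul_assoc, e1]⟩
  · exact ⟨(i, 2), by simp [wordR, mul_assoc]⟩
  · exact ⟨(i, 0), by simp [wordR, mul_assoc, hz]⟩
  · exact ⟨(i, 3), by simp [wordR, mul_assoc]⟩
  · exact ⟨(i, 1), by simp [wordR, mul_assoc, hy]⟩
  · refine ⟨(jy, 2), ?_⟩
    simp only [wordR, Matrix.cons_val, hjy]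
    rw [mul_assoc (wordK x y i) (z * y), e2, mul_assoc]
  · exact ⟨(i, 2), by simp [wordR, mul_assoc, hx]⟩
  · refine ⟨(jx, 3), ?_⟩
    simp only [wordR, Matrix.cons_val, hjx]
    rw [mul_assoc (wordK x y i) (z * y * x), e3, mul_assoc]
  · refine ⟨(jy, 3), ?_⟩
    simp only [wordR, Matrix.cons_val, hjy]
    rw [mul_assoc (wordK x y i) (z * y * x), e4, mul_assoc]

include hx hy hz hxy hyz hxz in
theorem closure_card_le :
    ((Subgroup.closure ({x, y, z} : Set M) : Subgroup M) : Set M).Finite ∧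
      ((Subgroup.closure ({x, y, z} : Set M) : Subgroup M) : Set M).ncard ≤ 24 := by
  set S : Set M := Set.range fun p : Fin 6 × Fin 4 => wordK x y p.1 * wordR x y z p.2 with hS
  have hinv : ∀ u : M, u ∈ ({x, y, z} : Set M) → u⁻¹ = u := by
    rintro u (rfl | rfl | rfl)
    · exact inv_eq_of_mul_eq_one_right hx
    · exact inv_eq_of_mul_eq_one_right hy
    · exact inv_eq_of_mul_eq_one_right hz
  have hstep : ∀ w ∈ S, ∀ u ∈ ({x, y, z} : Set M), w * u ∈ S := by
    rintro w ⟨p, rfl⟩ u hu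
    obtain ⟨q, hq⟩ := word_mul_gen hx hy hz hxy hyz hxz p u (by simpa using hu)
    exact ⟨q, hq⟩
  have hsub : ((Subgroup.closure ({x, y, z} : Set M) : Subgroup M) : Set M) ⊆ S := by
    intro w hw
    induction hw using Subgroup.closure_induction_right with
    | one => exact ⟨(0, 0), by simp [wordK, wordR]⟩
    | mul_right v hv u hu ih => exact hstep _ ih _ hu
    | mul_inv_cancel v hv u hu ih => rw [hinv u hu]; exact hstep _ ih _ hu
  refine ⟨(Set.finite_range _).subset hsub, ?_⟩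
  calc ((Subgroup.closure ({x, y, z} : Set M) : Subgroup M) : Set M).ncard
      ≤ S.ncard := Set.ncard_le_ncard hsub (Set.finite_range _)
    _ ≤ Nat.card (Fin 6 × Fin 4) := by
        rw [hS, ← Set.image_univ]
        exact (Set.ncard_image_le Set.finite_univ).trans (by rw [Set.ncard_univ])
    _ = 24 := by simp

end bound

/-- The Coxeter relations of type `A3` give a homomorphism from the symmetric group of degree 4. -/
theorem exists_hom_symm4 {G : Type*} [Group G] {a b c : G} (ha : a * a = 1) (hb : b * b = 1)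
    (hc : c * c = 1) (hab : a * b * a = b * a * b) (hbc : b * c * b = c * b * c)
    (hac : a * c = c * a) :
    ∃ φ : Equiv.Perm (Fin 4) →* G, φ (Equiv.swap 0 1) = a ∧ φ (Equiv.swap 1 2) = b ∧
      φ (Equiv.swap 2 3) = c := by
  let s0 : Equiv.Perm (Fin 4) := Equiv.swap 0 1
  let s1 : Equiv.Perm (Fin 4) := Equiv.swap 1 2
  let s2 : Equiv.Perm (Fin 4) := Equiv.swap 2 3
  let Γ : Subgroup (G × Equiv.Perm (Fin 4)) := Subgroup.closure {(a, s0), (b, s1), (c, s2)}
  have e00 : s0 * s0 = 1 := by decide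
  have e11 : s1 * s1 = 1 := by decide
  have e22 : s2 * s2 = 1 := by decide
  have e01 : s0 * s1 * s0 = s1 * s0 * s1 := by decide
  have e12 : s1 * s2 * s1 = s2 * s1 * s2 := by decide
  have e02 : s0 * s2 = s2 * s0 := by decide
  obtain ⟨hfin, hcard⟩ := closure_card_le (x := (a, s0)) (y := (b, s1)) (z := (c, s2))
    (Prod.ext ha e00) (Prod.ext hb e11) (Prod.ext hc e22)
    (Prod.ext hab e01) (Prod.ext hbc e12) (Prod.ext hac e02)
  let π : Γ →* Equiv.Perm (Fin 4) := (MonoidHom.snd G _).comp Γ.subtype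
  have hsurj : Function.Surjective π := by
    rw [← MonoidHom.range_eq_top, eq_top_iff]
    have hgen : ∀ i : Fin 3, Equiv.swap i.castSucc i.succ ∈ π.range := by
      intro i
      fin_cases i
      · exact ⟨⟨(a, s0), Subgroup.subset_closure (by simp)⟩, rfl⟩
      · exact ⟨⟨(b, s1), Subgroup.subset_closure (by simp)⟩, rfl⟩
      · exact ⟨⟨(c, s2), Subgroup.subset_closure (by simp)⟩, rfl⟩
    intro σ _
    have hσ : σ ∈ Submonoid.closure (Set.range fun i : Fin 3 ↦ Equiv.swap i.castSucc i.succ) := by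
      rw [Equiv.Perm.mclosure_swap_castSucc_succ]; trivial
    refine (Submonoid.closure_le (S := π.range.toSubmonoid)).mpr ?_ hσ
    rintro _ ⟨i, rfl⟩
    exact hgen i
  haveI : Finite Γ := hfin.to_subtype
  have hcardΓ : Nat.card Γ = Nat.card (Equiv.Perm (Fin 4)) := by
    refine le_antisymm ?_ (Nat.card_le_card_of_surjective π hsurj)
    rw [Nat.card_eq_fintype_card (α := Equiv.Perm (Fin 4)), Fintype.card_perm, Fintype.card_fin]
    calc Nat.card Γ = ((Γ : Set (G × Equiv.Perm (Fin 4)))).ncard := Nat.card_coe_set_eq _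
      _ ≤ 24 := hcard
      _ = Nat.factorial 4 := by rfl
  have hbij : Function.Bijective π := (Nat.bijective_iff_surjective_and_card π).mpr ⟨hsurj, hcardΓ⟩
  let e : Γ ≃* Equiv.Perm (Fin 4) := MulEquiv.ofBijective π hbij
  refine ⟨((MonoidHom.fst G _).comp Γ.subtype).comp e.symm.toMonoidHom, ?_, ?_, ?_⟩
  · have h : e.symm s0 = ⟨(a, s0), Subgroup.subset_closure (by simp)⟩ := by
      rw [MulEquiv.symm_apply_eq]; rfl
    show ((e.symm s0 : Γ) : G × Equiv.Perm (Fin 4)).1 = a
    rw [h]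
  · have h : e.symm s1 = ⟨(b, s1), Subgroup.subset_closure (by simp)⟩ := by
      rw [MulEquiv.symm_apply_eq]; rfl
    show ((e.symm s1 : Γ) : G × Equiv.Perm (Fin 4)).1 = b
    rw [h]
  · have h : e.symm s2 = ⟨(c, s2), Subgroup.subset_closure (by simp)⟩ := by
      rw [MulEquiv.symm_apply_eq]; rfl
    show ((e.symm s2 : Γ) : G × Equiv.Perm (Fin 4)).1 = c
    rw [h]

end CfsgLib.SporMisc
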