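import Cfsg.Agent.Lib.SporMisc.RefClassThree
import Cfsg.Agent.Lib.Classical.QuadBridge

/-!
# The reflections of one norm over the field with three elements generate a subgroup of index two
-/

set_option autoImplicit false

namespace CfsgLib.SporMisc.RefThree

open Cfsg CfsgLib.Classical

variable {n : ℕ} (Q : QuadraticForm (ZMod 3) (Fin n → ZMod 3))
  (hQ : (QuadraticMap.polarBilin Q).Nondegenerate)

include hQ in
/-- A function on the vectors of one norm which agrees on orthogonal pairs is constant there. -/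
theorem const_of_orth {T : Type*} {d : ZMod 3} (hd : d ≠ 0) (hn : 5 ≤ n)
    (f : ∀ v : Fin n → ZMod 3, Q v = d → T)
    (hf : ∀ u w (hu : Q u = d) (hw : Q w = d), pf Q u w = 0 → f u hu = f w hw)
    {u w : Fin n → ZMod 3} (hu : Q u = d) (hw : Q w = d) : f u hu = f w hw := by
  classical
  suffices h : ∃ t, Q t = d ∧ pf Q u t = 0 ∧ pf Q w t = 0 by
    obtain ⟨t, ht, h1, h2⟩ := h
    exact (hf u t hu ht h1).trans (hf w t hw ht h2).symm
  have hu0 : Q u ≠ 0 := hu ▸ hd
  obtain ⟨a, ha⟩ : ∃ a : ZMod 3, a = (2 * Q u)⁻¹ * pf Q u w := ⟨_, rfl⟩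
  obtain ⟨e, he⟩ : ∃ e, e = w - a • u := ⟨_, rfl⟩
  have hue : pf Q u e = 0 := by
    rw [he, pf, QuadraticMap.polar_sub_right, QuadraticMap.polar_smul_right, qf_polar_self, ha,
      smul_eq_mul]
    simp only [pf]
    rw [mul_comm (2 * Q u)⁻¹, mul_assoc, inv_mul_cancel₀ (two_mul_ne hu0), mul_one, sub_self]
  have hwdec : ∀ t, pf Q u t = 0 → pf Q e t = 0 → pf Q w t = 0 := by
    intro t h1 h2
    have e1 : w = e + a • u := by rw [he, sub_add_cancel]
    rw [e1, pf, QuadraticMap.polar_add_left, QuadraticMap.polar_smul_left]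
    simp only [pf] at h1 h2
    rw [h1, h2, smul_zero, add_zero]
  by_cases he0 : e = 0
  · obtain ⟨t, ht, htd⟩ := exists_perp_value Q hQ ![u] (by simpa using hu0)
      (fun i j h => absurd (Subsingleton.elim i j) h) (by omega) hd
    refine ⟨t, htd, by simpa using ht 0, hwdec t (by simpa using ht 0) ?_⟩
    rw [he0, pf, QuadraticMap.polar_zero_left]
  by_cases hQe : Q e = 0
  · -- a hyperbolic partner of `e` orthogonal to `u`
    obtain ⟨y, hy⟩ : ∃ y, pf Q e y ≠ 0 := by
      by_contra! h
      exact he0 (hQ.1 e h)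
    obtain ⟨b, hb⟩ : ∃ b : ZMod 3, b = (2 * Q u)⁻¹ * pf Q u y := ⟨_, rfl⟩
    obtain ⟨y₁, hy1⟩ : ∃ y₁, y₁ = (pf Q e y)⁻¹ • (y - b • u) := ⟨_, rfl⟩
    have hu1 : pf Q u y₁ = 0 := by
      rw [hy1, pf, QuadraticMap.polar_smul_right, QuadraticMap.polar_sub_right,
        QuadraticMap.polar_smul_right, qf_polar_self, hb, smul_eq_mul, smul_eq_mul]
      simp only [pf]
      rw [mul_comm (2 * Q u)⁻¹, mul_assoc, inv_mul_cancel₀ (two_mul_ne hu0), mul_one, sub_self, mul_zero]
    have he1 : pf Q e y₁ = 1 := by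
      rw [hy1, pf, QuadraticMap.polar_smul_right, QuadraticMap.polar_sub_right,
        QuadraticMap.polar_smul_right, smul_eq_mul, smul_eq_mul,
        show QuadraticMap.polar Q e u = 0 from (qf_polar_comm Q e u).trans hue, mul_zero, sub_zero]
      exact inv_mul_cancel₀ hy
    obtain ⟨g, hg⟩ : ∃ g, g = y₁ + (-Q y₁) • e := ⟨_, rfl⟩
    have hug : pf Q u g = 0 := by
      rw [hg, pf, QuadraticMap.polar_add_right, QuadraticMap.polar_smul_right]
      simp only [pf] at hu1 hue
      rw [hu1, hue, smul_zero, add_zero]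
    have heg : pf Q e g = 1 := by
      rw [hg, pf, QuadraticMap.polar_add_right, QuadraticMap.polar_smul_right, qf_polar_self, hQe]
      simp only [pf] at he1
      rw [he1, mul_zero, smul_zero, add_zero]
    have hQg : Q g = 0 := by
      rw [hg, qf_map_add_smul, hQe, qf_polar_comm Q y₁ e]
      simp only [pf] at he1
      rw [he1]; ring
    have hp : Q (e + g) = 1 := by
      rw [qf_map_add, hQe, hQg, zero_add, zero_add]; exact heg
    have hm : Q (e - g) = -1 := by
      rw [sub_eq_add_neg, qf_map_add, QuadraticMap.map_neg, QuadraticMap.polar_neg_right, hQe, hQg,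
        zero_add, zero_add]
      simp only [pf] at heg
      rw [heg]
    have hpm : pf Q (e + g) (e - g) = 0 := by
      rw [pf, QuadraticMap.polar_sub_right, QuadraticMap.polar_add_left, QuadraticMap.polar_add_left,
        qf_polar_self, qf_polar_self, hQe, hQg, qf_polar_comm Q g e]
      ring
    have hup : pf Q u (e + g) = 0 := by
      rw [pf, QuadraticMap.polar_add_right]; simp only [pf] at hue hug; rw [hue, hug, add_zero]
    have hum : pf Q u (e - g) = 0 := by
      rw [pf, QuadraticMap.polar_sub_right]; simp only [pf] at hue hug; rw [hue, hug, sub_zero]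
    obtain ⟨t, ht, htd⟩ := exists_perp_value Q hQ ![u, e + g, e - g]
      (fun i => by fin_cases i <;> simp [hu0, hp, hm])
      (fun i j h => by
        simp only [pf] at hup hum hpm
        fin_cases i <;> fin_cases j <;>
          first | exact absurd rfl h | simp [pf, hup, hum, hpm, qf_polar_comm Q (e + g) u,
            qf_polar_comm Q (e - g) u, qf_polar_comm Q (e - g) (e + g)])
      (by omega) hd
    have t0 : pf Q u t = 0 := by simpa using ht 0
    have t1 : pf Q (e + g) t = 0 := by simpa using ht 1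
    have t2 : pf Q (e - g) t = 0 := by simpa using ht 2
    refine ⟨t, htd, t0, hwdec t t0 ?_⟩
    rw [pf, QuadraticMap.polar_add_left] at t1
    rw [pf, QuadraticMap.polar_sub_left] at t2
    show QuadraticMap.polar Q e t = 0
    refine mul_left_cancel₀ (show (2 : ZMod 3) ≠ 0 by decide) ?_
    linear_combination t1 + t2
  · obtain ⟨t, ht, htd⟩ := exists_perp_value Q hQ ![u, e]
      (fun i => by fin_cases i <;> simp [hu0, hQe])
      (fun i j h => by
        simp only [pf] at hue
        fin_cases i <;> fin_cases j <;>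
          first | exact absurd rfl h | simp [pf, hue, qf_polar_comm Q e u])
      (by omega) hd
    have t0 : pf Q u t = 0 := by simpa using ht 0
    exact ⟨t, htd, t0, hwdec t t0 (by simpa using ht 1)⟩

theorem zmod_three_inv (d : ZMod 3) (hd : d ≠ 0) : (d⁻¹ = d ∧ (-d)⁻¹ = -d) ∧ d * d = 1 := by
  have h : d * d = 1 := by revert hd; revert d; decide
  exact ⟨⟨inv_eq_of_mul_eq_one_right h, inv_eq_of_mul_eq_one_right (by rw [neg_mul_neg, h])⟩, h⟩

theorem zmod_three_cases : ∀ c : ZMod 3, c ≠ 0 → ∀ d : ZMod 3, d ≠ 0 → d = c ∨ d = -c := by decide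

/-- Orthogonal vectors of one norm: the sum and difference have the other norm. -/
theorem sum_diff {d : ZMod 3} {u w : Fin n → ZMod 3} (hu : Q u = d) (hw : Q w = d)
    (h : pf Q u w = 0) : Q (u + w) = -d ∧ Q (u - w) = -d := by
  have e : d + d = -d := by
    have : (3 : ZMod 3) = 0 := by decide
    linear_combination d * this
  constructor
  · rw [qf_map_add, hu, hw]; simp only [pf] at h; rw [h, add_zero, e]
  · rw [sub_eq_add_neg, qf_map_add, QuadraticMap.map_neg, QuadraticMap.polar_neg_right, hu, hw]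
    simp only [pf] at h
    rw [h, neg_zero, add_zero, e]

theorem reflect_pair {d : ZMod 3} (hd : d ≠ 0) {u w : Fin n → ZMod 3} (hu : Q u = d) (hw : Q w = d)
    (h : pf Q u w = 0) :
    reflect Q u (hu ▸ hd) * reflect Q w (hw ▸ hd) =
      reflect Q (u + w) ((sum_diff Q hu hw h).1 ▸ neg_ne_zero.2 hd) *
        reflect Q (u - w) ((sum_diff Q hu hw h).2 ▸ neg_ne_zero.2 hd) := by
  obtain ⟨h1, h2⟩ := sum_diff Q hu hw h
  simp only [pf] at h
  have hwu : QuadraticMap.polar Q w u = 0 := (qf_polar_comm Q w u).trans h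
  obtain ⟨hinv, hdd⟩ := zmod_three_inv d hd
  refine iso_ext fun x => ?_
  simp only [isoApply_mul, reflect_apply, QuadraticMap.polar_sub_left, QuadraticMap.polar_smul_left,
    QuadraticMap.polar_add_right, QuadraticMap.polar_sub_right, qf_polar_self, h, hwu, hu, hw, h1, h2,
    hinv, smul_eq_mul]
  match_scalars
  · ring
  all_goals
    have h3 : (3 : ZMod 3) = 0 := by decide
    generalize QuadraticMap.polar Q x u = p
    generalize QuadraticMap.polar Q x w = q
    first
      | linear_combination (-(d * q)) * h3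
      | linear_combination (d * q) * h3
      | linear_combination (-(d * p)) * h3
      | linear_combination (d * p) * h3

variable {c : ZMod 3} (hc : c ≠ 0)

include hQ hc in
theorem index_two (hn : 5 ≤ n) : (reflectionSubgroup (⇑Q) c).index = 2 := by
  classical
  have hnc : -c ≠ 0 := neg_ne_zero.2 hc
  obtain ⟨N, hN⟩ : ∃ N, N = reflectionSubgroup (⇑Q) c := ⟨_, rfl⟩
  rw [← hN]
  have hgenc : ∀ v (hv : Q v = c), reflect Q v (hv ▸ hc) ∈ N := fun v hv =>
    hN ▸ Subgroup.subset_closure ⟨v, hv, reflect_coe Q v _⟩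
  haveI hNn : N.Normal := by
    rw [← Subgroup.normalizer_eq_top_iff]
    refine eq_top_iff.2 fun g _ => ?_
    rw [Subgroup.mem_normalizer_iff_map_conj_eq]
    refine Subgroup.eq_of_le_of_card_ge ?_ (by rw [Subgroup.card_map_of_injective (MulEquiv.injective _)])
    rw [hN, reflectionSubgroup, MonoidHom.map_closure, Subgroup.closure_le]
    rintro _ ⟨r, ⟨v, hv, hr⟩, rfl⟩
    have hr' : r = reflect Q v (hv ▸ hc) :=
      Subtype.ext (Units.ext (hr.trans (reflect_coe Q v _).symm))
    subst hr'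
    show g * reflect Q v _ * g⁻¹ ∈ _
    rw [reflect_conj]
    exact Subgroup.subset_closure ⟨_, (isoApply_Q g v).trans hv, reflect_coe Q _ _⟩
  -- all reflections of the other norm are equal modulo `N`
  have hsame : ∀ u w (hu : Q u = -c) (hw : Q w = -c),
      reflect Q u (hu ▸ hnc) * reflect Q w (hw ▸ hnc) ∈ N := by
    intro u w hu hw
    have h := const_of_orth Q hQ hnc hn
      (fun v hv => (QuotientGroup.mk (reflect Q v (hv ▸ hnc)) : isometryGroup (ZMod 3) (⇑Q) ⧸ N))
      (fun a b ha hb hab => by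
        refine QuotientGroup.eq.2 ?_
        rw [reflect_inv, reflect_pair Q hnc ha hb hab]
        exact mul_mem (hgenc _ ((sum_diff Q ha hb hab).1.trans (neg_neg c)))
          (hgenc _ ((sum_diff Q ha hb hab).2.trans (neg_neg c))))
      hu hw
    have := QuotientGroup.eq.1 h
    rwa [reflect_inv] at this
  obtain ⟨w₀, -, hw₀⟩ := exists_perp_value Q hQ (![] : Fin 0 → Fin n → ZMod 3) (fun i => i.elim0)
    (fun i => i.elim0) (by omega) hnc
  have hw₀ne : Q w₀ ≠ 0 := hw₀ ▸ hnc
  let a := reflect Q w₀ hw₀ne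
  have haa : a * a = 1 := reflect_mul_self Q w₀ hw₀ne
  have hcases := zmod_three_cases c hc
  have hcover : ∀ b, b ∈ N ∨ b * a ∈ N := by
    intro b
    have hb : b ∈ (⊤ : Subgroup (isometryGroup (ZMod 3) (⇑Q))) := trivial
    rw [← isometryGroup_closure_reflect Q (polarNondeg_of_nondegenerate hQ)
      (.inl (by simp))] at hb
    induction hb using Subgroup.closure_induction with
    | mem r hr =>
      obtain ⟨v, hv, hr⟩ := hr
      have hr' : r = reflect Q v hv := Subtype.ext (Units.ext (hr.trans (reflect_coe Q v _).symm))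
      subst hr'
      rcases hcases _ hv with h | h
      · exact .inl (hgenc v h)
      · exact .inr (hsame v w₀ h hw₀)
    | one => exact .inl (one_mem _)
    | mul x y _ _ hx hy =>
      rcases hx with hx | hx <;> rcases hy with hy | hy
      · exact .inl (mul_mem hx hy)
      · exact .inr (by rw [mul_assoc]; exact mul_mem hx hy)
      · refine .inr ?_
        rw [show x * y * a = x * a * (a⁻¹ * y * a⁻¹⁻¹) by group]
        exact mul_mem hx (hNn.conj_mem y hy _)
      · refine .inl ?_
        rw [show x * y = x * a * (a⁻¹ * (y * a) * a⁻¹⁻¹) * (a⁻¹ * a⁻¹) by group,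
          inv_eq_of_mul_eq_one_left haa, haa, mul_one]
        exact mul_mem hx (by simpa [a, reflect_inv] using hNn.conj_mem _ hy a)
    | inv x _ hx =>
      rcases hx with hx | hx
      · exact .inl (inv_mem hx)
      · refine .inr ?_
        rw [show x⁻¹ * a = a * (x * a)⁻¹ * a⁻¹ * (a * a) by group, haa, mul_one]
        exact hNn.conj_mem _ (inv_mem hx) a
  -- a sign character trivial on `N`
  obtain ⟨χ, v, w, hv, hw, hsq, hne⟩ := exists_two_homs Q (show (2 : ZMod 3) ≠ 0 by decide)
    (polarNondeg_of_nondegenerate hQ) (by rw [Fintype.card_fin]; omega)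
  have hconst : ∀ d, ∀ hd : d ≠ 0, ∀ u u' (hu : Q u = d) (hu' : Q u' = d),
      χ (reflect Q u (hu ▸ hd)) = χ (reflect Q u' (hu' ▸ hd)) := fun d hd u u' hu hu' => by
    refine const_of_orth Q hQ hd hn (fun p hp => χ (reflect Q p (hp ▸ hd))) (fun p q hp hq hpq => ?_) hu hu'
    have h2 : Q (p - q) ≠ 0 := (sum_diff Q hp hq hpq).2 ▸ neg_ne_zero.2 hd
    have he : reflect Q (p - q) h2 * reflect Q p (hp ▸ hd) * (reflect Q (p - q) h2)⁻¹ =
        reflect Q q (hq ▸ hd) := by
      rw [reflect_conj]
      exact iso_ext fun x => by simp only [reflect_apply, reflect_exchange Q (hp.trans hq.symm) h2]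
    show χ _ = χ _
    rw [← he, map_mul, map_mul, map_inv, mul_comm (χ (reflect Q (p - q) h2)), mul_inv_cancel_right]
  have hdet : ∃ δ : isometryGroup (ZMod 3) (⇑Q) →* ℤˣ, ∀ p hp, δ (reflect Q p hp) = -1 := by
    let τ : (ZMod 3)ˣ →* ℤˣ :=
      { toFun := fun u => if u = 1 then 1 else -1
        map_one' := rfl
        map_mul' := by decide }
    refine ⟨τ.comp (Matrix.GeneralLinearGroup.det.comp (isometryGroup (ZMod 3) (⇑Q)).subtype),
      fun p hp => ?_⟩
    have e : Matrix.GeneralLinearGroup.det (reflect Q p hp : GL (Fin n) (ZMod 3)) = -1 := by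
      refine Units.ext ?_
      rw [Matrix.GeneralLinearGroup.val_det_apply, reflect_coe, det_reflectionMatrix Q hp]
      rfl
    show τ _ = -1
    simp only [MonoidHom.comp_apply, Subgroup.coe_subtype, e]
    rfl
  obtain ⟨δ, hδ⟩ := hdet
  obtain ⟨η, hηN, hηa⟩ : ∃ η : isometryGroup (ZMod 3) (⇑Q) →* ℤˣ,
      (∀ x ∈ N, η x = 1) ∧ η a ≠ 1 := by
    obtain ⟨s, hs⟩ : ∃ s, Q s = c := by
      obtain ⟨s, -, hs⟩ := exists_perp_value Q hQ (![] : Fin 0 → Fin n → ZMod 3) (fun i => i.elim0)
        (fun i => i.elim0) (by omega) hc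
      exact ⟨s, hs⟩
    have hdiff : χ (reflect Q s (hs ▸ hc)) ≠ χ a := by
      have hval : ∀ p (hp : Q p ≠ 0), Q p = c → χ (reflect Q p hp) = χ (reflect Q s (hs ▸ hc)) :=
        fun p hp h => hconst c hc p s h hs
      have hval' : ∀ p (hp : Q p ≠ 0), Q p = -c → χ (reflect Q p hp) = χ a :=
        fun p hp h => hconst (-c) hnc p w₀ h hw₀
      rcases hcases _ hv with h1 | h1 <;> rcases hcases _ hw with h2 | h2
      · exact absurd (by rw [h1, h2]; exact ⟨c, rfl⟩) hsq
      · rwa [← hval v hv h1, ← hval' w hw h2]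
      · rw [← hval w hw h2, ← hval' v hv h1]; exact hne.symm
      · exact absurd (by rw [h1, h2]; exact ⟨-c, rfl⟩) hsq
    have hval : ∀ η : isometryGroup (ZMod 3) (⇑Q) →* ℤˣ,
        (∀ p (hp : Q p = c), η (reflect Q p (hp ▸ hc)) = 1) → ∀ x ∈ N, η x = 1 := by
      intro η hη x hx
      rw [hN] at hx
      refine (Subgroup.closure_le (K := η.ker)).2 ?_ hx
      rintro r ⟨p, hp, hr⟩
      rw [SetLike.mem_coe, MonoidHom.mem_ker,
        show r = reflect Q p (hp ▸ hc) from Subtype.ext (Units.ext (hr.trans (reflect_coe Q p _).symm))]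
      exact hη p hp
    rcases Int.units_eq_one_or (χ (reflect Q s (hs ▸ hc))) with h1 | h1
    · refine ⟨χ, hval χ fun p hp => (hconst c hc p s hp hs).trans h1, fun h => hdiff (h1.trans h.symm)⟩
    · refine ⟨χ * δ, hval _ fun p hp => ?_, ?_⟩
      · rw [MonoidHom.mul_apply, hδ, hconst c hc p s hp hs, h1]; rfl
      · rcases Int.units_eq_one_or (χ a) with h2 | h2
        · rw [MonoidHom.mul_apply, hδ, h2]; decide
        · exact absurd (h1.trans h2.symm) hdiff
  rw [Subgroup.index_eq_two_iff]
  refine ⟨a, fun b => ?_⟩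
  have hnot : ¬ (b ∈ N ∧ b * a ∈ N) := fun ⟨h1, h2⟩ => hηa (by
    simpa [map_mul, hηN b h1] using hηN _ h2)
  rcases hcover b with h | h
  · exact .inr ⟨h, fun h' => hnot ⟨h, h'⟩⟩
  · exact .inl ⟨h, fun h' => hnot ⟨h', h⟩⟩

end CfsgLib.SporMisc.RefThree
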