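import Cfsg.Prelude.Def_SporadicB
import Cfsg.Agent.Lib.ThreeTransp.ExpSix
import Cfsg.Agent.Lib.ThreeTransp.Radical
import Cfsg.Agent.Lib.Cores.Layer

/-!
# Structure of a group generated by a class of 3-transpositions
-/

set_option autoImplicit false

namespace CfsgLib.SporMisc

open CfsgLib.ThreeTransp

variable {G : Type*} [Group G] [Finite G] {D : Set G}

/-- The hypotheses: a class of transpositions generating the group, with at least two members. -/
structure TTC (D : Set G) : Prop where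
  tt : IsTT D
  gen : Subgroup.closure D = ⊤
  cls : ∀ a ∈ D, ∀ b ∈ D, ∃ g : G, g * a * g⁻¹ = b
  nontriv : ∃ a ∈ D, ∃ b ∈ D, a ≠ b

theorem TTC.of_class (hD : Cfsg.IsThreeTranspositionClass D) (h2 : ∃ a ∈ D, ∃ b ∈ D, a ≠ b) :
    TTC D := by
  refine ⟨isTT_of_class hD, hD.2.2, fun a ha b hb => ?_, h2⟩
  obtain ⟨d, -, hd⟩ := hD.2.1
  rw [hd] at ha hb
  exact isConj_iff.mp ((show IsConj d a from ha).symm.trans (show IsConj d b from hb))

theorem sq_or_cube (hD : IsTT D) {a b : G} (ha : a ∈ D) (hb : b ∈ D) :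
    (a * b) ^ 2 = 1 ∨ (a * b) ^ 3 = 1 := by
  rcases hD.cond a ha b hb with h | h
  · left
    rw [h.mul_pow, pow_two, pow_two, hD.sq a ha, hD.sq b hb, one_mul]
  · exact Or.inr (pow_three_eq_one (hD.sq a ha) (hD.sq b hb) h)

omit [Finite G] in
/-- No product of commuting elements of orders two and three has order at most three. -/
theorem not_order_six {a b : G} (hc : Commute a b) (ha2 : a ^ 2 = 1) (ha : a ≠ 1) (hb3 : b ^ 3 = 1)
    (hb : b ≠ 1) (h : (a * b) ^ 2 = 1 ∨ (a * b) ^ 3 = 1) : False := by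
  rcases h with h | h
  · rw [hc.mul_pow, ha2, one_mul] at h
    apply hb
    rwa [pow_succ, h, one_mul] at hb3
  · rw [hc.mul_pow, hb3, mul_one, pow_succ, ha2, one_mul] at h
    exact ha h

omit [Finite G] in
theorem not_order_six' {a b : G} (hc : Commute a b) (ha3 : a ^ 3 = 1) (ha : a ≠ 1) (hb2 : b ^ 2 = 1)
    (hb : b ≠ 1) (h : (a * b) ^ 2 = 1 ∨ (a * b) ^ 3 = 1) : False := by
  rw [hc.eq] at h
  exact not_order_six hc.symm hb2 hb ha3 ha h

/-- Two conjugates of `d` compare through the commuting parts. -/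
theorem pair_cond (hD : IsTT D) {d q l : G} (hd : d ∈ D)
    (hc : Commute (d * (q * d * q⁻¹)) (d * (l * d * l⁻¹))) :
    ((d * (q * d * q⁻¹))⁻¹ * (d * (l * d * l⁻¹))) ^ 2 = 1 ∨
      ((d * (q * d * q⁻¹))⁻¹ * (d * (l * d * l⁻¹))) ^ 3 = 1 := by
  have hq := hD.conj q d hd
  have hl := hD.conj l d hd
  have : (d * (q * d * q⁻¹))⁻¹ * (d * (l * d * l⁻¹)) = (q * d * q⁻¹) * (l * d * l⁻¹) := by
    rw [mul_inv_rev, hD.inv_eq hd, hD.inv_eq hq]
    simp [mul_assoc, cancel₂ (hD.sq d hd)]
  rw [this]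
  exact sq_or_cube hD hq hl

/-- A member normalizing a component, all of whose conjugates under it commute, centralizes it;
likewise when all are braided. -/
theorem comm_component_of_uniform (hD : IsTT D) {d : G} (hd : d ∈ D) {L : Subgroup G}
    (hL : Cfsg.IsComponent L) (hdL : ∀ x ∈ L, d * x * d⁻¹ ∈ L)
    (h : (∀ l ∈ L, (d * (l * d * l⁻¹)) ^ 2 = 1) ∨ (∀ l ∈ L, (d * (l * d * l⁻¹)) ^ 3 = 1)) :
    ∀ x ∈ L, d * x = x * d := by
  set S : Set G := {y | ∃ l ∈ L, y = l * d * l⁻¹} with hS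
  have hdS : d ∈ S := ⟨1, L.one_mem, by group⟩
  have hSD : S ⊆ D := by rintro _ ⟨l, -, rfl⟩; exact hD.conj l d hd
  have hdd := hD.sq d hd
  have hpair : ∀ n : ℕ, (∀ l ∈ L, (d * (l * d * l⁻¹)) ^ n = 1) → ∀ y ∈ S, ∀ z ∈ S, (y * z) ^ n = 1 := by
    rintro n hn _ ⟨l, hl, rfl⟩ _ ⟨m, hm, rfl⟩
    have h1 := hn (l⁻¹ * m) (L.mul_mem (L.inv_mem hl) hm)
    have : l * d * l⁻¹ * (m * d * m⁻¹) = l * (d * (l⁻¹ * m * d * (l⁻¹ * m)⁻¹)) * l⁻¹ := by group
    rw [this, conj_pow, h1]
    group
  have hsol : Group.IsSolvable (Subgroup.closure S) := by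
    rcases h with h | h
    · refine isSolvable_closure_of_commute fun y hy z hz => ?_
      have := hpair 2 h y hy z hz
      rw [pow_two, mul_eq_one_iff_eq_inv, mul_inv_rev, hD.inv_eq (hSD hy), hD.inv_eq (hSD hz)] at this
      exact this
    · refine IsW1.isSolvable_closure ⟨fun y hy => hD.sq y (hSD hy), fun y hy z hz =>
        braid_of_pow_three (hD.sq y (hSD hy)) (hD.sq z (hSD hz)) (hpair 3 h y hy z hz), ?_⟩
      rintro _ ⟨l, hl, rfl⟩ _ ⟨m, hm, rfl⟩
      refine ⟨l * (d * (l⁻¹ * m) * d⁻¹), L.mul_mem hl (hdL _ (L.mul_mem (L.inv_mem hl) hm)), ?_⟩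
      rw [hD.inv_eq hd]
      have hy : (d * (l⁻¹ * m) * d)⁻¹ = d * (l⁻¹ * m)⁻¹ * d := by
        rw [mul_inv_rev, mul_inv_rev, hD.inv_eq hd]; group
      rw [mul_inv_rev, hy]
      calc l * d * l⁻¹ * (m * d * m⁻¹) * (l * d * l⁻¹)
          = l * (d * (l⁻¹ * m) * d * (l⁻¹ * m)⁻¹ * d) * l⁻¹ := by group
        _ = l * (d * (l⁻¹ * m) * (d * d) * d * (l⁻¹ * m)⁻¹ * d) * l⁻¹ := by rw [hdd, mul_one]
        _ = l * (d * (l⁻¹ * m) * d) * d * (d * (l⁻¹ * m)⁻¹ * d * l⁻¹) := by group
  have hn : L ≤ Subgroup.normalizer (Subgroup.closure S : Set G) := by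
    have hmap : ∀ x ∈ L, ∀ y ∈ Subgroup.closure S, x * y * x⁻¹ ∈ Subgroup.closure S := by
      intro x hx y hy
      have : Subgroup.closure S ≤ (Subgroup.closure S).comap (MulAut.conj x).toMonoidHom := by
        rw [Subgroup.closure_le]
        rintro _ ⟨l, hl, rfl⟩
        exact Subgroup.subset_closure ⟨x * l, L.mul_mem hx hl, by simp [mul_assoc]⟩
      exact this hy
    intro x hx
    rw [Subgroup.mem_normalizer_iff]
    intro y
    refine ⟨fun hy => hmap x hx y hy, fun hy => ?_⟩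
    simpa [mul_assoc] using hmap x⁻¹ (L.inv_mem hx) _ hy
  have := CfsgLib.Cores.component_commutator_solvable hL hsol hn
  rw [Subgroup.commutator_eq_bot_iff_le_centralizer] at this
  intro x hx
  exact Subgroup.mem_centralizer_iff.1 (this hx) d (Subgroup.subset_closure hdS)

namespace TTC

variable (h : TTC D)
include h

omit [Finite G] in
theorem le_center {X : Subgroup G} (hX : ∀ d ∈ D, ∀ x ∈ X, d * x = x * d) : X ≤ Subgroup.center G := by
  intro x hx
  rw [Subgroup.mem_center_iff]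
  intro g
  have : g ∈ Subgroup.centralizer ({x} : Set G) :=
    ((Subgroup.closure_le _).mpr fun d hd => Subgroup.mem_centralizer_singleton_iff.mpr (hX d hd x hx))
      (h.gen ▸ Subgroup.mem_top g)
  exact Subgroup.mem_centralizer_singleton_iff.mp this

omit [Finite G] in
theorem ne_center {d : G} (hd : d ∈ D) : d ∉ Subgroup.center G := by
  intro hc
  obtain ⟨a, ha, b, hb, hne⟩ := h.nontriv
  have he : ∀ e ∈ D, e = d := by
    intro e he
    obtain ⟨g, rfl⟩ := h.cls d hd e he
    rw [Subgroup.mem_center_iff.1 hc g]; group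
  exact hne ((he a ha).trans (he b hb).symm)

omit [Finite G] in
/-- A normal subgroup commuting with one member is central. -/
theorem normal_le_center {X : Subgroup G} [hX : X.Normal] {d : G} (hd : d ∈ D)
    (hc : ∀ x ∈ X, d * x = x * d) : X ≤ Subgroup.center G := by
  refine h.le_center fun e he x hx => ?_
  obtain ⟨g, rfl⟩ := h.cls d hd e he
  have := hc _ (hX.conj_mem x hx g⁻¹)
  calc g * d * g⁻¹ * x = g * (d * (g⁻¹ * x * g⁻¹⁻¹)) * g⁻¹ := by group
    _ = g * ((g⁻¹ * x * g⁻¹⁻¹) * d) * g⁻¹ := by rw [this]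
    _ = x * (g * d * g⁻¹) := by group

/-- A noncentral normal subgroup moves every member. -/
theorem exists_move {X : Subgroup G} [hX : X.Normal] (hnc : ¬ X ≤ Subgroup.center G) {d : G}
    (hd : d ∈ D) : ∃ q ∈ X, d * (q * d * q⁻¹) ≠ 1 := by
  by_contra hcon
  push Not at hcon
  refine hnc (h.normal_le_center hd fun x hx => ?_)
  have h1 := eq_inv_of_mul_eq_one_right (hcon x hx)
  rw [h.tt.inv_eq hd, mul_inv_eq_iff_eq_mul] at h1
  exact h1.symm

theorem pCore_mem {p : ℕ} {d q : G} (hd : d ∈ D) (hq : q ∈ Cfsg.pCore p G) :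
    d * (q * d * q⁻¹) ∈ Cfsg.pCore p G := by
  haveI := CfsgLib.Cores.pCore_characteristic (G := G) p
  haveI : (Cfsg.pCore p G).Normal := inferInstance
  have h1 : d * q * d ∈ Cfsg.pCore p G := by
    have := (inferInstance : (Cfsg.pCore p G).Normal).conj_mem q hq d
    rwa [h.tt.inv_eq hd] at this
  have := (Cfsg.pCore p G).mul_mem h1 ((Cfsg.pCore p G).inv_mem hq)
  simpa [mul_assoc] using this

theorem eq_one_of_pow {p n : ℕ} [Fact p.Prime] {x : G} (hx : x ∈ Cfsg.pCore p G) (hn : x ^ n = 1)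
    (hpn : Nat.Coprime p n) : x = 1 := by
  obtain ⟨k, hk⟩ := CfsgLib.Cores.isPGroup_pCore p ⟨x, hx⟩
  have hk' : x ^ (p ^ k) = 1 := by simpa using congrArg Subtype.val hk
  exact orderOf_eq_one_iff.mp (Nat.eq_one_of_dvd_coprimes (Nat.Coprime.pow_left k hpn)
    (orderOf_dvd_of_pow_eq_one hk') (orderOf_dvd_of_pow_eq_one hn))

theorem pCore_le_center {p : ℕ} (hp : p.Prime) (h3 : 3 < p) :
    Cfsg.pCore p G ≤ Subgroup.center G := by
  haveI : Fact p.Prime := ⟨hp⟩
  haveI := CfsgLib.Cores.pCore_characteristic (G := G) p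
  haveI : (Cfsg.pCore p G).Normal := inferInstance
  by_contra hnc
  obtain ⟨a, ha, -⟩ := h.nontriv
  obtain ⟨q, hq, hne⟩ := h.exists_move hnc ha
  have hm := h.pCore_mem ha hq
  rcases sq_or_cube h.tt ha (h.tt.conj q a ha) with h' | h'
  · exact hne (h.eq_one_of_pow hm h' ((Nat.coprime_primes hp Nat.prime_two).2 (by omega)))
  · exact hne (h.eq_one_of_pow hm h' ((Nat.coprime_primes hp Nat.prime_three).2 (by omega)))

/-- Orders of the commutators of a member with a `p`-core, `p ∈ {2, 3}`. -/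
theorem pCore_pow {p : ℕ} (hp : p = 2 ∨ p = 3) {d q : G} (hd : d ∈ D) (hq : q ∈ Cfsg.pCore p G) :
    (d * (q * d * q⁻¹)) ^ p = 1 := by
  have hm := h.pCore_mem hd hq
  rcases hp with rfl | rfl
  · haveI : Fact (Nat.Prime 2) := ⟨Nat.prime_two⟩
    rcases sq_or_cube h.tt hd (h.tt.conj q d hd) with h' | h'
    · exact h'
    · rw [h.eq_one_of_pow hm h' (by norm_num), one_pow]
  · haveI : Fact (Nat.Prime 3) := ⟨Nat.prime_three⟩
    rcases sq_or_cube h.tt hd (h.tt.conj q d hd) with h' | h'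
    · rw [h.eq_one_of_pow hm h' (by norm_num), one_pow]
    · exact h'

/-- At most one of the two cores is noncentral. -/
theorem core_two_or_three : Cfsg.pCore 2 G ≤ Subgroup.center G ∨ Cfsg.pCore 3 G ≤ Subgroup.center G := by
  by_contra hcon
  push Not at hcon
  haveI := CfsgLib.Cores.pCore_characteristic (G := G) 2
  haveI := CfsgLib.Cores.pCore_characteristic (G := G) 3
  haveI : (Cfsg.pCore 2 G).Normal := inferInstance
  haveI : (Cfsg.pCore 3 G).Normal := inferInstance
  haveI : Fact (Nat.Prime 2) := ⟨Nat.prime_two⟩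
  haveI : Fact (Nat.Prime 3) := ⟨Nat.prime_three⟩
  obtain ⟨a, ha, -⟩ := h.nontriv
  obtain ⟨q, hq, hq1⟩ := h.exists_move hcon.1 ha
  obtain ⟨r, hr, hr1⟩ := h.exists_move hcon.2 ha
  have hc : Commute (a * (q * a * q⁻¹)) (a * (r * a * r⁻¹)) :=
    CfsgLib.Cores.commute_pCore_of_ne (p := 2) (q := 3) (by norm_num) (h.pCore_mem ha hq)
      (h.pCore_mem ha hr)
  refine not_order_six hc.inv_left ?_ (inv_ne_one.mpr hq1) (h.pCore_pow (Or.inr rfl) ha hr) hr1
    (pair_cond h.tt ha hc)
  rw [inv_pow, h.pCore_pow (Or.inl rfl) ha hq, inv_one]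

omit [Finite G] in
theorem not_component_central {L : Subgroup G} (hL : Cfsg.IsComponent L) :
    ¬ L ≤ Subgroup.center G := by
  intro hle
  apply CfsgLib.Cores.center_ne_top_of_isQuasisimple hL.2
  rw [eq_top_iff]
  intro x _
  exact Subgroup.mem_center_iff.2 fun y => Subtype.ext (Subgroup.mem_center_iff.1 (hle x.2) y)

omit [Finite G] in
theorem mem_conj {L : Subgroup G} (g : G) {x : G} :
    x ∈ L.map (MulAut.conj g).toMonoidHom ↔ g⁻¹ * x * g ∈ L := by
  rw [Subgroup.mem_map]
  constructor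
  · rintro ⟨y, hy, rfl⟩
    simpa [MulAut.conj_apply, mul_assoc] using hy
  · intro hy
    exact ⟨_, hy, by simp [MulAut.conj_apply, mul_assoc]⟩

/-- Every member normalizes every component. -/
theorem normalizes_component {L : Subgroup G} (hL : Cfsg.IsComponent L) {d : G} (hd : d ∈ D) :
    ∀ x ∈ L, d * x * d⁻¹ ∈ L := by
  by_contra hcon
  have hK : Cfsg.IsComponent (L.map (MulAut.conj d).toMonoidHom) :=
    CfsgLib.Cores.isComponent_map_equiv (MulAut.conj d) hL
  have hne : L.map (MulAut.conj d).toMonoidHom ≠ L := by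
    intro he
    refine hcon fun x hx => ?_
    rw [← he]
    exact ⟨x, hx, rfl⟩
  have hcomm := Subgroup.commutator_eq_bot_iff_le_centralizer.1
    (CfsgLib.Cores.commutator_components_eq_bot hK hL hne)
  have hexp : ∀ z : L ⧸ Subgroup.center L, z ^ 2 = 1 ∨ z ^ 3 = 1 := by
    intro z
    obtain ⟨⟨l, hl⟩, rfl⟩ := QuotientGroup.mk_surjective z
    have hl' : d * l * d⁻¹ ∈ L.map (MulAut.conj d).toMonoidHom := ⟨l, hl, rfl⟩
    have hc : Commute (d * l * d⁻¹) l⁻¹ :=
      (Subgroup.mem_centralizer_iff.1 (hcomm hl') l⁻¹ (L.inv_mem hl)).symm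
    have key : ∀ n : ℕ, (d * (l * d * l⁻¹)) ^ n = 1 →
        (QuotientGroup.mk (⟨l, hl⟩ : L) : L ⧸ Subgroup.center L) ^ n = 1 := by
      intro n hn
      have e1 : d * (l * d * l⁻¹) = d * l * d⁻¹ * l⁻¹ := by rw [h.tt.inv_eq hd]; group
      rw [e1, hc.mul_pow, inv_pow, mul_inv_eq_one] at hn
      rw [← QuotientGroup.mk_pow, QuotientGroup.eq_one_iff, Subgroup.mem_center_iff]
      intro y
      apply Subtype.ext
      simp only [Subgroup.coe_mul, SubmonoidClass.coe_pow]
      rw [← hn]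
      exact Subgroup.mem_centralizer_iff.1 (hcomm ((L.map _).pow_mem hl' n)) y y.2
    rcases sq_or_cube h.tt hd (h.tt.conj l d hd) with h' | h'
    · exact Or.inl (key 2 h')
    · exact Or.inr (key 3 h')
  refine CfsgLib.Cores.not_isSolvable_of_isQuasisimple hL.2
    (isSolvable_of_normal (Subgroup.center L) ?_ (isSolvable_of_sq_or_cube hexp))
  exact Group.isSolvable_of_comm fun u v => Subtype.ext (Subgroup.mem_center_iff.1 v.2 u)

theorem component_normal {L : Subgroup G} (hL : Cfsg.IsComponent L) : L.Normal := by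
  have hn : ∀ g : G, (∀ x ∈ L, g * x * g⁻¹ ∈ L) ∧ (∀ x ∈ L, g⁻¹ * x * g ∈ L) := by
    intro g
    have hg : g ∈ Subgroup.closure D := h.gen ▸ Subgroup.mem_top g
    refine Subgroup.closure_induction (p := fun g _ =>
      (∀ x ∈ L, g * x * g⁻¹ ∈ L) ∧ (∀ x ∈ L, g⁻¹ * x * g ∈ L)) ?_ ?_ ?_ ?_ hg
    · intro d hd
      have := h.normalizes_component hL hd
      rw [h.tt.inv_eq hd] at this ⊢
      exact ⟨this, this⟩
    · simp
    · intro u v _ _ hu hv
      exact ⟨fun x hx => by simpa [mul_assoc] using hu.1 _ (hv.1 x hx),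
        fun x hx => by simpa [mul_assoc] using hv.2 _ (hu.2 x hx)⟩
    · intro u _ hu
      rw [inv_inv]
      exact ⟨hu.2, hu.1⟩
  exact ⟨fun x hx g => (hn g).1 x hx⟩

/-- A member has conjugates of both kinds under a component. -/
theorem exists_both_kinds {L : Subgroup G} (hL : Cfsg.IsComponent L) {d : G} (hd : d ∈ D) :
    (∃ l ∈ L, d * (l * d * l⁻¹) ≠ 1 ∧ (d * (l * d * l⁻¹)) ^ 2 = 1) ∧
      (∃ l ∈ L, d * (l * d * l⁻¹) ≠ 1 ∧ (d * (l * d * l⁻¹)) ^ 3 = 1) := by
  haveI := h.component_normal hL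
  have hnc : ¬ ∀ x ∈ L, d * x = x * d := fun hc =>
    h.not_component_central hL (h.normal_le_center hd hc)
  constructor
  · by_contra hcon
    push Not at hcon
    refine hnc (comm_component_of_uniform h.tt hd hL (h.normalizes_component hL hd) (Or.inr ?_))
    intro l hl
    rcases sq_or_cube h.tt hd (h.tt.conj l d hd) with h' | h'
    · by_cases h1 : d * (l * d * l⁻¹) = 1
      · rw [h1, one_pow]
      · exact absurd h' (hcon l hl h1)
    · exact h'
  · by_contra hcon
    push Not at hcon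
    refine hnc (comm_component_of_uniform h.tt hd hL (h.normalizes_component hL hd) (Or.inl ?_))
    intro l hl
    rcases sq_or_cube h.tt hd (h.tt.conj l d hd) with h' | h'
    · exact h'
    · by_cases h1 : d * (l * d * l⁻¹) = 1
      · rw [h1, one_pow]
      · exact absurd h' (hcon l hl h1)

omit [Finite G] in
theorem component_mem {L : Subgroup G} [hn : L.Normal] {d l : G} (hd : d ∈ D) (hl : l ∈ L) :
    d * (l * d * l⁻¹) ∈ L := by
  have h1 := L.mul_mem (hn.conj_mem l hl d) (L.inv_mem hl)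
  rw [h.tt.inv_eq hd] at h1
  simpa [mul_assoc] using h1

/-- A noncentral core excludes components. -/
theorem layer_eq_bot {p : ℕ} (hp : p = 2 ∨ p = 3) (hnc : ¬ Cfsg.pCore p G ≤ Subgroup.center G) :
    Cfsg.layer G = ⊥ := by
  rw [CfsgLib.Cores.layer_eq_bot_iff]
  intro L hL
  haveI := h.component_normal hL
  haveI := CfsgLib.Cores.pCore_characteristic (G := G) p
  haveI : (Cfsg.pCore p G).Normal := inferInstance
  haveI : Fact p.Prime := ⟨by rcases hp with rfl | rfl <;> norm_num⟩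
  obtain ⟨a, ha, -⟩ := h.nontriv
  obtain ⟨q, hq, hq1⟩ := h.exists_move hnc ha
  obtain ⟨⟨l, hl, hl1, hl2⟩, ⟨m, hm, hm1, hm3⟩⟩ := h.exists_both_kinds hL ha
  have hc : ∀ x ∈ L, Commute (a * (q * a * q⁻¹)) x := by
    intro x hx
    have := CfsgLib.Cores.layer_le_centralizer_fittingSubgroup (CfsgLib.Cores.component_le_layer hL hx)
    exact Subgroup.mem_centralizer_iff.1 this _ (CfsgLib.Cores.pCore_le_fittingSubgroup p (h.pCore_mem ha hq))
  have hpw := h.pCore_pow hp ha hq
  rcases hp with rfl | rfl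
  · have hcm := hc _ (h.component_mem ha hm)
    exact not_order_six hcm.inv_left (by rw [inv_pow, hpw, inv_one]) (inv_ne_one.mpr hq1) hm3 hm1
      (pair_cond h.tt ha hcm)
  · have hcl := hc _ (h.component_mem ha hl)
    exact not_order_six' hcl.inv_left (by rw [inv_pow, hpw, inv_one]) (inv_ne_one.mpr hq1) hl2 hl1
      (pair_cond h.tt ha hcl)

/-- There is at most one component. -/
theorem component_unique {L K : Subgroup G} (hL : Cfsg.IsComponent L) (hK : Cfsg.IsComponent K) :
    L = K := by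
  by_contra hne
  haveI := h.component_normal hL
  haveI := h.component_normal hK
  obtain ⟨a, ha, -⟩ := h.nontriv
  obtain ⟨⟨l, hl, hl1, hl2⟩, -⟩ := h.exists_both_kinds hL ha
  obtain ⟨-, ⟨m, hm, hm1, hm3⟩⟩ := h.exists_both_kinds hK ha
  have hc : Commute (a * (l * a * l⁻¹)) (a * (m * a * m⁻¹)) :=
    (Subgroup.mem_centralizer_iff.1 (Subgroup.commutator_eq_bot_iff_le_centralizer.1
      (CfsgLib.Cores.commutator_components_eq_bot hL hK hne) (h.component_mem ha hl)) _
      (h.component_mem ha hm)).symm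
  exact not_order_six hc.inv_left (by rw [inv_pow, hl2, inv_one]) (inv_ne_one.mpr hl1) hm3 hm1
    (pair_cond h.tt ha hc)

theorem fitting_le_center (h2 : Cfsg.pCore 2 G ≤ Subgroup.center G)
    (h3 : Cfsg.pCore 3 G ≤ Subgroup.center G) : Cfsg.fittingSubgroup G ≤ Subgroup.center G := by
  refine CfsgLib.Cores.fittingSubgroup_le_iSup_pCore.trans (iSup_le fun p => ?_)
  have hp := Nat.prime_of_mem_primeFactors p.2
  rcases le_or_gt (p : ℕ) 3 with h' | h'
  · have h1 := hp.two_le
    rcases (by omega : (p : ℕ) = 2 ∨ (p : ℕ) = 3) with e | e <;> rw [e] <;> assumption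
  · exact h.pCore_le_center hp h'

omit [Finite G] h in
theorem center_le_fitting [Finite G] : Subgroup.center G ≤ Cfsg.fittingSubgroup G :=
  CfsgLib.Cores.le_fittingSubgroup (by
    exact CfsgLib.Cores.isNilpotent_of_commutator_commutator_eq_bot (by
      have : ⁅Subgroup.center G, Subgroup.center G⁆ = ⊥ := by
        rw [Subgroup.commutator_eq_bot_iff_le_centralizer]
        exact fun x hx => Subgroup.mem_centralizer_iff.2 fun y _ => Subgroup.mem_center_iff.1 hx y
      rw [this, Subgroup.commutator_bot_left]))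

theorem layer_ne_bot (h2 : Cfsg.pCore 2 G ≤ Subgroup.center G)
    (h3 : Cfsg.pCore 3 G ≤ Subgroup.center G) : Cfsg.layer G ≠ ⊥ := by
  intro hb
  have hc := CfsgLib.Cores.layer_eq_bot_iff_centralizer_fitting_le.1 hb
  obtain ⟨a, ha, -⟩ := h.nontriv
  refine h.ne_center ha (h.fitting_le_center h2 h3 (hc ?_))
  exact Subgroup.mem_centralizer_iff.2 fun y hy =>
    (Subgroup.mem_center_iff.1 (h.fitting_le_center h2 h3 hy) a).symm

/-- The single component and its basic properties. -/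
theorem exists_main_component (h2 : Cfsg.pCore 2 G ≤ Subgroup.center G)
    (h3 : Cfsg.pCore 3 G ≤ Subgroup.center G) :
    ∃ L : Subgroup G, L.Normal ∧ Cfsg.IsComponent L ∧
      Cfsg.generalizedFittingSubgroup G = L ⊔ Subgroup.center G ∧
      Subgroup.centralizer (L : Set G) = Subgroup.center G := by
  have hne := h.layer_ne_bot h2 h3
  rw [ne_eq, CfsgLib.Cores.layer_eq_bot_iff] at hne
  push Not at hne
  obtain ⟨L, hL⟩ := hne
  have hlay : Cfsg.layer G = L := le_antisymm
    (CfsgLib.Cores.layer_le_iff.2 fun K hK => (h.component_unique hK hL).le)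
    (CfsgLib.Cores.component_le_layer hL)
  have hF : Cfsg.fittingSubgroup G = Subgroup.center G :=
    le_antisymm (h.fitting_le_center h2 h3) center_le_fitting
  have hgen : Cfsg.generalizedFittingSubgroup G = L ⊔ Subgroup.center G := by
    rw [Cfsg.generalizedFittingSubgroup, hlay, hF]
  refine ⟨L, h.component_normal hL, hL, hgen, le_antisymm ?_ (Subgroup.center_le_centralizer _)⟩
  intro x hx
  haveI := h.component_normal hL
  have hxC : x ∈ Subgroup.centralizer (Cfsg.generalizedFittingSubgroup G : Set G) := by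
    rw [hgen, Subgroup.mem_centralizer_iff]
    intro y hy
    obtain ⟨l, hl, z, hz, rfl⟩ := Subgroup.mem_sup_of_normal_right.1 hy
    rw [mul_assoc, ← Subgroup.mem_center_iff.1 hz x, ← mul_assoc,
      Subgroup.mem_centralizer_iff.1 hx l hl, mul_assoc]
  have hxF := CfsgLib.Cores.centralizer_generalizedFittingSubgroup_le hxC
  rw [hgen] at hxF
  obtain ⟨l, hl, z, hz, rfl⟩ := Subgroup.mem_sup_of_normal_right.1 hxF
  refine Subgroup.mul_mem _ ?_ hz
  have hlC : l ∈ Subgroup.centralizer (L : Set G) := by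
    have hz' : z ∈ Subgroup.centralizer (L : Set G) := Subgroup.center_le_centralizer _ hz
    simpa using Subgroup.mul_mem _ hx (Subgroup.inv_mem _ hz')
  haveI : ((Subgroup.center L).map L.subtype).Normal := CfsgLib.Cores.map_center_normal L
  exact h.fitting_le_center h2 h3 (CfsgLib.Cores.le_fittingSubgroup
    (CfsgLib.Cores.isNilpotent_center_map L)
    (by rw [CfsgLib.Cores.map_center_eq_inf_centralizer]; exact ⟨hl, hlC⟩))

/-- Modulo the component two commuting members agree. -/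
theorem inv_mul_mem_component {L : Subgroup G} (hL : Cfsg.IsComponent L)
    (hC : Subgroup.centralizer (L : Set G) = Subgroup.center G) {a b : G} (ha : a ∈ D) (hb : b ∈ D)
    (hab : a * b * a⁻¹ * b⁻¹ ∈ L) : a⁻¹ * b ∈ L := by
  haveI hn := h.component_normal hL
  rw [h.tt.inv_eq ha, h.tt.inv_eq hb] at hab
  by_contra hnot
  rw [h.tt.inv_eq ha] at hnot
  -- the two orbits commute elementwise
  have hcross : ∀ l ∈ L, ∀ m ∈ L, Commute (l * a * l⁻¹) (m * b * m⁻¹) := by
    intro l hl m hm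
    rcases h.tt.cond _ (h.tt.conj l a ha) _ (h.tt.conj m b hb) with hc | hc
    · exact hc
    · exfalso
      apply hnot
      rw [← QuotientGroup.eq_one_iff (N := L), QuotientGroup.mk_mul]
      have hl0 : (QuotientGroup.mk l : G ⧸ L) = 1 := (QuotientGroup.eq_one_iff _).2 hl
      have hm0 : (QuotientGroup.mk m : G ⧸ L) = 1 := (QuotientGroup.eq_one_iff _).2 hm
      have hc' := congrArg (QuotientGroup.mk : G → G ⧸ L) hc
      simp only [QuotientGroup.mk_mul, QuotientGroup.mk_inv, hl0, hm0, one_mul, inv_one, mul_one] at hc'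
      have h1 : ((a : G ⧸ L) * b * a) * b = 1 := by
        rw [← QuotientGroup.mk_mul, ← QuotientGroup.mk_mul, ← QuotientGroup.mk_mul, QuotientGroup.eq_one_iff]
        exact hab
      have hbb : (b : G ⧸ L) * b = 1 := by rw [← QuotientGroup.mk_mul, h.tt.sq b hb, QuotientGroup.mk_one]
      have h2 : (a : G ⧸ L) * b * a = b := by
        rw [mul_eq_one_iff_eq_inv, inv_eq_of_mul_eq_one_right hbb] at h1; exact h1
      rw [h2] at hc'
      have h3 : (b : G ⧸ L) * a * b = b := hc'.symm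
      rwa [mul_assoc, mul_eq_left] at h3
  -- so `b` centralizes the component
  have hgenL : ∀ x ∈ L, b * x = x * b := by
    let C := L ⊓ Subgroup.centralizer {y : G | ∃ m ∈ L, y = m * b * m⁻¹}
    have hCn : (C.subgroupOf L).Normal := by
      refine ⟨fun x hx g => ⟨(g * x * g⁻¹).2, ?_⟩⟩
      show ((g * x * g⁻¹ : L) : G) ∈ Subgroup.centralizer _
      rw [Subgroup.mem_centralizer_iff]
      rintro _ ⟨m, hm, rfl⟩
      have hx2 := Subgroup.mem_centralizer_iff.1 hx.2 ((g : G)⁻¹ * m * b * ((g : G)⁻¹ * m)⁻¹)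
        ⟨_, L.mul_mem (L.inv_mem g.2) hm, rfl⟩
      simp only [Subgroup.coe_mul, Subgroup.coe_inv]
      calc m * b * m⁻¹ * ((g : G) * x * (g : G)⁻¹)
          = (g : G) * ((g : G)⁻¹ * m * b * ((g : G)⁻¹ * m)⁻¹ * x) * (g : G)⁻¹ := by group
        _ = (g : G) * (x * ((g : G)⁻¹ * m * b * ((g : G)⁻¹ * m)⁻¹)) * (g : G)⁻¹ := by
            exact congrArg (fun t => (g : G) * t * (g : G)⁻¹) hx2
        _ = (g : G) * x * (g : G)⁻¹ * (m * b * m⁻¹) := by group
    rcases CfsgLib.Cores.normal_eq_top_or_le_center_of_isQuasisimple hL.2 (C.subgroupOf L) with ht | hc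
    · intro x hx
      have hxC : x ∈ C := by
        have : (⟨x, hx⟩ : L) ∈ C.subgroupOf L := ht ▸ Subgroup.mem_top _
        exact this
      exact Subgroup.mem_centralizer_iff.1 hxC.2 b ⟨1, L.one_mem, by group⟩
    · exfalso
      obtain ⟨⟨l, hl, hl1, -⟩, -⟩ := h.exists_both_kinds hL ha
      obtain ⟨⟨l', hl', hl1', hl2'⟩, ⟨m', hm', hm1', hm3'⟩⟩ := h.exists_both_kinds hL ha
      have hmemC : ∀ k ∈ L, a * (k * a * k⁻¹) ∈ Subgroup.center G := by
        intro k hk
        have hkL := h.component_mem ha hk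
        have : (⟨_, hkL⟩ : L) ∈ C.subgroupOf L := by
          refine ⟨hkL, ?_⟩
          show a * (k * a * k⁻¹) ∈ Subgroup.centralizer _
          rw [Subgroup.mem_centralizer_iff]
          rintro _ ⟨m, hm, rfl⟩
          have e1 := hcross 1 L.one_mem m hm
          simp only [one_mul, inv_one, mul_one] at e1
          exact ((e1.symm).mul_right (hcross k hk m hm).symm).eq
        rw [← hC, Subgroup.mem_centralizer_iff]
        intro y hy
        exact congrArg Subtype.val (Subgroup.mem_center_iff.1 (hc this) ⟨y, hy⟩)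
      -- central products of orders two and three
      have hcc : Commute (a * (l' * a * l'⁻¹)) (a * (m' * a * m'⁻¹)) :=
        (Subgroup.mem_center_iff.1 (hmemC l' hl') _).symm
      exact not_order_six hcc.inv_left (by rw [inv_pow, hl2', inv_one]) (inv_ne_one.mpr hl1') hm3' hm1'
        (pair_cond h.tt ha hcc)
  apply h.ne_center hb
  rw [← hC, Subgroup.mem_centralizer_iff]
  exact fun x hx => (hgenL x hx).symm

end TTC

end CfsgLib.SporMisc
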