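import Cfsg.Prelude.Def_FischerSpaces
import Cfsg.Agent.Lib.SporMisc.ThreeStruct
import Cfsg.Agent.Lib.ThreeTransp.Transitive

/-!
# Blocks of imprimitivity on a class of 3-transpositions
-/

set_option autoImplicit false

namespace CfsgLib.SporMisc

open CfsgLib.ThreeTransp

variable {G : Type*} [Group G] {D : Set G}

/-- Any equivariant key is fixed by the products of two members with equal keys. -/
theorem keyFixing_of_equivariant (hD : IsTT D) {α : Type*} {key : G → α} (he : Equivariant D key) :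
    KeyFixing D key := by
  have conj' : ∀ g : G, g ∈ D → ∀ x ∈ D, ∀ y ∈ D, key x = key y → key (g * x * g) = key (g * y * g) := by
    intro g hg x hx y hy h
    have := he g x hx y hy h
    rwa [hD.inv_eq hg] at this
  have self : ∀ g ∈ D, g * g * g = g := fun g hg => by rw [hD.sq g hg, one_mul]
  have comm : ∀ a ∈ D, ∀ b ∈ D, key a = key b → ∀ z ∈ D, key z ≠ key a → Commute a z → Commute b z := by
    intro a ha b hb hab z hz hne hc
    by_contra hbz
    have e1 := conj' z hz b hb a ha hab.symm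
    rw [show z * a * z = a by rw [← hc.eq, mul_assoc, hD.sq z hz, mul_one],
      ← hD.braid hb hz hbz] at e1
    have e2 := conj' b hb _ (hD.cj_mem hb hz) b hb (e1.trans hab)
    rw [self b hb] at e2
    rw [show b * (b * z * b) * b = z by simp [mul_assoc, cancel₂ (hD.sq b hb), hD.sq b hb]] at e2
    exact hne (e2.trans hab.symm)
  have swap : ∀ a ∈ D, ∀ b ∈ D, key a = key b → ∀ z ∈ D, key (a * z * a) = key (b * z * b) := by
    intro a ha b hb hab z hz
    by_cases hza : key z = key a
    · have e1 := conj' a ha z hz a ha hza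
      have e2 := conj' b hb z hz b hb (hza.trans hab)
      rw [e1, e2, self a ha, self b hb, hab]
    · by_cases hc : Commute a z
      · have hc' := comm a ha b hb hab z hz hza hc
        rw [hc.eq, hc'.eq, mul_assoc, mul_assoc, hD.sq a ha, hD.sq b hb]
      · have hc' : ¬ Commute b z := fun h =>
          hc (comm b hb a ha hab.symm z hz (fun e => hza (e.trans hab.symm)) h)
        rw [hD.braid ha hz hc, hD.braid hb hz hc']
        exact conj' z hz a ha b hb hab
  intro a ha b hb hab y hy
  rw [mul_inv_rev, hD.inv_eq ha, hD.inv_eq hb]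
  have e := swap a ha b hb hab _ (hD.cj_mem hb hy)
  rw [show (a * b) * y * (b * a) = a * (b * y * b) * a by group, e]
  simp [mul_assoc, cancel₂ (hD.sq b hb), hD.sq b hb]

/-- The primitivity clause in terms of keys. -/
theorem key_trivial_of_primitive (hD : IsTT D) (hp : Cfsg.IsPrimitiveUnderConj D) {α : Type*}
    {key : G → α} (he : Equivariant D key) :
    (∀ a ∈ D, ∀ b ∈ D, key a = key b → a = b) ∨ (∀ a ∈ D, ∀ b ∈ D, key a = key b) := by
  by_contra hcon
  push Not at hcon
  obtain ⟨⟨a, ha, b, hb, hab, hne⟩, c, hc, e, hee, hce⟩ := hcon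
  have hblock : ∀ g : G, (fun x => g * x * g⁻¹) '' {x | x ∈ D ∧ key x = key a} = {x | x ∈ D ∧ key x = key a} ∨
      Disjoint ((fun x => g * x * g⁻¹) '' {x | x ∈ D ∧ key x = key a}) {x | x ∈ D ∧ key x = key a} := by
    intro g
    by_cases hd : Disjoint ((fun x => g * x * g⁻¹) '' {x | x ∈ D ∧ key x = key a}) {x | x ∈ D ∧ key x = key a}
    · exact Or.inr hd
    left
    rw [Set.not_disjoint_iff] at hd
    obtain ⟨_, ⟨x, ⟨hx, hxk⟩, rfl⟩, -, hgk⟩ := hd
    refine Set.Subset.antisymm ?_ ?_
    · rintro _ ⟨y, ⟨hy, hyk⟩, rfl⟩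
      exact ⟨hD.conj g y hy, (he g y hy x hx (hyk.trans hxk.symm)).trans hgk⟩
    · rintro y ⟨hy, hyk⟩
      have h1 : g⁻¹ * y * g ∈ D := by simpa using hD.conj g⁻¹ y hy
      refine ⟨g⁻¹ * y * g, ⟨h1, ?_⟩, by group⟩
      have := he g⁻¹ y hy _ (hD.conj g x hx) (hyk.trans hgk.symm)
      simp only [inv_inv] at this
      rw [this, show g⁻¹ * (g * x * g⁻¹) * g = x by group, hxk]
  rcases hp.2.2 _ (fun x hx => hx.1) hblock with h | h
  · exact hne (h ⟨ha, rfl⟩ ⟨hb, hab.symm⟩)
  · rw [← h] at hc hee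
    exact hce (hc.2.trans hee.2.symm)

/-- Primitivity from triviality of the keys. -/
theorem primitive_of_keys (hD : IsTT D) (hcls : ∀ a ∈ D, ∀ b ∈ D, ∃ g : G, g * a * g⁻¹ = b)
    (h2 : ∃ a ∈ D, ∃ b ∈ D, a ≠ b)
    (H : ∀ key : G → Set (Set G), Equivariant D key →
      (∀ a ∈ D, ∀ b ∈ D, key a = key b → a = b) ∨ (∀ a ∈ D, ∀ b ∈ D, key a = key b)) :
    Cfsg.IsPrimitiveUnderConj D := by
  refine ⟨hcls, h2, fun B hBD hblock => ?_⟩
  by_cases hs : B.Subsingleton
  · exact Or.inl hs
  right
  rw [Set.not_subsingleton_iff] at hs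
  obtain ⟨p, hp, q, hq, hpq⟩ := hs
  let img : G → Set G := fun g => (fun x => g * x * g⁻¹) '' B
  let key : G → Set (Set G) := fun a => {T | ∃ g, T = img g ∧ a ∈ T}
  have himg : ∀ g h : G, img (g * h) = (fun x => g * x * g⁻¹) '' img h := by
    intro g h
    simp only [img, Set.image_image]
    exact Set.image_congr fun x _ => by group
  have huniq : ∀ g h : G, ∀ x, x ∈ img g → x ∈ img h → img g = img h := by
    intro g h x hxg hxh
    have hmem : h⁻¹ * x * h ∈ img (h⁻¹ * g) := by
      rw [himg]; exact ⟨x, hxg, by group⟩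
    have hxB : h⁻¹ * x * h ∈ B := by
      obtain ⟨y, hy, rfl⟩ := hxh
      simpa [mul_assoc] using hy
    rcases hblock (h⁻¹ * g) with e | e
    · have : img g = (fun x => h * x * h⁻¹) '' img (h⁻¹ * g) := by rw [← himg, mul_inv_cancel_left]
      rw [this]
      show (fun x => h * x * h⁻¹) '' ((fun x => h⁻¹ * g * x * (h⁻¹ * g)⁻¹) '' B) = img h
      rw [e]
    · exact absurd hxB (Set.disjoint_left.1 e hmem)
  have hone : img 1 = B := by simp [img]
  have hex : ∀ a ∈ D, ∃ g, a ∈ img g := by
    intro a ha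
    obtain ⟨g, hg⟩ := hcls p (hBD hp) a ha
    exact ⟨g, p, hp, hg⟩
  have hkey : ∀ a b g : G, a ∈ img g → b ∈ img g → key a = key b := by
    intro a b g ha hb
    ext T
    constructor
    · rintro ⟨h, rfl, hh⟩
      exact ⟨h, rfl, huniq g h a ha hh ▸ hb⟩
    · rintro ⟨h, rfl, hh⟩
      exact ⟨h, rfl, huniq g h b hb hh ▸ ha⟩
  have hequiv : Equivariant D key := by
    intro k a ha b hb hab
    obtain ⟨g, hg⟩ := hex a ha
    have : img g ∈ key b := hab ▸ (⟨g, rfl, hg⟩ : img g ∈ key a)
    obtain ⟨-, -, hgb⟩ := this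
    refine hkey _ _ (k * g) ?_ ?_
    · rw [himg]; exact ⟨a, hg, rfl⟩
    · rw [himg]; exact ⟨b, hgb, rfl⟩
  rcases H key hequiv with h | h
  · exact absurd (h p (hBD hp) q (hBD hq) (hkey p q 1 (hone.symm ▸ hp) (hone.symm ▸ hq))) hpq
  · refine Set.Subset.antisymm hBD fun a ha => ?_
    have : img 1 ∈ key a := h p (hBD hp) a ha ▸ (⟨1, rfl, hone.symm ▸ hp⟩ : img 1 ∈ key p)
    obtain ⟨-, -, h'⟩ := this
    rwa [hone] at h'

namespace TTC

variable [Finite G] (h : TTC D)
include h

/-- Members differing by a central element are equal. -/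
theorem eq_of_central_mul {a b : G} (ha : a ∈ D) (hb : b ∈ D) (hc : a * b ∈ Subgroup.center G) : a = b := by
  by_contra hne
  set z := a * b with hz
  have hba : b = a * z := by rw [hz, ← mul_assoc, h.tt.sq a ha, one_mul]
  have hcomm : Commute a b := by
    show a * b = b * a
    rw [← hz, hba, mul_assoc, ← Subgroup.mem_center_iff.1 hc a, ← mul_assoc, h.tt.sq a ha, one_mul]
  obtain ⟨x, hx, hxa⟩ : ∃ x ∈ D, ¬ Commute x a := by
    by_contra hall
    push Not at hall
    have hle : Subgroup.zpowers a ≤ Subgroup.center G := h.le_center fun d hd y hy => by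
      obtain ⟨k, rfl⟩ := hy
      exact ((hall d hd).zpow_right k).eq
    exact h.ne_center ha (hle (Subgroup.mem_zpowers a))
  have h3 := pow_three_eq_one (h.tt.sq x hx) (h.tt.sq a ha) (h.tt.braid hx ha hxa)
  have hz2 : z ^ 2 = 1 := by rw [hz, hcomm.mul_pow, pow_two, pow_two, h.tt.sq a ha, h.tt.sq b hb, one_mul]
  have hcz : Commute (x * a) z := Subgroup.mem_center_iff.1 hc _
  have hxb : x * b = (x * a) * z := by rw [hba, mul_assoc]
  rcases sq_or_cube h.tt hx hb with e | e
  · rw [hxb, hcz.mul_pow, hz2, mul_one] at e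
    rw [pow_succ, e, one_mul, mul_eq_one_iff_eq_inv, h.tt.inv_eq ha] at h3
    exact hxa (h3 ▸ Commute.refl a)
  · rw [hxb, hcz.mul_pow, h3, one_mul, pow_succ, hz2, one_mul] at e
    rw [hz, mul_eq_one_iff_eq_inv, h.tt.inv_eq hb] at e
    exact hne e

theorem key_injective_of_central {α : Type*} {key : G → α}
    (hc : keyKer D key ≤ Subgroup.center G) {a b : G} (ha : a ∈ D) (hb : b ∈ D) (hab : key a = key b) : a = b :=
  h.eq_of_central_mul ha hb (hc (mul_mem_keyKer ha hb hab))

/-- A key fixed by a normal subgroup `N` with `G = N⟨d⟩` is constant. -/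
theorem key_constant {α : Type*} {key : G → α} (hk : KeyFixing D key) (he : Equivariant D key)
    {N : Subgroup G} [N.Normal] (hN : N ≤ keyKer D key) {d : G} (hd : d ∈ D)
    (htop : N ⊔ Subgroup.zpowers d = ⊤) : ∀ a ∈ D, ∀ b ∈ D, key a = key b := by
  suffices hall : ∀ a ∈ D, key a = key d from fun a ha b hb => (hall a ha).trans (hall b hb).symm
  intro a ha
  obtain ⟨g, rfl⟩ := h.cls d hd a ha
  obtain ⟨n, hn, m, hm, rfl⟩ := Subgroup.mem_sup_of_normal_left.1 (htop ▸ Subgroup.mem_top g)
  obtain ⟨i, rfl⟩ := hm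
  have : d ^ i * d * (d ^ i)⁻¹ = d := by rw [← zpow_add_one, ← zpow_neg, ← zpow_add]; simp
  rw [show n * d ^ i * d * (n * d ^ i)⁻¹ = n * (d ^ i * d * (d ^ i)⁻¹) * n⁻¹ by group, this]
  exact h.tt.key_conj_of_mem_keyKer hk (hN hn) hd

theorem normal_central_or_ge {L : Subgroup G} (hL : Cfsg.IsComponent L)
    (hC : Subgroup.centralizer (L : Set G) = Subgroup.center G) (N : Subgroup G) [N.Normal] :
    N ≤ Subgroup.center G ∨ L ≤ N := by
  rcases CfsgLib.Cores.component_le_or_commutator_eq_bot hL (Subgroup.Normal.isSubnormal (H := N) inferInstance) with h' | h'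
  · exact Or.inr h'
  · left
    rw [← hC]
    exact Subgroup.le_centralizer_iff.1 (Subgroup.commutator_eq_bot_iff_le_centralizer.1 h')

/-- Index at most two gives primitivity. -/
theorem primitive_of_index {L : Subgroup G} (hL : Cfsg.IsComponent L)
    (hC : Subgroup.centralizer (L : Set G) = Subgroup.center G) (hi : L.index ≤ 2) :
    Cfsg.IsPrimitiveUnderConj D := by
  haveI := h.component_normal hL
  obtain ⟨d, hd, -⟩ := h.nontriv
  have htop : L ⊔ Subgroup.zpowers d = ⊤ := by
    by_cases hdL : d ∈ L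
    · rw [eq_top_iff, ← h.gen, Subgroup.closure_le]
      intro e he
      obtain ⟨g, rfl⟩ := h.cls d hd e he
      exact Subgroup.mem_sup_left ((inferInstance : L.Normal).conj_mem d hdL g)
    · have h2 : L.index = 2 := by
        have h0 : L.index ≠ 0 := Subgroup.index_ne_zero_of_finite
        have h1 : L.index ≠ 1 := fun h1 => hdL (Subgroup.index_eq_one.1 h1 ▸ Subgroup.mem_top d)
        omega
      refine eq_top_iff.2 fun g _ => ?_
      by_cases hg : g ∈ L
      · exact Subgroup.mem_sup_left hg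
      · have : g * d ∈ L := (Subgroup.mul_mem_iff_of_index_two h2).2 (iff_of_false hg hdL)
        rw [show g = g * d * d⁻¹ by group]
        exact Subgroup.mul_mem _ (Subgroup.mem_sup_left this)
          (Subgroup.mem_sup_right (Subgroup.inv_mem _ (Subgroup.mem_zpowers d)))
  refine primitive_of_keys h.tt h.cls h.nontriv fun key he => ?_
  haveI := h.tt.keyKer_normal he
  rcases h.normal_central_or_ge hL hC (keyKer D key) with hc | hge
  · exact Or.inl fun a ha b hb hab => h.key_injective_of_central hc ha hb hab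
  · exact Or.inr (h.key_constant (keyFixing_of_equivariant h.tt he) he hge hd htop)

omit [Finite G] in
theorem connected_iff : (Cfsg.commutingGraph D).Connected ↔
    ∀ a ∈ D, ∀ b ∈ D, comp D Commute a = comp D Commute b := by
  constructor
  · intro hc a ha b hb
    refine (comp_eq_of_mem (fun _ _ hh => hh.symm) ?_).symm
    have := hc.preconnected ⟨a, ha⟩ ⟨b, hb⟩
    rw [SimpleGraph.reachable_iff_reflTransGen] at this
    refine Relation.ReflTransGen.lift (p := fun u v => u ∈ D ∧ v ∈ D ∧ Commute u v) Subtype.val ?_ _ _ this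
    intro u v huv
    refine ⟨u.2, v.2, ?_⟩
    rcases ((SimpleGraph.fromRel_adj _ _ _).mp huv).2 with h' | h'
    · exact h'
    · exact h'.symm
  · intro H
    obtain ⟨a₀, ha₀, -⟩ := h.nontriv
    haveI : Nonempty D := ⟨⟨a₀, ha₀⟩⟩
    refine ⟨?_⟩
    rintro ⟨a, ha⟩ ⟨b, hb⟩
    have hab : b ∈ comp D Commute a := (H a ha b hb).symm ▸ mem_comp_self _ _ _
    suffices ∀ y, Relation.ReflTransGen (fun u v => u ∈ D ∧ v ∈ D ∧ Commute u v) a y →
        ∀ hy : y ∈ D, (Cfsg.commutingGraph D).Reachable ⟨a, ha⟩ ⟨y, hy⟩ from this b hab hb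
    intro y hy
    induction hy with
    | refl => exact fun _ => SimpleGraph.Reachable.refl _
    | @tail u v _ huv ih =>
      intro hv
      refine (ih huv.1).trans ?_
      by_cases he : u = v
      · subst he; exact SimpleGraph.Reachable.refl _
      · exact SimpleGraph.Adj.reachable ((SimpleGraph.fromRel_adj _ _ _).mpr
          ⟨fun e => he (congrArg Subtype.val e), Or.inl huv.2.2⟩)

/-- A connected commuting graph gives index at most two. -/
theorem index_le_two_of_connected {L : Subgroup G} (hL : Cfsg.IsComponent L)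
    (hC : Subgroup.centralizer (L : Set G) = Subgroup.center G)
    (hconn : ∀ a ∈ D, ∀ b ∈ D, comp D Commute a = comp D Commute b) : L.index ≤ 2 := by
  haveI := h.component_normal hL
  obtain ⟨d, hd, -⟩ := h.nontriv
  have hall : ∀ y, Relation.ReflTransGen (fun u v => u ∈ D ∧ v ∈ D ∧ Commute u v) d y →
      (y : G ⧸ L) = (d : G ⧸ L) := by
    intro y hy
    induction hy with
    | refl => rfl
    | @tail u v _ huv ih =>
      rw [← ih]
      refine (QuotientGroup.eq.2 (h.inv_mul_mem_component hL hC huv.1 huv.2.1 ?_)).symm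
      rw [huv.2.2.eq]
      simp
  have hD' : ∀ e ∈ D, (e : G ⧸ L) = (d : G ⧸ L) := fun e he =>
    hall e (show e ∈ comp D Commute d by rw [hconn d hd e he]; exact mem_comp_self _ _ _)
  have hrange : ∀ x : G ⧸ L, x ∈ Subgroup.zpowers (d : G ⧸ L) := by
    intro x
    obtain ⟨g, rfl⟩ := QuotientGroup.mk_surjective x
    have hle : Subgroup.closure D ≤ (Subgroup.zpowers (d : G ⧸ L)).comap (QuotientGroup.mk' L) := by
      rw [Subgroup.closure_le]
      intro e he
      show (e : G ⧸ L) ∈ Subgroup.zpowers (d : G ⧸ L)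
      rw [hD' e he]
      exact Subgroup.mem_zpowers _
    exact hle (h.gen ▸ Subgroup.mem_top g)
  have ho : orderOf (d : G ⧸ L) ≤ 2 :=
    Nat.le_of_dvd (by norm_num) (orderOf_dvd_of_pow_eq_one (by
      rw [← QuotientGroup.mk_pow, pow_two, h.tt.sq d hd, QuotientGroup.mk_one]))
  rw [Subgroup.index_eq_card, ← Subgroup.card_top,
    show (⊤ : Subgroup (G ⧸ L)) = Subgroup.zpowers (d : G ⧸ L) from (eq_top_iff.2 fun x _ => hrange x).symm,
    Nat.card_zpowers]
  exact ho

/-- Facts forced by primitivity in width at least two. -/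
theorem of_primitive (hp : Cfsg.IsPrimitiveUnderConj D) (hw : ∃ a ∈ D, ∃ b ∈ D, a ≠ b ∧ Commute a b) :
    (∀ a ∈ D, ∀ b ∈ D, comp D Commute a = comp D Commute b) ∧
      Cfsg.pCore 2 G ≤ Subgroup.center G ∧ Cfsg.pCore 3 G ≤ Subgroup.center G := by
  obtain ⟨a, ha, b, hb, hne, hab⟩ := hw
  have hcore : ∀ p : ℕ, p = 2 ∨ p = 3 → Cfsg.pCore p G ≤ Subgroup.center G := by
    intro p hp'
    haveI := CfsgLib.Cores.pCore_characteristic (G := G) p
    haveI : (Cfsg.pCore p G).Normal := inferInstance
    by_contra hnc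
    obtain ⟨q, hq, hq1⟩ := h.exists_move hnc ha
    let key : G → Set G := fun x => {y | ∃ r ∈ Cfsg.pCore p G, y = r * x * r⁻¹}
    have hkey : ∀ x, ∀ r ∈ Cfsg.pCore p G, key (r * x * r⁻¹) = key x := by
      intro x r hr
      ext y
      constructor
      · rintro ⟨s, hs, rfl⟩
        exact ⟨s * r, Subgroup.mul_mem _ hs hr, by group⟩
      · rintro ⟨s, hs, rfl⟩
        exact ⟨s * r⁻¹, Subgroup.mul_mem _ hs (Subgroup.inv_mem _ hr), by group⟩
    have he : Equivariant D key := by
      intro g x _ y _ hxy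
      have : y ∈ key x := hxy ▸ ⟨1, Subgroup.one_mem _, by group⟩
      obtain ⟨r, hr, rfl⟩ := this
      rw [show g * (r * x * r⁻¹) * g⁻¹ = (g * r * g⁻¹) * (g * x * g⁻¹) * (g * r * g⁻¹)⁻¹ by group]
      exact (hkey _ _ ((inferInstance : (Cfsg.pCore p G).Normal).conj_mem r hr g)).symm
    rcases key_trivial_of_primitive h.tt hp he with h' | h'
    · have := h' a ha _ (h.tt.conj q a ha) (hkey a q hq).symm
      exact hq1 (by rw [← this]; exact h.tt.sq a ha)
    · have hpair : ∀ x ∈ D, ∀ y ∈ D, (x * y) ^ p = 1 := by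
        intro x hx y hy
        have : y ∈ key x := h' x hx y hy ▸ ⟨1, Subgroup.one_mem _, by group⟩
        obtain ⟨r, hr, rfl⟩ := this
        exact h.pCore_pow hp' hx hr
      rcases hp' with rfl | rfl
      · refine h.ne_center ha (h.le_center (X := Subgroup.zpowers a) (fun x hx y hy => ?_) (Subgroup.mem_zpowers a))
        obtain ⟨k, rfl⟩ := hy
        have hxa := hpair x hx a ha
        rw [pow_two, mul_eq_one_iff_eq_inv, mul_inv_rev, h.tt.inv_eq hx, h.tt.inv_eq ha] at hxa
        exact ((show Commute x a from hxa).zpow_right k).eq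
      · have e3 := hpair a ha b hb
        rw [pow_succ, hab.mul_pow, pow_two, pow_two, h.tt.sq a ha, h.tt.sq b hb, one_mul, one_mul,
          mul_eq_one_iff_eq_inv, h.tt.inv_eq hb] at e3
        exact hne e3
  refine ⟨?_, hcore 2 (Or.inl rfl), hcore 3 (Or.inr rfl)⟩
  rcases key_trivial_of_primitive h.tt hp h.tt.equivariant_comp with h' | h'
  · exact absurd (h' a ha b hb (comp_eq_of_mem (fun _ _ hh => hh.symm) (mem_comp_of_rel ha hb hab)).symm) hne
  · exact h'

/-- The link of every member is connected in the non-commuting graph. -/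
theorem link_connected {L : Subgroup G} (hL : Cfsg.IsComponent L)
    (hC : Subgroup.centralizer (L : Set G) = Subgroup.center G)
    (hconn : ∀ a ∈ D, ∀ b ∈ D, comp D Commute a = comp D Commute b)
    {d a b : G} (hd : d ∈ D) (ha : a ∈ link D d) (hb : b ∈ link D d) : b ∈ lcomp D d a := by
  set π := QuotientGroup.mk' (Subgroup.center G) with hπ
  have hπs : Function.Surjective π := QuotientGroup.mk'_surjective _
  have hinj : ∀ x ∈ D, ∀ y ∈ D, π x = π y → x = y := by
    intro x hx y hy hxy
    have hm : x⁻¹ * y ∈ Subgroup.center G := QuotientGroup.eq.1 hxy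
    rw [h.tt.inv_eq hx] at hm
    exact h.eq_of_central_mul hx hy hm
  have hcomm : ∀ x ∈ D, ∀ y ∈ D, Commute (π x) (π y) → Commute x y := by
    intro x hx y hy hc
    by_contra hn
    have h3 := pow_three_eq_one (h.tt.sq x hx) (h.tt.sq y hy) (h.tt.braid hx hy hn)
    have h2 : π ((x * y) ^ 2) = 1 := by
      rw [map_pow, map_mul, hc.mul_pow, ← map_pow, ← map_pow, pow_two, pow_two, h.tt.sq x hx, h.tt.sq y hy,
        map_one, one_mul]
    have hxy : x * y ∈ Subgroup.center G := by
      rw [← QuotientGroup.eq_one_iff]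
      show π (x * y) = 1
      have e : π ((x * y) ^ 3) = 1 := by rw [h3, map_one]
      rw [pow_succ, map_mul, h2, one_mul] at e
      exact e
    exact hn (h.eq_of_central_mul hx hy hxy ▸ Commute.refl y)
  have htt : IsTT (π '' D) := by
    refine ⟨?_, ?_, ?_, ?_⟩
    · rintro _ ⟨x, hx, rfl⟩; rw [← map_mul, h.tt.sq x hx, map_one]
    · rintro _ ⟨x, hx, rfl⟩ he
      exact h.ne_center hx ((QuotientGroup.eq_one_iff x).1 he)
    · rintro _ ⟨x, hx, rfl⟩ _ ⟨y, hy, rfl⟩
      rcases h.tt.cond x hx y hy with hc | hc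
      · exact Or.inl (hc.map π)
      · exact Or.inr (by rw [← map_mul, ← map_mul, hc, map_mul, map_mul])
    · rintro g _ ⟨x, hx, rfl⟩
      obtain ⟨g, rfl⟩ := hπs g
      exact ⟨g * x * g⁻¹, h.tt.conj g x hx, by simp⟩
  have hgen : Subgroup.closure (π '' D) = ⊤ := by
    rw [← MonoidHom.map_closure, h.gen]
    exact Subgroup.map_top_of_surjective π hπs
  have hsol : ∀ N : Subgroup (G ⧸ Subgroup.center G), N.Normal → Group.IsSolvable N → N = ⊥ := by
    intro N hN hs
    haveI : (N.comap π).Normal := hN.comap π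
    have hMs : Group.IsSolvable (N.comap π) := by
      refine (Group.isSolvable_iff_subgroup_quotient ((Subgroup.center G).subgroupOf (N.comap π))).mpr ⟨?_, ?_⟩
      · exact Group.isSolvable_of_comm fun u v => Subtype.ext (Subtype.ext
          (Subgroup.mem_center_iff.1 v.2 (u : N.comap π)))
      · haveI := hs
        refine Group.isSolvable_of_isSolvable_injective (G' := N)
          (f := QuotientGroup.lift ((Subgroup.center G).subgroupOf (N.comap π))
            ((π.comp (N.comap π).subtype).codRestrict N fun x => x.2)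
            (fun x hx => Subtype.ext ((QuotientGroup.eq_one_iff (x : G)).2 hx))) ?_
        rw [injective_iff_map_eq_one]
        intro x
        obtain ⟨x, rfl⟩ := QuotientGroup.mk_surjective x
        intro hx
        rw [QuotientGroup.eq_one_iff]
        exact (QuotientGroup.eq_one_iff (x : G)).1 (congrArg Subtype.val hx)
    rw [eq_bot_iff]
    intro x hx
    obtain ⟨g, rfl⟩ := hπs x
    have hle : N.comap π ≤ Subgroup.center G := by
      have hn : L ≤ Subgroup.normalizer (N.comap π : Set G) := by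
        rw [Subgroup.normalizer_eq_top (H := N.comap π)]; exact le_top
      have := CfsgLib.Cores.component_commutator_solvable hL hMs hn
      exact fun z hz => hC ▸ Subgroup.le_centralizer_iff.1 (Subgroup.commutator_eq_bot_iff_le_centralizer.1 this) hz
    exact Subgroup.mem_bot.2 ((QuotientGroup.eq_one_iff g).2 (hle hx))
  have hlink : ∀ x ∈ link D d, π x ∈ link (π '' D) (π d) := fun x hx =>
    ⟨⟨x, hx.1, rfl⟩, fun e => hx.2.1 (hinj x hx.1 d hd e), hx.2.2.map π⟩
  have hcomp : ∀ x ∈ D, ∀ y ∈ D, comp (π '' D) Commute (π x) = comp (π '' D) Commute (π y) := by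
    intro x hx y hy
    refine (comp_eq_of_mem (fun _ _ hh => hh.symm) ?_).symm
    have hyx : y ∈ comp D Commute x := hconn x hx y hy ▸ mem_comp_self _ _ _
    exact Relation.ReflTransGen.lift (p := fun u v => u ∈ π '' D ∧ v ∈ π '' D ∧ Commute u v) π
      (fun u v huv => ⟨⟨u, huv.1, rfl⟩, ⟨v, huv.2.1, rfl⟩, huv.2.2.map π⟩) _ _ hyx
  have key := htt.lcomp_eq hgen hsol
    (by
      rintro _ ⟨x, hx, rfl⟩ _ ⟨y, hy, rfl⟩
      obtain ⟨g, hg⟩ := h.cls x hx y hy
      exact ⟨π g, by rw [← hg]; simp⟩)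
    (by rintro _ ⟨x, hx, rfl⟩ _ ⟨y, hy, rfl⟩; exact hcomp x hx y hy)
    ⟨d, hd, rfl⟩ (hlink a ha) (hlink b hb)
  suffices ∀ y, Relation.ReflTransGen (fun u v => u ∈ link (π '' D) (π d) ∧ v ∈ link (π '' D) (π d) ∧ NC u v) (π a) y →
      ∀ x ∈ D, π x = y → x ∈ lcomp D d a from this _ key b hb.1 rfl
  intro y hy
  induction hy with
  | refl => intro x hx hxy; rw [hinj x hx a ha.1 hxy]; exact mem_comp_self _ _ _
  | @tail u v _ huv ih =>
    intro x hx hxv
    obtain ⟨w, hw, rfl⟩ := huv.1.1
    have back : ∀ z ∈ D, π z ∈ link (π '' D) (π d) → z ∈ link D d := fun z hz hl =>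
      ⟨hz, fun e => hl.2.1 (by rw [e]), hcomm d hd z hz hl.2.2⟩
    exact mem_comp_step (ih w hw rfl) (back w hw huv.1) (back x hx (hxv ▸ huv.2.1))
      fun hc => huv.2.2 (hxv ▸ hc.map π)

end TTC

end CfsgLib.SporMisc

namespace CfsgLib.SporMisc

open CfsgLib.ThreeTransp

variable {G : Type*} [Group G] [Finite G] {D : Set G}

omit [Finite G] in
theorem IsTT.of_group (hD : Cfsg.IsThreeTranspositionGroup D) : IsTT D := by
  obtain ⟨⟨h2, h3⟩, hc, -⟩ := hD
  have hsq : ∀ d ∈ D, d * d = 1 := fun d hd => by rw [← pow_two, ← h2 d hd, pow_orderOf_eq_one]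
  refine ⟨hsq, fun d hd h1 => by simpa [h1] using h2 d hd, fun d hd e he => ?_, hc⟩
  rcases h3 d hd e he with h | h
  · refine Or.inl ?_
    have h' : (d * e)⁻¹ = d * e := inv_eq_of_mul_eq_one_right (by rw [← pow_two]; exact h)
    rw [mul_inv_rev, inv_eq_self (hsq d hd), inv_eq_self (hsq e he)] at h'
    exact h'.symm
  · exact Or.inr (braid_of_pow_three (hsq d hd) (hsq e he) h)

theorem TTC.of_prim (hD : Cfsg.IsThreeTranspositionGroup D) (hp : Cfsg.IsPrimitiveUnderConj D) : TTC D :=
  ⟨IsTT.of_group hD, hD.2.2, hp.1, hp.2.1⟩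

/-- In a primitive group of width at least two, the members commuting with one of them generate a maximal `D`-subgroup. -/
theorem TTC.maximal_perp (h : TTC D) (hp : Cfsg.IsPrimitiveUnderConj D)
    (hw : ∃ a ∈ D, ∃ b ∈ D, a ≠ b ∧ Commute a b) {L : Subgroup G} (hL : Cfsg.IsComponent L)
    (hC : Subgroup.centralizer (L : Set G) = Subgroup.center G)
    (hconn : ∀ a ∈ D, ∀ b ∈ D, comp D Commute a = comp D Commute b) {d : G} (hd : d ∈ D) :
    Subgroup.closure (perp D d) ≠ ⊤ ∧ ∀ H : Subgroup G, Cfsg.IsDSubgroup D H →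
      Subgroup.closure (perp D d) ≤ H → H = Subgroup.closure (perp D d) ∨ H = ⊤ := by
  constructor
  · intro htop
    apply h.ne_center hd
    rw [Subgroup.mem_center_iff]
    intro g
    have hle : Subgroup.closure (perp D d) ≤ Subgroup.centralizer {d} := by
      rw [Subgroup.closure_le]
      intro y hy
      exact Subgroup.mem_centralizer_singleton_iff.2 hy.2.eq.symm
    exact Subgroup.mem_centralizer_singleton_iff.1 (hle (htop ▸ Subgroup.mem_top g))
  intro H hH hle
  by_cases hall : ∀ e ∈ D, e ∈ H → Commute d e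
  · left
    refine le_antisymm ?_ hle
    conv_lhs => rw [← hH]
    exact Subgroup.closure_mono fun e he => ⟨he.1, hall e he.1 he.2⟩
  right
  push Not at hall
  obtain ⟨e, he, heH, hde⟩ := hall
  have hPH : ∀ y ∈ D, Commute d y → y ∈ H := fun y hy hc => hle (Subgroup.subset_closure ⟨hy, hc⟩)
  have hdH : d ∈ H := hPH d hd (Commute.refl d)
  set S : Set G := {y | ∃ g ∈ H, y = g * d * g⁻¹} with hS
  have hSD : ∀ s ∈ S, s ∈ D ∧ s ∈ H := by
    rintro _ ⟨g, hg, rfl⟩
    exact ⟨h.tt.conj g d hd, H.mul_mem (H.mul_mem hg hdH) (H.inv_mem hg)⟩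
  have hconjS : ∀ k ∈ H, ∀ s ∈ S, k * s * k⁻¹ ∈ S := by
    rintro k hk _ ⟨g, hg, rfl⟩
    exact ⟨k * g, H.mul_mem hk hg, by group⟩
  have hRS : ∀ r ∈ D, r ∈ H → r ∉ S → ∀ s ∈ S, Commute r s := by
    intro r hr hrH hrS s hs
    by_contra hn
    obtain ⟨hsD, hsH⟩ := hSD s hs
    have := hconjS _ (H.mul_mem (H.mul_mem hsH hrH) hsH) s hs
    rw [h.tt.inv_eq (h.tt.cj_mem hsD hr), h.tt.cj_conj_self hsD hr (fun hc => hn hc.symm)] at this
    exact hrS this
  have hperp : ∀ s ∈ S, ∀ y ∈ D, Commute s y → y ∈ H := by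
    rintro _ ⟨g, hg, rfl⟩ y hy hc
    have h1 : Commute d (g⁻¹ * y * g) := by
      have := hc.map (MulAut.conj g⁻¹).toMonoidHom
      simpa [mul_assoc] using this
    have h2 := hPH _ (by simpa using h.tt.conj g⁻¹ y hy) h1
    simpa [mul_assoc] using H.mul_mem (H.mul_mem hg h2) (H.inv_mem hg)
  by_cases hR : ∀ r ∈ D, r ∈ H → r ∈ S
  · have hcomp : ∀ y, Relation.ReflTransGen (fun u v => u ∈ D ∧ v ∈ D ∧ Commute u v) d y → y ∈ H := by
      intro y hy
      induction hy with
      | refl => exact hdH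
      | @tail u v _ huv ih => exact hperp u (hR u huv.1 ih) v huv.2.1 huv.2.2
    rw [eq_top_iff, ← h.gen, Subgroup.closure_le]
    exact fun y hy => hcomp y (show y ∈ comp D Commute d by rw [hconn d hd y hy]; exact mem_comp_self _ _ _)
  exfalso
  push Not at hR
  obtain ⟨r, hr, hrH, hrS⟩ := hR
  have hdS : d ∈ S := ⟨1, H.one_mem, by group⟩
  have hlinkR : ∀ y ∈ D, y ∈ H → y ∉ S → y ∈ link D d := fun y hy hyH hyS =>
    ⟨hy, fun e' => hyS (e' ▸ hdS), (hRS y hy hyH hyS d hdS).symm⟩
  have hlink : ∀ y ∈ link D d, y ∈ H ∧ y ∉ S := by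
    intro y hy
    refine ⟨hPH y hy.1 hy.2.2, ?_⟩
    have key := h.link_connected hL hC hconn hd (hlinkR r hr hrH hrS) hy
    suffices ∀ z, Relation.ReflTransGen (fun u v => u ∈ link D d ∧ v ∈ link D d ∧ NC u v) r z → z ∉ S from
      this y key
    intro z hz
    induction hz with
    | refl => exact hrS
    | @tail u v _ huv ih => exact fun hvS => huv.2.2 (hRS u huv.1.1 (hPH u huv.1.1 huv.1.2.2) ih v hvS)
  have heS : e ∈ S := by
    by_contra hne
    exact hde (hRS e he heH hne d hdS).symm
  have hlink_eq : link D e = link D d := by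
    ext y
    constructor
    · intro hy
      have hyH : y ∈ H := hperp e heS y hy.1 hy.2.2
      refine hlinkR y hy.1 hyH fun hyS => ?_
      obtain ⟨k, hk, hke⟩ := heS
      subst hke
      have h1 : k⁻¹ * y * k ∈ link D d := by
        have := link_conj h.tt k⁻¹ hy
        simpa [mul_assoc] using this
      exact (hlink _ h1).2 (by simpa using hconjS k⁻¹ (H.inv_mem hk) y hyS)
    · intro hy
      obtain ⟨hyH, hyS⟩ := hlink y hy
      exact ⟨hy.1, fun e' => hyS (e' ▸ heS), (hRS y hy.1 hyH hyS e heS).symm⟩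
  rcases key_trivial_of_primitive h.tt hp h.tt.equivariant_link with h' | h'
  · exact hde (h' e he d hd hlink_eq ▸ Commute.refl e)
  · obtain ⟨a, ha, b, hb, hne, hab⟩ := hw
    have : b ∈ link D a := ⟨hb, hne.symm, hab⟩
    rw [h' a ha b hb] at this
    exact this.2.1 rfl

end CfsgLib.SporMisc

namespace CfsgLib.SporMisc

open CfsgLib.ThreeTransp

variable {G : Type*} [Group G] [Finite G] {D : Set G}

omit [Finite G] in
/-- A normal subgroup either contains a simple commutator subgroup or is central. -/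
theorem normal_ge_or_central (hs : IsSimpleGroup (commutator G)) (X : Subgroup G) [hX : X.Normal] :
    commutator G ≤ X ∨ X ≤ Subgroup.center G := by
  haveI : (X.subgroupOf (commutator G)).Normal := hX.comap (commutator G).subtype
  rcases hs.eq_bot_or_eq_top_of_normal (X.subgroupOf (commutator G)) inferInstance with h | h
  · right
    intro x hx
    rw [Subgroup.mem_center_iff]
    intro g
    have hmem : x * g * x⁻¹ * g⁻¹ ∈ X ⊓ commutator G := by
      refine ⟨?_, ?_⟩
      · rw [show x * g * x⁻¹ * g⁻¹ = x * (g * x⁻¹ * g⁻¹) by group]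
        exact X.mul_mem hx (hX.conj_mem _ (X.inv_mem hx) g)
      · rw [commutator_def]
        exact Subgroup.commutator_mem_commutator (Subgroup.mem_top x) (Subgroup.mem_top g)
    rw [(Subgroup.subgroupOf_eq_bot.1 h).eq_bot, Subgroup.mem_bot] at hmem
    calc g * x = (x * g * x⁻¹ * g⁻¹)⁻¹ * (x * g) := by group
      _ = x * g := by rw [hmem, inv_one, one_mul]
  · exact Or.inl (Subgroup.subgroupOf_eq_top.1 h)

theorem TTC.commutator_eq_component (h : TTC D) {L : Subgroup G} (hL : Cfsg.IsComponent L)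
    (hi : L.index ≤ 2) : commutator G = L := by
  haveI := h.component_normal hL
  have h0 : L.index ≠ 0 := Subgroup.index_ne_zero_of_finite
  have hle : commutator G ≤ L := by
    rw [commutator_def, Subgroup.commutator_le]
    intro g _ k _
    rw [← QuotientGroup.eq_one_iff (N := L)]
    have hcomm : ∀ x y : G ⧸ L, x * y = y * x := by
      intro x y
      interval_cases hii : L.index
      · simp_all
      · have : Subsingleton (G ⧸ L) := by
          rw [Subgroup.index_eq_one] at hii
          exact hii ▸ (QuotientGroup.subsingleton_quotient_top : Subsingleton (G ⧸ (⊤ : Subgroup G)))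
        exact Subsingleton.elim _ _
      · haveI : Fact (Nat.Prime 2) := ⟨Nat.prime_two⟩
        haveI := isCyclic_of_prime_card (α := G ⧸ L) (p := 2) (by rw [← Subgroup.index_eq_card, hii])
        exact IsCyclic.commGroup.mul_comm x y
    rw [commutatorElement_def, QuotientGroup.mk_mul, QuotientGroup.mk_mul, QuotientGroup.mk_mul,
      QuotientGroup.mk_inv, QuotientGroup.mk_inv, hcomm (g : G ⧸ L) k]
    group
  have heq : commutator G = L := by
    refine le_antisymm hle ?_
    conv_lhs => rw [← CfsgLib.Cores.commutator_self_of_isQuasisimple hL.2]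
    rw [commutator_def]
    exact Subgroup.commutator_mono le_top le_top
  exact heq

theorem TTC.simple_commutator (h : TTC D) (hZ : Subgroup.center G = ⊥)
    (h2 : Cfsg.pCore 2 G ≤ Subgroup.center G) (h3 : Cfsg.pCore 3 G ≤ Subgroup.center G)
    (hconn : ∀ a ∈ D, ∀ b ∈ D, comp D Commute a = comp D Commute b) :
    IsSimpleGroup (commutator G) := by
  obtain ⟨L, hn, hL, -, hC⟩ := h.exists_main_component h2 h3
  have hi := h.index_le_two_of_connected hL hC hconn
  have heq := h.commutator_eq_component hL hi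
  have hZL : Subgroup.center L = ⊥ := by
    rw [← Subgroup.map_eq_bot_iff_of_injective (f := L.subtype) _ L.subtype_injective,
      CfsgLib.Cores.map_center_eq_inf_centralizer, hC, hZ, inf_bot_eq]
  haveI := hL.2.2
  haveI : Nontrivial L := CfsgLib.Cores.isQuasisimple_nontrivial hL.2
  let e : L ⧸ Subgroup.center L ≃* L := (QuotientGroup.quotientMulEquivOfEq hZL).trans QuotientGroup.quotientBot
  have hsimp : IsSimpleGroup L :=
    IsSimpleGroup.isSimpleGroup_of_surjective e.toMonoidHom e.surjective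
  rw [heq]
  exact hsimp

theorem TTC.of_simple_commutator (h : TTC D) (hZ : Subgroup.center G = ⊥)
    (hw : ∃ a ∈ D, ∃ b ∈ D, a ≠ b ∧ Commute a b) (hs : IsSimpleGroup (commutator G)) :
    Cfsg.pCore 2 G = ⊥ ∧ Cfsg.pCore 3 G = ⊥ ∧ ∀ a ∈ D, ∀ b ∈ D, comp D Commute a = comp D Commute b := by
  obtain ⟨a, ha, b, hb, hne, hab⟩ := hw
  have hmem : ∀ x ∈ D, ∀ y ∈ D, x * y ∈ commutator G := by
    intro x hx y hy
    obtain ⟨g, rfl⟩ := h.cls x hx y hy
    have := Subgroup.commutator_mem_commutator (Subgroup.mem_top x) (Subgroup.mem_top g)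
    rw [← commutator_def, commutatorElement_def, h.tt.inv_eq hx] at this
    simpa [mul_assoc] using this
  have hnab : ¬ Group.IsSolvable (commutator G) := by
    intro hsol
    haveI := hs
    have hcomm := IsSimpleGroup.comm_iff_isSolvable.2 hsol
    let _ : CommGroup (commutator G) := { (inferInstance : Group (commutator G)) with mul_comm := hcomm }
    have hp : (Nat.card (commutator G)).Prime := IsSimpleGroup.prime_card
    set x : commutator G := ⟨a * b, hmem a ha b hb⟩
    have hx2 : orderOf x = 2 := orderOf_eq_prime (Subtype.ext (by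
      show (a * b) ^ 2 = 1
      rw [hab.mul_pow, pow_two, pow_two, h.tt.sq a ha, h.tt.sq b hb, one_mul]))
      (fun hx => hne (by
        have : a * b = 1 := congrArg Subtype.val hx
        rw [mul_eq_one_iff_eq_inv, h.tt.inv_eq hb] at this
        exact this))
    have hd := orderOf_dvd_natCard x
    rw [hx2, Nat.prime_dvd_prime_iff_eq Nat.prime_two hp] at hd
    have hcen : a * b ∈ Subgroup.center G := by
      rw [Subgroup.mem_center_iff]
      intro g
      have hg : g * (a * b) * g⁻¹ ∈ commutator G :=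
        (inferInstance : (commutator G).Normal).conj_mem _ (hmem a ha b hb) g
      have hx1 : x ≠ 1 := fun e => by rw [e, orderOf_one] at hx2; omega
      have hcard2 : ∀ y : commutator G, y = 1 ∨ y = x := by
        intro y
        obtain ⟨u, v, -, huv⟩ := (Nat.card_eq_two_iff (α := commutator G)).1 hd.symm
        have key : ∀ w : commutator G, w = u ∨ w = v := fun w => by
          have : w ∈ ({u, v} : Set (commutator G)) := huv ▸ Set.mem_univ w
          simpa using this
        rcases key y with e₁ | e₁ <;> rcases key 1 with e₂ | e₂ <;> rcases key x with e₃ | e₃ <;> grind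
      rcases hcard2 ⟨_, hg⟩ with e | e
      · exfalso
        refine hx1 (Subtype.ext ?_)
        have := congrArg Subtype.val e
        show a * b = 1
        simpa [conj_eq_one_iff] using this
      · have := congrArg Subtype.val e
        calc g * (a * b) = (g * (a * b) * g⁻¹) * g := by group
          _ = (a * b) * g := by rw [show g * (a * b) * g⁻¹ = a * b from this]
    exact hne (h.eq_of_central_mul ha hb hcen)
  have hcore : ∀ p : ℕ, p.Prime → Cfsg.pCore p G = ⊥ := by
    intro p hp
    haveI : Fact p.Prime := ⟨hp⟩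
    haveI := CfsgLib.Cores.pCore_characteristic (G := G) p
    haveI : (Cfsg.pCore p G).Normal := inferInstance
    rcases normal_ge_or_central hs (Cfsg.pCore p G) with hle | hle
    · exfalso
      refine hnab ?_
      haveI := (CfsgLib.Cores.isPGroup_pCore (G := G) p).isNilpotent
      exact Group.isSolvable_of_isSolvable_injective (f := Subgroup.inclusion hle) (Subgroup.inclusion_injective hle)
    · exact le_bot_iff.1 (hZ ▸ hle)
  refine ⟨hcore 2 Nat.prime_two, hcore 3 Nat.prime_three, ?_⟩
  haveI := h.tt.keyKer_normal h.tt.equivariant_comp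
  rcases normal_ge_or_central hs (keyKer D (comp D Commute)) with hle | hle
  · refine h.key_constant h.tt.keyFixing_comp h.tt.equivariant_comp hle ha (eq_top_iff.2 ?_)
    rw [← h.gen, Subgroup.closure_le]
    intro y hy
    rw [show y = y * a * a by rw [mul_assoc, h.tt.sq a ha, mul_one]]
    exact Subgroup.mul_mem _ (Subgroup.mem_sup_left (hmem y hy a ha)) (Subgroup.mem_sup_right (Subgroup.mem_zpowers a))
  · exact absurd (h.key_injective_of_central hle ha hb
      (comp_eq_of_mem (fun _ _ hh => hh.symm) (mem_comp_of_rel ha hb hab)).symm) hne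

end CfsgLib.SporMisc
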