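import Cfsg.Agent.Lib.Classical.OrthBasic
import Cfsg.Agent.Lib.SporMisc.ThreeBlocks
import Cfsg.Agent.S5349
import Cfsg.Agent.S5350

/-!
# The reflections of one norm over the field with three elements
-/

set_option autoImplicit false

namespace CfsgLib.SporMisc.RefThree

open Cfsg CfsgLib.Classical CfsgLib.ThreeTransp

variable {n : ℕ} (Q : QuadraticForm (ZMod 3) (Fin n → ZMod 3)) (hQ : (QuadraticMap.polarBilin Q).Nondegenerate)

/-- The polar form. -/
abbrev pf (x y : Fin n → ZMod 3) : ZMod 3 := QuadraticMap.polar Q x y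

theorem pf_sum_left {k : ℕ} (a : Fin k → ZMod 3) (u : Fin k → Fin n → ZMod 3) (y : Fin n → ZMod 3) :
    pf Q (∑ i, a i • u i) y = ∑ i, a i * pf Q (u i) y := by
  show (QuadraticMap.polarBilin Q) (∑ i, a i • u i) y = _
  simp [pf, map_sum, LinearMap.sum_apply]

theorem two_mul_ne {x : ZMod 3} (hx : x ≠ 0) : 2 * x ≠ 0 := mul_ne_zero (by decide) hx

include hQ in
theorem exists_perp_aniso {k : ℕ} (u : Fin k → Fin n → ZMod 3) (hu : ∀ i, Q (u i) ≠ 0)
    (horth : ∀ i j, i ≠ j → pf Q (u i) (u j) = 0) (hk : k < n) :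
    ∃ x, (∀ i, pf Q (u i) x = 0) ∧ Q x ≠ 0 := by
  by_contra hcon
  push Not at hcon
  let p : (Fin n → ZMod 3) → (Fin n → ZMod 3) := fun z => z - ∑ i, ((2 * Q (u i))⁻¹ * pf Q (u i) z) • u i
  have hp : ∀ z j, pf Q (u j) (p z) = 0 := by
    intro z j
    rw [pf, qf_polar_comm, QuadraticMap.polar_sub_left, ← pf, ← pf, pf_sum_left,
      Finset.sum_eq_single j (fun i _ hij => by rw [horth i j hij, mul_zero]) (fun h => absurd (Finset.mem_univ j) h)]
    simp only [pf]
    rw [qf_polar_self, qf_polar_comm Q z, mul_assoc, mul_comm (QuadraticMap.polar Q (u j) z) (2 * Q (u j)),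
      ← mul_assoc, inv_mul_cancel₀ (two_mul_ne (hu j)), one_mul, sub_self]
  have hz : ∀ z, p z = 0 := by
    intro z
    refine hQ.1 _ fun y => ?_
    show pf Q (p z) y = 0
    have h1 : pf Q (p z) (p y) = 0 := by
      rw [pf, QuadraticMap.polar, hcon _ (hp z), hcon _ (hp y),
        hcon _ (fun i => by rw [pf, QuadraticMap.polar_add_right, ← pf, ← pf, hp z i, hp y i, add_zero])]
      simp
    have h2 : pf Q (∑ i, ((2 * Q (u i))⁻¹ * pf Q (u i) y) • u i) (p z) = 0 := by
      rw [pf_sum_left]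
      exact Finset.sum_eq_zero fun i _ => by rw [hp z i, mul_zero]
    have e : y = p y + ∑ i, ((2 * Q (u i))⁻¹ * pf Q (u i) y) • u i := (sub_add_cancel y _).symm
    rw [e, pf, QuadraticMap.polar_add_right, qf_polar_comm Q (p z) (∑ i, _)]
    rw [pf] at h1 h2
    rw [h1, h2, add_zero]
  have htop : Submodule.span (ZMod 3) (Set.range u) = ⊤ := by
    rw [eq_top_iff]
    intro z _
    rw [sub_eq_zero.1 (hz z)]
    exact Submodule.sum_mem _ fun i _ => Submodule.smul_mem _ _ (Submodule.subset_span ⟨i, rfl⟩)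
  have hle := finrank_range_le_card (R := ZMod 3) u
  rw [Set.finrank, htop, finrank_top, Module.finrank_pi, Fintype.card_fin, Fintype.card_fin] at hle
  omega

theorem orth_cons {k : ℕ} {u : Fin k → Fin n → ZMod 3} (hu : ∀ i, Q (u i) ≠ 0)
    (horth : ∀ i j, i ≠ j → pf Q (u i) (u j) = 0) {a : Fin n → ZMod 3} (ha : ∀ i, pf Q (u i) a = 0)
    (ha0 : Q a ≠ 0) :
    (∀ i, Q ((Fin.cons a u : Fin (k + 1) → Fin n → ZMod 3) i) ≠ 0) ∧
      ∀ i j, i ≠ j → pf Q ((Fin.cons a u : Fin (k + 1) → Fin n → ZMod 3) i)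
        ((Fin.cons a u : Fin (k + 1) → Fin n → ZMod 3) j) = 0 := by
  refine ⟨fun i => Fin.cases (by simpa using ha0) (fun i => by simpa using hu i) i, fun i j => ?_⟩
  refine Fin.cases (motive := fun i => i ≠ j → pf Q ((Fin.cons a u : Fin (k + 1) → Fin n → ZMod 3) i) _ = 0) ?_ ?_ i
  · refine Fin.cases (fun h => absurd rfl h) (fun j _ => ?_) j
    simp only [Fin.cons_zero, Fin.cons_succ]
    exact (qf_polar_comm Q _ _).trans (ha j)
  · intro i
    refine Fin.cases (fun _ => by simpa using ha i) (fun j h => ?_) j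
    simp only [Fin.cons_succ]
    exact horth i j fun e => h (congrArg Fin.succ e)

include hQ in
theorem exists_perp_value {k : ℕ} (u : Fin k → Fin n → ZMod 3) (hu : ∀ i, Q (u i) ≠ 0)
    (horth : ∀ i j, i ≠ j → pf Q (u i) (u j) = 0) (hk : k + 2 ≤ n) {t : ZMod 3} (ht : t ≠ 0) :
    ∃ x, (∀ i, pf Q (u i) x = 0) ∧ Q x = t := by
  obtain ⟨a, ha, ha0⟩ := exists_perp_aniso Q hQ u hu horth (by omega)
  obtain ⟨hu', horth'⟩ := orth_cons Q hu horth ha ha0
  obtain ⟨b, hb, hb0⟩ := exists_perp_aniso Q hQ _ hu' horth' (by omega)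
  have hb' : ∀ i, pf Q (u i) b = 0 := fun i => by simpa using hb i.succ
  have hab : pf Q a b = 0 := by simpa using hb 0
  by_cases h1 : Q a = t
  · exact ⟨a, ha, h1⟩
  by_cases h2 : Q b = t
  · exact ⟨b, hb', h2⟩
  refine ⟨a + b, fun i => by rw [pf, QuadraticMap.polar_add_right, ← pf, ← pf, ha i, hb' i, add_zero], ?_⟩
  rw [qf_map_add, show QuadraticMap.polar Q a b = 0 from hab, add_zero]
  revert h1 h2 ha0 hb0 ht
  generalize Q a = p
  generalize Q b = q
  revert p q t
  decide

include hQ in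
theorem exists_perp_isotropic {k : ℕ} (u : Fin k → Fin n → ZMod 3) (hu : ∀ i, Q (u i) ≠ 0)
    (horth : ∀ i j, i ≠ j → pf Q (u i) (u j) = 0) (hk : k + 3 ≤ n) :
    ∃ x, (∀ i, pf Q (u i) x = 0) ∧ Q x = 0 ∧ x ≠ 0 := by
  obtain ⟨a, ha, ha0⟩ := exists_perp_aniso Q hQ u hu horth (by omega)
  obtain ⟨hu', horth'⟩ := orth_cons Q hu horth ha ha0
  obtain ⟨b, hb, hbt⟩ := exists_perp_value Q hQ _ hu' horth' (by omega) (neg_ne_zero.2 ha0)
  have hb' : ∀ i, pf Q (u i) b = 0 := fun i => by simpa using hb i.succ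
  have hab : QuadraticMap.polar Q a b = 0 := by simpa using hb 0
  refine ⟨a + b, fun i => by rw [pf, QuadraticMap.polar_add_right, ← pf, ← pf, ha i, hb' i, add_zero], ?_, ?_⟩
  · rw [qf_map_add, hab, hbt]; ring
  · intro h
    have e : QuadraticMap.polar Q a (a + b) = 0 := by rw [h, QuadraticMap.polar_zero_right]
    rw [QuadraticMap.polar_add_right, qf_polar_self, hab, add_zero] at e
    exact two_mul_ne ha0 e

variable {c : ZMod 3} (hc : c ≠ 0)

/-- The reflections as members of the group they generate. -/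
abbrev cls (Q : QuadraticForm (ZMod 3) (Fin n → ZMod 3)) (c : ZMod 3) : Set ↥(reflectionSubgroup (⇑Q) c) :=
  {g | (g : ↥(isometryGroup (ZMod 3) (⇑Q))) ∈ reflectionsOfNorm (⇑Q) c}

include hc in
theorem nz {v : Fin n → ZMod 3} (hv : Q v = c) : Q v ≠ 0 := by rw [hv]; exact hc

/-- A reflection inside the generated subgroup. -/
noncomputable def rf {v : Fin n → ZMod 3} (hv : Q v = c) : ↥(reflectionSubgroup (⇑Q) c) :=
  ⟨reflect Q v (nz Q hc hv), Subgroup.subset_closure ⟨v, hv, reflect_coe Q v _⟩⟩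

theorem rf_mem {v : Fin n → ZMod 3} (hv : Q v = c) : rf Q hc hv ∈ cls Q c := ⟨v, hv, reflect_coe Q v (nz Q hc hv)⟩

include hc in
theorem exists_rf {g : ↥(reflectionSubgroup (⇑Q) c)} (hg : g ∈ cls Q c) :
    ∃ v, ∃ hv : Q v = c, g = rf Q hc hv := by
  obtain ⟨v, hv, h⟩ := hg
  exact ⟨v, hv, Subtype.ext (Subtype.ext (Units.ext (h.trans (reflect_coe Q v (nz Q hc hv)).symm)))⟩

theorem rf_congr {v w : Fin n → ZMod 3} (hv : Q v = c) (hw : Q w = c) {a : ZMod 3} (ha : a ≠ 0)
    (h : w = a • v) : rf Q hc hv = rf Q hc hw := by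
  refine Subtype.ext (iso_ext fun x => ?_)
  show isoApply (reflect Q v (nz Q hc hv)) x = isoApply (reflect Q w (nz Q hc hw)) x
  subst h
  rw [reflect_apply, reflect_apply, QuadraticMap.polar_smul_right, QuadraticMap.map_smul, smul_smul]
  have : a * a = 1 := (show ∀ a : ZMod 3, a ≠ 0 → a * a = 1 by decide) a ha
  rw [smul_eq_mul, smul_eq_mul, this, one_mul]
  congr 2
  linear_combination (-((Q v)⁻¹ * QuadraticMap.polar Q x v)) * this

theorem rf_inj {v w : Fin n → ZMod 3} (hv : Q v = c) (hw : Q w = c) (h : rf Q hc hv = rf Q hc hw) :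
    w = v ∨ w = -v := by
  have e := congrArg (fun g : ↥(reflectionSubgroup (⇑Q) c) => isoApply (g : isometryGroup (ZMod 3) ⇑Q) v) h
  simp only [rf, reflect_apply, qf_polar_self, hv, hw] at e
  rw [show c⁻¹ * (2 * c) = 2 by rw [mul_comm 2 c, ← mul_assoc, inv_mul_cancel₀ hc, one_mul]] at e
  generalize c⁻¹ * QuadraticMap.polar Q v w = t at e
  have e' : t • w = (2 : ZMod 3) • v := by linear_combination (norm := module) e
  have hv0 : v ≠ 0 := fun h0 => hc (by rw [← hv, h0, QuadraticMap.map_zero])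
  rcases (show ∀ t : ZMod 3, t = 0 ∨ t = 1 ∨ t = 2 by decide) t with rfl | rfl | rfl
  · rw [zero_smul] at e'
    exact absurd ((smul_eq_zero.1 e'.symm).resolve_left (by decide)) hv0
  · rw [one_smul] at e'
    right
    rw [e', show (2 : ZMod 3) = -1 by decide, neg_smul, one_smul]
  · left
    exact smul_right_injective _ (show (2 : ZMod 3) ≠ 0 by decide) e'

theorem rf_sq {v : Fin n → ZMod 3} (hv : Q v = c) : rf Q hc hv * rf Q hc hv = 1 :=
  Subtype.ext (reflect_mul_self Q v (nz Q hc hv))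

include hc in
theorem image_norm {u v : Fin n → ZMod 3} (hu : Q u = c) (hv : Q v = c) :
    Q (v - (c⁻¹ * pf Q v u) • u) = c := by
  rw [sub_eq_add_neg, ← neg_smul, qf_map_add_smul, hu, hv]
  show c + -(c⁻¹ * pf Q v u) * pf Q v u + -(c⁻¹ * pf Q v u) * -(c⁻¹ * pf Q v u) * c = c
  linear_combination (c⁻¹ * pf Q v u ^ 2) * inv_mul_cancel₀ hc

theorem rf_conj {u v : Fin n → ZMod 3} (hu : Q u = c) (hv : Q v = c) :
    rf Q hc hu * rf Q hc hv * rf Q hc hu = rf Q hc (image_norm Q hc hu hv) := by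
  refine Subtype.ext ?_
  show reflect Q u (nz Q hc hu) * reflect Q v (nz Q hc hv) * reflect Q u (nz Q hc hu) =
    reflect Q _ (nz Q hc (image_norm Q hc hu hv))
  conv_lhs => arg 2; rw [← reflect_inv]
  rw [reflect_conj]
  refine iso_ext fun x => ?_
  simp only [reflect_apply, hu]

theorem commute_iff {u v : Fin n → ZMod 3} (hu : Q u = c) (hv : Q v = c) :
    Commute (rf Q hc hu) (rf Q hc hv) ↔ pf Q v u = 0 ∨ v = u ∨ v = -u := by
  constructor
  · intro h
    have e : rf Q hc hv = rf Q hc (image_norm Q hc hu hv) := by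
      rw [← rf_conj Q hc hu hv, h.eq, mul_assoc, rf_sq, mul_one]
    rcases rf_inj Q hc hv _ e with e | e
    · left
      have : (c⁻¹ * pf Q v u) • u = 0 := sub_eq_self.1 e
      rcases smul_eq_zero.1 this with h' | h'
      · exact (mul_eq_zero.1 h').resolve_left (inv_ne_zero hc)
      · exact absurd (by rw [← hu, h', QuadraticMap.map_zero]) hc
    · right
      generalize c⁻¹ * pf Q v u = t at e
      have e' : t • u = (2 : ZMod 3) • v := by linear_combination (norm := module) -e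
      rcases (show ∀ t : ZMod 3, t = 0 ∨ t = 1 ∨ t = 2 by decide) t with rfl | rfl | rfl
      · rw [zero_smul] at e'
        exact absurd (by rw [← hv, (smul_eq_zero.1 e'.symm).resolve_left (by decide), QuadraticMap.map_zero]) hc
      · rw [one_smul] at e'
        right
        rw [e', show (2 : ZMod 3) = -1 by decide, neg_smul, one_smul, neg_neg]
      · left
        exact (smul_right_injective _ (show (2 : ZMod 3) ≠ 0 by decide) e').symm
  · intro h
    have e : rf Q hc hu * rf Q hc hv * rf Q hc hu = rf Q hc hv := by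
      rw [rf_conj]
      rcases h with h | rfl | rfl
      · refine (rf_congr Q hc hv _ one_ne_zero ?_).symm
        rw [h, mul_zero, zero_smul, sub_zero, one_smul]
      · rw [← rf_conj Q hc hu hv]
        simp [rf_sq]
      · rw [← rf_conj Q hc hu hv, ← rf_congr Q hc hu hv (a := -1) (by decide) (by simp)]
        simp [rf_sq]
    show rf Q hc hu * rf Q hc hv = rf Q hc hv * rf Q hc hu
    calc rf Q hc hu * rf Q hc hv = rf Q hc hu * rf Q hc hv * (rf Q hc hu * rf Q hc hu) := by rw [rf_sq, mul_one]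
      _ = _ := by rw [← mul_assoc, e]

include hc in
theorem isTT : IsTT (cls Q c) := by
  refine ⟨?_, ?_, ?_, ?_⟩
  · intro g hg
    obtain ⟨v, hv, rfl⟩ := exists_rf Q hc hg
    exact rf_sq Q hc hv
  · intro g hg h
    obtain ⟨v, hv, rfl⟩ := exists_rf Q hc hg
    have e := congrArg (fun g : ↥(reflectionSubgroup (⇑Q) c) => isoApply (g : isometryGroup (ZMod 3) ⇑Q) v) h
    simp only [rf, reflect_apply, qf_polar_self, hv, Subgroup.coe_one, isoApply_one] at e
    rw [sub_eq_self, show c⁻¹ * (2 * c) = 2 by rw [mul_comm 2 c, ← mul_assoc, inv_mul_cancel₀ hc, one_mul]] at e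
    exact hc (by rw [← hv, (smul_eq_zero.1 e).resolve_left (by decide), QuadraticMap.map_zero])
  · intro g hg g' hg'
    obtain ⟨u, hu, rfl⟩ := exists_rf Q hc hg
    obtain ⟨v, hv, rfl⟩ := exists_rf Q hc hg'
    by_cases h : pf Q v u = 0
    · exact Or.inl ((commute_iff Q hc hu hv).2 (Or.inl h))
    right
    rw [rf_conj, rf_conj]
    refine rf_congr Q hc _ _ (a := -(c⁻¹ * pf Q v u)) (neg_ne_zero.2 (mul_ne_zero (inv_ne_zero hc) h)) ?_
    rw [show pf Q u v = pf Q v u from qf_polar_comm Q u v, smul_sub, smul_smul, neg_mul,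
      show c⁻¹ * pf Q v u * (c⁻¹ * pf Q v u) = 1 by
        have : ∀ t : ZMod 3, t ≠ 0 → t * t = 1 := by decide
        exact this _ (mul_ne_zero (inv_ne_zero hc) h)]
    module
  · intro g d hd
    obtain ⟨v, hv, h⟩ := hd
    refine ⟨isoApply (g : isometryGroup (ZMod 3) ⇑Q) v, (isoApply_Q _ v).trans hv, ?_⟩
    have hv0 : Q v ≠ 0 := by rw [hv]; exact hc
    have e : (d : isometryGroup (ZMod 3) ⇑Q) = reflect Q v hv0 := Subtype.ext (Units.ext (h.trans (reflect_coe Q v _).symm))
    show (((g : isometryGroup (ZMod 3) ⇑Q) * (d : isometryGroup (ZMod 3) ⇑Q) * (g : isometryGroup (ZMod 3) ⇑Q)⁻¹ :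
      isometryGroup (ZMod 3) ⇑Q) : GL (Fin n) (ZMod 3)).val = _
    rw [e, reflect_conj, reflect_coe]

variable (hn : 5 ≤ n)
include hQ hc hn

theorem exists_noncomm_both {u v : Fin n → ZMod 3} (hu : Q u = c) (hv : Q v = c) (h : pf Q v u = 0) :
    ∃ w, Q w = c ∧ pf Q w u ≠ 0 ∧ pf Q w v ≠ 0 := by
  obtain ⟨x, hx, hxv⟩ := exists_perp_value Q hQ ![u, v] (by intro i; fin_cases i <;> simp [hu, hv, hc])
    (by intro i j hij; fin_cases i <;> fin_cases j <;>
      first | exact absurd rfl hij | exact h | exact (qf_polar_comm Q _ _).trans h)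
    (by omega) (two_mul_ne hc)
  have hxu : QuadraticMap.polar Q x u = 0 := (qf_polar_comm Q _ _).trans (hx 0)
  have hxv' : QuadraticMap.polar Q x v = 0 := (qf_polar_comm Q _ _).trans (hx 1)
  have huv : QuadraticMap.polar Q u v = 0 := (qf_polar_comm Q _ _).trans h
  refine ⟨u + v + x, ?_, ?_, ?_⟩
  · rw [qf_map_add, qf_map_add, QuadraticMap.polar_add_left, hu, hv, hxv, huv,
      qf_polar_comm Q u x, qf_polar_comm Q v x, hxu, hxv']
    have h3 : (3 : ZMod 3) = 0 := rfl
    linear_combination c * h3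
  · rw [pf, QuadraticMap.polar_add_left, QuadraticMap.polar_add_left, qf_polar_self, hxu,
      qf_polar_comm Q v u, huv, add_zero, add_zero, hu]
    exact two_mul_ne hc
  · rw [pf, QuadraticMap.polar_add_left, QuadraticMap.polar_add_left, qf_polar_self, hxv', huv, add_zero, zero_add, hv]
    exact two_mul_ne hc

theorem gen_cls : Subgroup.closure (cls Q c) = ⊤ :=
  Subgroup.closure_closure_coe_preimage (k := reflectionsOfNorm (⇑Q) c)

theorem isClass : IsThreeTranspositionClass (cls Q c) := by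
  have htt := isTT Q hc
  obtain ⟨u, -, hu⟩ := exists_perp_value Q hQ (![] : Fin 0 → Fin n → ZMod 3) (fun i => i.elim0)
    (fun i => i.elim0) (by omega) hc
  have step : ∀ {a b : Fin n → ZMod 3} (ha : Q a = c) (hb : Q b = c), pf Q b a ≠ 0 →
      IsConj (rf Q hc ha) (rf Q hc hb) := by
    intro a b ha hb h
    by_cases hcom : Commute (rf Q hc ha) (rf Q hc hb)
    · rcases (commute_iff Q hc ha hb).1 hcom with h' | h' | h'
      · exact absurd h' h
      · subst h'; exact IsConj.refl _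
      · rw [rf_congr Q hc ha hb (a := -1) (by decide) (by simp [h'])]
    · refine isConj_iff.2 ⟨rf Q hc ha * rf Q hc hb * rf Q hc ha, ?_⟩
      rw [htt.inv_eq (htt.cj_mem (rf_mem Q hc ha) (rf_mem Q hc hb))]
      exact htt.cj_conj_self (rf_mem Q hc ha) (rf_mem Q hc hb) hcom
  refine ⟨⟨fun d hd => ?_, fun d hd e he => CfsgLib.SporMisc.sq_or_cube htt hd he⟩,
    ⟨rf Q hc hu, rf_mem Q hc hu, ?_⟩, gen_cls Q hQ hc hn⟩
  · exact orderOf_eq_prime (by rw [pow_two]; exact htt.sq d hd) (htt.ne_one d hd)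
  · refine Set.Subset.antisymm (fun d hd => ?_) (fun d hd => ?_)
    · obtain ⟨v, hv, rfl⟩ := exists_rf Q hc hd
      by_cases h : pf Q v u = 0
      · obtain ⟨w, hw, hwu, hwv⟩ := exists_noncomm_both Q hQ hc hn hu hv h
        exact (step hu hw hwu).trans (step hw hv fun e => hwv ((qf_polar_comm Q _ _).trans e))
      · exact step hu hv h
    · obtain ⟨g, rfl⟩ := isConj_iff.1 (show IsConj (rf Q hc hu) d from hd)
      exact htt.conj g _ (rf_mem Q hc hu)

theorem nontriv : ∃ a ∈ cls Q c, ∃ b ∈ cls Q c, a ≠ b := by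
  obtain ⟨u, -, hu⟩ := exists_perp_value Q hQ (![] : Fin 0 → Fin n → ZMod 3) (fun i => i.elim0)
    (fun i => i.elim0) (by omega) hc
  obtain ⟨v, hv', hv⟩ := exists_perp_value Q hQ ![u] (by intro i; fin_cases i; simp [hu, hc])
    (by intro i j hij; exact absurd (Subsingleton.elim i j) hij) (by omega) hc
  have huv : QuadraticMap.polar Q u v = 0 := hv' 0
  refine ⟨_, rf_mem Q hc hu, _, rf_mem Q hc hv, fun e => ?_⟩
  rcases rf_inj Q hc hu hv e with rfl | rfl
  · rw [qf_polar_self, hv] at huv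
    exact two_mul_ne hc huv
  · rw [QuadraticMap.polar_neg_right, neg_eq_zero, qf_polar_self, hu] at huv
    exact two_mul_ne hc huv

/-- Data for two non-orthogonal vectors of equal norm: a hyperbolic partner in the complement of the first. -/
theorem hyperbolic {u v : Fin n → ZMod 3} (hu : Q u = c) (hv : Q v = c) (h : pf Q v u ≠ 0) (h1 : v ≠ u)
    (h2 : v ≠ -u) : ∃ (a : ZMod 3) (z y : Fin n → ZMod 3), v = z + a • u ∧ pf Q u z = 0 ∧ Q z = 0 ∧
      pf Q u y = 0 ∧ pf Q z y ≠ 0 ∧ Q y = 0 := by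
  set a := pf Q v u * (2 * c)⁻¹ with hadef
  set z := v + (-a) • u with hzdef
  have h2c : (2 * c)⁻¹ * (2 * c) = 1 := inv_mul_cancel₀ (two_mul_ne hc)
  have huz : pf Q u z = 0 := by
    rw [hzdef, pf, QuadraticMap.polar_add_right, QuadraticMap.polar_smul_right, qf_polar_self, smul_eq_mul, hu,
      qf_polar_comm Q u v, hadef, pf]
    linear_combination (-QuadraticMap.polar Q v u) * h2c
  have hz : Q z = 0 := by
    rw [hzdef, qf_map_add_smul, hu, hv, hadef]
    have key : ∀ c f : ZMod 3, c ≠ 0 → f ≠ 0 →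
        c + -(f * (2 * c)⁻¹) * f + -(f * (2 * c)⁻¹) * -(f * (2 * c)⁻¹) * c = 0 := by decide +kernel
    exact key c _ hc h
  have hz0 : z ≠ 0 := by
    intro e
    have hva : v = a • u := by linear_combination (norm := module) e
    rcases (show ∀ t : ZMod 3, t = 0 ∨ t = 1 ∨ t = -1 by decide) a with ha | ha | ha <;> rw [ha] at hva
    · exact hc (by rw [← hv, hva, zero_smul, QuadraticMap.map_zero])
    · exact h1 (by rw [hva, one_smul])
    · exact h2 (by rw [hva, neg_smul, one_smul])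
  obtain ⟨t, ht⟩ : ∃ t, pf Q z t ≠ 0 := by
    by_contra hcon
    push Not at hcon
    exact hz0 (hQ.1 z hcon)
  set y0 := t + (-(pf Q u t * (2 * c)⁻¹)) • u with hy0
  have huy0 : pf Q u y0 = 0 := by
    rw [hy0, pf, QuadraticMap.polar_add_right, QuadraticMap.polar_smul_right, qf_polar_self, smul_eq_mul, hu, pf]
    linear_combination (-QuadraticMap.polar Q u t) * h2c
  have hzy0 : pf Q z y0 = pf Q z t := by
    rw [hy0, pf, QuadraticMap.polar_add_right, QuadraticMap.polar_smul_right,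
      show QuadraticMap.polar Q z u = 0 from (qf_polar_comm Q _ _).trans huz, smul_zero, add_zero]
  refine ⟨a, z, y0 + (-(Q y0) * (pf Q z y0)⁻¹) • z, ?_, huz, hz, ?_, ?_, ?_⟩
  · rw [hzdef]; module
  · rw [pf, QuadraticMap.polar_add_right, QuadraticMap.polar_smul_right, ← pf, ← pf, huy0, huz, smul_zero, add_zero]
  · rw [pf, QuadraticMap.polar_add_right, QuadraticMap.polar_smul_right, qf_polar_self, hz, mul_zero, smul_zero,
      add_zero]
    rw [← pf, hzy0]; exact ht
  · rw [qf_map_add_smul, hz, mul_zero, add_zero, show QuadraticMap.polar Q y0 z = pf Q z y0 from qf_polar_comm Q _ _,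
      mul_assoc, inv_mul_cancel₀ (hzy0.symm ▸ ht), mul_one, add_neg_cancel]

/-- Two different reflections are separated by a third. -/
theorem separate {a b : ↥(reflectionSubgroup (⇑Q) c)} (ha : a ∈ cls Q c) (hb : b ∈ cls Q c) (hne : a ≠ b) :
    ∃ w ∈ cls Q c, w ≠ a ∧ Commute a w ∧ ¬ Commute b w := by
  obtain ⟨u, hu, rfl⟩ := exists_rf Q hc ha
  obtain ⟨v, hv, rfl⟩ := exists_rf Q hc hb
  have h1 : v ≠ u := fun e => hne (by subst e; rfl)
  have h2 : v ≠ -u := fun e => hne (rf_congr Q hc hu hv (a := -1) (by decide) (by simp [e]))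
  suffices ∃ w, Q w = c ∧ pf Q w u = 0 ∧ pf Q w v ≠ 0 ∧ w ≠ v ∧ w ≠ -v by
    obtain ⟨w, hw, hwu, hwv, hw1, hw2⟩ := this
    refine ⟨_, rf_mem Q hc hw, fun e => ?_, (commute_iff Q hc hu hw).2 (Or.inl hwu), fun hcom => ?_⟩
    · rcases rf_inj Q hc hw hu e with rfl | rfl
      · rw [pf, qf_polar_self, hw] at hwu; exact two_mul_ne hc hwu
      · rw [pf, QuadraticMap.polar_neg_right, neg_eq_zero, qf_polar_self, hw] at hwu; exact two_mul_ne hc hwu
    · rcases (commute_iff Q hc hv hw).1 hcom with h | h | h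
      exacts [hwv h, hw1 h, hw2 h]
  by_cases h : pf Q v u = 0
  · obtain ⟨x, hx, hxQ, hx0⟩ := exists_perp_isotropic Q hQ ![u, v] (by intro i; fin_cases i <;> simp [hu, hv, hc])
      (by intro i j hij; fin_cases i <;> fin_cases j <;>
        first | exact absurd rfl hij | exact h | exact (qf_polar_comm Q _ _).trans h)
      (by omega)
    have hxu : QuadraticMap.polar Q x u = 0 := (qf_polar_comm Q _ _).trans (hx 0)
    have hxv : QuadraticMap.polar Q x v = 0 := (qf_polar_comm Q _ _).trans (hx 1)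
    refine ⟨v + x, ?_, ?_, ?_, fun e => hx0 (add_eq_left.1 e), fun e => ?_⟩
    · rw [qf_map_add, hxQ, qf_polar_comm Q v x, hxv, hv, add_zero, add_zero]
    · rw [pf, QuadraticMap.polar_add_left, hxu, add_zero]; exact h
    · rw [pf, QuadraticMap.polar_add_left, qf_polar_self, hxv, add_zero, hv]; exact two_mul_ne hc
    · have hx' : x = v := by
        have : x = (-2 : ZMod 3) • v := by linear_combination (norm := module) e
        rw [this, show (-2 : ZMod 3) = 1 by decide, one_smul]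
      rw [hx', qf_polar_self, hv] at hxv
      exact two_mul_ne hc hxv
  · obtain ⟨a, z, y, hva, huz, hz, huy, hzy, hy⟩ := hyperbolic Q hQ hc hn hu hv h h1 h2
    have hyu : QuadraticMap.polar Q y u = 0 := (qf_polar_comm Q _ _).trans huy
    have hzu : QuadraticMap.polar Q z u = 0 := (qf_polar_comm Q _ _).trans huz
    have hyz : QuadraticMap.polar Q y z = pf Q z y := qf_polar_comm Q _ _
    set w := y + (c * (pf Q z y)⁻¹) • z
    have hwu : QuadraticMap.polar Q w u = 0 := by
      simp only [w, QuadraticMap.polar_add_left, QuadraticMap.polar_smul_left, hyu, hzu, smul_zero, add_zero]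
    refine ⟨w, ?_, hwu, ?_, fun e => h (by rw [← e]; exact hwu), fun e => h ?_⟩
    · simp only [w]
      rw [qf_map_add_smul, hz, hy, hyz, zero_add, mul_zero, add_zero, mul_assoc, inv_mul_cancel₀ hzy, mul_one]
    · rw [hva, pf, QuadraticMap.polar_add_right, QuadraticMap.polar_smul_right, hwu, smul_zero, add_zero]
      simp only [w, QuadraticMap.polar_add_left, QuadraticMap.polar_smul_left, qf_polar_self, hz, mul_zero,
        smul_zero, add_zero, hyz]
      exact hzy
    · rw [e, QuadraticMap.polar_neg_left, neg_eq_zero] at hwu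
      exact hwu

theorem connected : ∀ a ∈ cls Q c, ∀ b ∈ cls Q c, comp (cls Q c) Commute a = comp (cls Q c) Commute b := by
  intro a ha b hb
  refine (comp_eq_of_mem (fun _ _ h => h.symm) ?_).symm
  by_cases hab : Commute a b
  · exact mem_comp_of_rel ha hb hab
  obtain ⟨u, hu, rfl⟩ := exists_rf Q hc ha
  obtain ⟨v, hv, rfl⟩ := exists_rf Q hc hb
  have h0 : pf Q v u ≠ 0 := fun e => hab ((commute_iff Q hc hu hv).2 (Or.inl e))
  have h1 : v ≠ u := fun e => hab ((commute_iff Q hc hu hv).2 (Or.inr (Or.inl e)))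
  have h2 : v ≠ -u := fun e => hab ((commute_iff Q hc hu hv).2 (Or.inr (Or.inr e)))
  obtain ⟨t, z, y, hva, huz, hz, huy, hzy, hy⟩ := hyperbolic Q hQ hc hn hu hv h0 h1 h2
  have hyz : QuadraticMap.polar Q y z = pf Q z y := qf_polar_comm Q _ _
  have hpm : pf Q (z + y) (z + (-1 : ZMod 3) • y) = 0 := by
    simp only [pf, QuadraticMap.polar_add_left, QuadraticMap.polar_add_right, QuadraticMap.polar_smul_right,
      qf_polar_self, hz, hy, hyz, smul_eq_mul]
    ring
  have hup : pf Q u (z + y) = 0 := by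
    rw [pf, QuadraticMap.polar_add_right, ← pf, ← pf, huz, huy, add_zero]
  have hum : pf Q u (z + (-1 : ZMod 3) • y) = 0 := by
    rw [pf, QuadraticMap.polar_add_right, QuadraticMap.polar_smul_right, ← pf, ← pf, huz, huy, smul_zero, add_zero]
  obtain ⟨w, hw, hwc⟩ := exists_perp_value Q hQ ![u, z + y, z + (-1 : ZMod 3) • y]
    (by
      intro i; fin_cases i
      · simpa [hu] using hc
      · show Q (z + y) ≠ 0
        rw [qf_map_add, hz, hy, zero_add, zero_add]; exact hzy
      · show Q (z + (-1 : ZMod 3) • y) ≠ 0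
        rw [qf_map_add_smul, hz, hy, mul_zero, add_zero, zero_add, neg_one_mul]
        exact neg_ne_zero.2 hzy)
    (by intro i j hij; fin_cases i <;> fin_cases j <;>
      first
        | exact absurd rfl hij | exact hpm | exact hup | exact hum
        | exact (qf_polar_comm Q _ _).trans hpm
        | exact (qf_polar_comm Q _ _).trans hup | exact (qf_polar_comm Q _ _).trans hum)
    (by omega) hc
  have hwu : QuadraticMap.polar Q u w = 0 := hw 0
  have hwp : QuadraticMap.polar Q (z + y) w = 0 := hw 1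
  have hwm : QuadraticMap.polar Q (z + (-1 : ZMod 3) • y) w = 0 := hw 2
  have hzw : QuadraticMap.polar Q z w = 0 := by
    rw [QuadraticMap.polar_add_left] at hwp hwm
    rw [QuadraticMap.polar_smul_left, smul_eq_mul] at hwm
    have h2 : (2 : ZMod 3) * QuadraticMap.polar Q z w = 0 := by linear_combination hwp + hwm
    exact (mul_eq_zero.1 h2).resolve_left (by decide)
  have hc1 : Commute (rf Q hc hu) (rf Q hc hwc) :=
    (commute_iff Q hc hu hwc).2 (Or.inl ((qf_polar_comm Q _ _).trans hwu))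
  have hc2 : Commute (rf Q hc hwc) (rf Q hc hv) :=
    (commute_iff Q hc hwc hv).2 (Or.inl (by
      rw [hva, pf, QuadraticMap.polar_add_left, QuadraticMap.polar_smul_left, hzw, hwu, smul_zero, add_zero]))
  exact mem_comp_step (mem_comp_of_rel (rf_mem Q hc hu) (rf_mem Q hc hwc) hc1) (rf_mem Q hc hwc) (rf_mem Q hc hv) hc2

/-- The conclusions on the generated group. -/
theorem structure_theorem :
    IsQuasisimple (commutator ↥(reflectionSubgroup (⇑Q) c)) ∧
      (commutator ↥(reflectionSubgroup (⇑Q) c)).index ≤ 2 ∧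
      generalizedFittingSubgroup ↥(reflectionSubgroup (⇑Q) c) =
        Subgroup.center ↥(reflectionSubgroup (⇑Q) c) ⊔ commutator ↥(reflectionSubgroup (⇑Q) c) ∧
      IsPrimitiveUnderConj (cls Q c) := by
  have hD := isClass Q hQ hc hn
  have hD2 := nontriv Q hQ hc hn
  have h := CfsgLib.SporMisc.TTC.of_class hD hD2
  obtain ⟨d, hd, -⟩ := hD2
  have h2 : pCore 2 ↥(reflectionSubgroup (⇑Q) c) ≤ Subgroup.center _ := by
    haveI := CfsgLib.Cores.pCore_characteristic (G := ↥(reflectionSubgroup (⇑Q) c)) 2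
    by_contra hnc
    obtain ⟨q, hq, hq1⟩ := h.exists_move hnc hd
    have hv : q * d * q⁻¹ ∈ cls Q c := h.tt.conj q d hd
    have hne : d ≠ q * d * q⁻¹ := fun e => hq1 (by rw [← e]; exact h.tt.sq d hd)
    obtain ⟨w, hw, -, hc1, hc2⟩ := separate Q hQ hc hn hd hv hne
    have hmem : q * d * q⁻¹ ∈ {v | v ∈ cls Q c ∧ ∀ e ∈ cls Q c, Commute v e ↔ Commute d e} := by
      rw [(Cfsg.Agent.S5349.result hD (nontriv Q hQ hc hn) hd).2]
      exact ⟨q, hq, rfl⟩
    exact hc2 ((hmem.2 w hw).2 hc1)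
  have h3 : pCore 3 ↥(reflectionSubgroup (⇑Q) c) ≤ Subgroup.center _ := by
    haveI := CfsgLib.Cores.pCore_characteristic (G := ↥(reflectionSubgroup (⇑Q) c)) 3
    by_contra hnc
    obtain ⟨q, hq, hq1⟩ := h.exists_move hnc hd
    have hv : q * d * q⁻¹ ∈ cls Q c := h.tt.conj q d hd
    have hne : d ≠ q * d * q⁻¹ := fun e => hq1 (by rw [← e]; exact h.tt.sq d hd)
    obtain ⟨w, hw, hwd, hc1, hc2⟩ := separate Q hQ hc hn hd hv hne
    have hmem : q * d * q⁻¹ ∈ {v | v ∈ cls Q c ∧ {y | y ∈ cls Q c ∧ y ≠ d ∧ Commute d y} =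
        {y | y ∈ cls Q c ∧ y ≠ v ∧ Commute v y}} := by
      rw [(Cfsg.Agent.S5350.result hD (nontriv Q hQ hc hn) hd).2]
      exact ⟨q, hq, rfl⟩
    have hwl : w ∈ {y | y ∈ cls Q c ∧ y ≠ d ∧ Commute d y} := ⟨hw, hwd, hc1⟩
    rw [hmem.2] at hwl
    exact hc2 hwl.2.2
  obtain ⟨L, -, hL, hF, hC⟩ := h.exists_main_component h2 h3
  have hi := h.index_le_two_of_connected hL hC (connected Q hQ hc hn)
  rw [h.commutator_eq_component hL hi, sup_comm (Subgroup.center _)]
  exact ⟨hL.2, hi, hF, h.primitive_of_index hL hC hi⟩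

end CfsgLib.SporMisc.RefThree
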