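import Mathlib
import Cfsg.Prelude.Def_Sporadic_a

set_option autoImplicit false

/-!
Self-dual binary codes of length 24 and minimum weight 8.
-/

namespace CfsgLib.SporMisc

variable {n : ℕ}

/-- The support of a word. -/
def supp (x : Fin n → ZMod 2) : Finset (Fin n) := Finset.univ.filter fun i => x i ≠ 0

/-- The word with a given support. -/
def ind (S : Finset (Fin n)) : Fin n → ZMod 2 := fun i => if i ∈ S then 1 else 0

theorem zmod2_cases (a : ZMod 2) : a = 0 ∨ a = 1 := by revert a; decide

theorem supp_ind (S : Finset (Fin n)) : supp (ind S) = S := by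
  ext i; by_cases h : i ∈ S <;> simp [supp, ind, h]

theorem ind_supp (x : Fin n → ZMod 2) : ind (supp x) = x := by
  funext i
  rcases zmod2_cases (x i) with h | h <;> simp [supp, ind, h]

theorem hammingNorm_eq_card_supp (x : Fin n → ZMod 2) : hammingNorm x = (supp x).card := rfl

theorem supp_add (x y : Fin n → ZMod 2) : supp (x + y) = symmDiff (supp x) (supp y) := by
  ext i
  rcases zmod2_cases (x i) with h | h <;> rcases zmod2_cases (y i) with h' | h' <;>
    simp [supp, Finset.mem_symmDiff, h, h'] <;> decide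

theorem norm_add (x y : Fin n → ZMod 2) :
    hammingNorm (x + y) + 2 * (supp x ∩ supp y).card = hammingNorm x + hammingNorm y := by
  simp only [hammingNorm_eq_card_supp, supp_add]
  have h1 : (symmDiff (supp x) (supp y)).card = (supp x \ supp y).card + (supp y \ supp x).card :=
    Finset.card_union_of_disjoint disjoint_sdiff_sdiff
  have h2 := Finset.card_sdiff_add_card_inter (supp x) (supp y)
  have h3 := Finset.card_sdiff_add_card_inter (supp y) (supp x)
  rw [Finset.inter_comm (supp y)] at h3
  omega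

theorem sum_mul_eq_card_inter (x y : Fin n → ZMod 2) :
    ∑ i, x i * y i = ((supp x ∩ supp y).card : ZMod 2) := by
  rw [Finset.card_eq_sum_ones, Nat.cast_sum, ← Finset.sum_subset (Finset.subset_univ (supp x ∩ supp y))]
  · refine Finset.sum_congr rfl fun i hi => ?_
    simp only [supp, Finset.mem_inter, Finset.mem_filter, Finset.mem_univ, true_and] at hi
    rcases zmod2_cases (x i) with h | h <;> rcases zmod2_cases (y i) with h' | h' <;> simp_all
  · intro i _ hi
    simp only [supp, Finset.mem_inter, Finset.mem_filter, Finset.mem_univ, true_and] at hi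
    rcases zmod2_cases (x i) with h | h <;> rcases zmod2_cases (y i) with h' | h' <;> simp_all

theorem sub_eq_add' (x y : Fin n → ZMod 2) : x - y = x + y := by
  funext i; simp [sub_eq_add_neg, ZMod.neg_eq_self_mod_two]

/-- The hypotheses shared by the statements. -/
structure GolayHyp (C : Submodule (ZMod 2) (Fin 24 → ZMod 2)) : Prop where
  dim : Module.finrank (ZMod 2) C = 12
  orth : ∀ v ∈ C, ∀ w ∈ C, ∑ i, v i * w i = 0
  min : ∀ w ∈ C, w ≠ 0 → 8 ≤ hammingNorm w

namespace GolayHyp

variable {C : Submodule (ZMod 2) (Fin 24 → ZMod 2)}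

theorem inter_even (h : GolayHyp C) {v w : Fin 24 → ZMod 2} (hv : v ∈ C) (hw : w ∈ C) :
    Even (supp v ∩ supp w).card := by
  have := h.orth v hv w hw
  rw [sum_mul_eq_card_inter, ZMod.natCast_eq_zero_iff_even] at this
  exact this

theorem norm_even (h : GolayHyp C) {v : Fin 24 → ZMod 2} (hv : v ∈ C) : Even (hammingNorm v) := by
  simpa [hammingNorm_eq_card_supp] using h.inter_even hv hv

theorem card_small_sets (i₀ : Fin 24) :
    ((Finset.range 4).biUnion fun k => (Finset.univ.erase i₀).powersetCard k).card = 2048 := by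
  rw [Finset.card_biUnion]
  · simp [Finset.card_powersetCard, Finset.sum_range_succ, Nat.choose]
  · intro a _ b _ hab
    simp only [Function.onFun, Finset.disjoint_left, Finset.mem_powersetCard]
    rintro T ⟨-, h1⟩ ⟨-, h2⟩
    exact hab (h1.symm.trans h2)

/-- The punctured code is perfect. -/
theorem cover (h : GolayHyp C) (x : Fin 24 → ZMod 2) (i₀ : Fin 24) :
    ∃ c ∈ C, ((supp (x + c)).erase i₀).card ≤ 3 := by
  classical
  let P := (Finset.range 4).biUnion fun k => (Finset.univ.erase i₀ : Finset (Fin 24)).powersetCard k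
  have hP : ∀ T ∈ P, T.card ≤ 3 ∧ i₀ ∉ T := by
    intro T hT
    simp only [P, Finset.mem_biUnion, Finset.mem_range, Finset.mem_powersetCard] at hT
    obtain ⟨k, hk, hs, hc⟩ := hT
    exact ⟨by omega, fun hi => Finset.notMem_erase i₀ _ (hs hi)⟩
  let Φ : C × P → ({j : Fin 24 // j ≠ i₀} → ZMod 2) := fun p j => (p.1.1 + ind p.2.1) j.1
  have hinj : Function.Injective Φ := by
    rintro ⟨⟨c, hc⟩, T, hT⟩ ⟨⟨d, hd⟩, U, hU⟩ he
    have hagree : ∀ j, j ≠ i₀ → c j + ind T j = d j + ind U j := fun j hj => congrFun he ⟨j, hj⟩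
    have hsub : supp (c + d) ⊆ insert i₀ (T ∪ U) := by
      intro j hj
      by_contra hn
      simp only [Finset.mem_insert, Finset.mem_union, not_or] at hn
      have := hagree j hn.1
      simp only [ind, hn.2.1, hn.2.2, if_false, add_zero] at this
      simp [supp, this, CharTwo.add_self_eq_zero] at hj
    have hle : hammingNorm (c + d) ≤ 7 := by
      rw [hammingNorm_eq_card_supp]
      have h1 := Finset.card_le_card hsub
      have h2 := Finset.card_insert_le i₀ (T ∪ U)
      have h3 := Finset.card_union_le T U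
      have := (hP T hT).1; have := (hP U hU).1
      omega
    have hcd : c = d := by
      by_contra hne
      have := h.min (c + d) (C.add_mem hc hd) (fun h0 => hne (by
        rw [← sub_eq_add', sub_eq_zero] at h0; exact h0))
      omega
    subst hcd
    have hTU : T = U := by
      ext j
      by_cases hj : j = i₀
      · subst hj; simp [(hP T hT).2, (hP U hU).2]
      · have := hagree j hj
        rw [add_right_inj] at this
        by_cases h1 : j ∈ T <;> by_cases h2 : j ∈ U <;> simp_all [ind]
    subst hTU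
    rfl
  have hcard : Nat.card (C × P) = Nat.card ({j : Fin 24 // j ≠ i₀} → ZMod 2) := by
    rw [Nat.card_prod, Module.natCard_eq_pow_finrank (K := ZMod 2), h.dim, Nat.card_fun,
      Nat.card_zmod, Nat.card_eq_finsetCard, card_small_sets]
    simp [Fintype.card_subtype_compl]
  obtain ⟨⟨⟨c, hc⟩, T, hT⟩, hx⟩ :=
    ((Nat.bijective_iff_injective_and_card Φ).mpr ⟨hinj, hcard⟩).2 (fun j => x j.1)
  refine ⟨c, hc, le_trans (Finset.card_le_card ?_) (hP T hT).1⟩
  intro j hj
  rw [Finset.mem_erase] at hj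
  have := congrFun hx ⟨j, hj.1⟩
  by_contra hn
  simp only [Φ, Pi.add_apply, ind, hn, if_false, add_zero] at this
  simp [supp, ← this, CharTwo.add_self_eq_zero] at hj

theorem exists_octad (h : GolayHyp C) (S : Finset (Fin 24)) (hS : S.card = 5) :
    ∃ o ∈ C, hammingNorm o = 8 ∧ S ⊆ supp o := by
  obtain ⟨i₀, -⟩ : ∃ i : Fin 24, i = i := ⟨0, rfl⟩
  obtain ⟨c, hc, hle⟩ := h.cover (ind S) i₀
  have h4 : hammingNorm (ind S + c) ≤ 4 := by
    rw [hammingNorm_eq_card_supp]
    have := Finset.pred_card_le_card_erase (s := supp (ind S + c)) (a := i₀)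
    omega
  have hn := norm_add (ind S) c
  rw [supp_ind, hammingNorm_eq_card_supp (ind S), supp_ind, hS] at hn
  have hi : (S ∩ supp c).card ≤ 5 := hS ▸ Finset.card_le_card Finset.inter_subset_left
  have hc0 : c ≠ 0 := by
    rintro rfl
    simp only [add_zero] at h4
    rw [hammingNorm_eq_card_supp, supp_ind] at h4
    omega
  have := h.min c hc hc0
  obtain ⟨k, hk⟩ := h.norm_even hc
  refine ⟨c, hc, by omega, ?_⟩
  have : (S ∩ supp c).card = S.card := by omega
  exact Finset.inter_eq_left.mp (Finset.eq_of_subset_of_card_le Finset.inter_subset_left this.ge)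

theorem octad_unique (h : GolayHyp C) {o o' : Fin 24 → ZMod 2} (ho : o ∈ C) (ho' : o' ∈ C)
    (hn : hammingNorm o = 8) (hn' : hammingNorm o' = 8) {S : Finset (Fin 24)} (hS : 5 ≤ S.card)
    (hs : S ⊆ supp o) (hs' : S ⊆ supp o') : o = o' := by
  by_contra hne
  have := h.min (o + o') (C.add_mem ho ho') (fun h0 => hne (by
    rw [← sub_eq_add', sub_eq_zero] at h0; exact h0))
  have := norm_add o o'
  have := Finset.card_le_card (Finset.subset_inter hs hs')
  omega

theorem exists_norm_le_four (h : GolayHyp C) (w : Fin 24 → ZMod 2) :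
    ∃ u, u - w ∈ C ∧ hammingNorm u ≤ 4 := by
  obtain ⟨c, hc, hle⟩ := h.cover w 0
  refine ⟨w + c, by simpa using hc, ?_⟩
  rw [hammingNorm_eq_card_supp]
  have := Finset.pred_card_le_card_erase (s := supp (w + c)) (a := (0 : Fin 24))
  omega

theorem span_octads (h : GolayHyp C) :
    Submodule.span (ZMod 2) {w : Fin 24 → ZMod 2 | w ∈ C ∧ hammingNorm w = 8} = C := by
  refine le_antisymm (Submodule.span_le.mpr fun w hw => hw.1) ?_
  suffices ∀ k, ∀ c ∈ C, hammingNorm c = k →
      c ∈ Submodule.span (ZMod 2) {w : Fin 24 → ZMod 2 | w ∈ C ∧ hammingNorm w = 8} from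
    fun c hc => this _ c hc rfl
  intro k
  induction k using Nat.strong_induction_on with
  | _ k ih =>
    intro c hc hk
    by_cases hc0 : c = 0
    · subst hc0; exact zero_mem _
    have h8 := h.min c hc hc0
    by_cases hk8 : k = 8
    · exact Submodule.subset_span ⟨hc, by omega⟩
    obtain ⟨S, hSc, hS⟩ := Finset.exists_subset_card_eq (s := supp c) (n := 5)
      (by rw [← hammingNorm_eq_card_supp]; omega)
    obtain ⟨o, ho, hon, hSo⟩ := h.exists_octad S hS
    have hn := norm_add c o
    have := Finset.card_le_card (Finset.subset_inter hSc hSo)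
    have hrec := ih _ (by omega : hammingNorm (c + o) < k) (c + o) (C.add_mem hc ho) rfl
    have := Submodule.sub_mem _ hrec (Submodule.subset_span ⟨ho, hon⟩)
    simpa using this

theorem doubly_even (h : GolayHyp C) {w : Fin 24 → ZMod 2} (hw : w ∈ C) : 4 ∣ hammingNorm w := by
  have hw' := hw
  rw [← h.span_octads] at hw'
  induction hw' using Submodule.span_induction with
  | mem x hx => rw [hx.2]; decide
  | zero => simp
  | add x y hx hy ihx ihy =>
    have hxC : x ∈ C := h.span_octads.le hx
    have hyC : y ∈ C := h.span_octads.le hy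
    obtain ⟨k, hk⟩ := h.inter_even hxC hyC
    have hn := norm_add x y
    obtain ⟨a, ha⟩ := ihx hxC
    obtain ⟨b, hb⟩ := ihy hyC
    omega
  | smul a x hx ihx =>
    rcases zmod2_cases a with rfl | rfl
    · simp
    · simpa using ihx (h.span_octads.le hx)

/-- The sextet property. -/
theorem sextet (h : GolayHyp C) (w : Fin 24 → ZMod 2) :
    (∃ u, {u : Fin 24 → ZMod 2 | u - w ∈ C ∧ hammingNorm u ≤ 4} = {u} ∧ hammingNorm u ≤ 3) ∨
    ({u : Fin 24 → ZMod 2 | u - w ∈ C ∧ hammingNorm u ≤ 4}.ncard = 6 ∧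
      ∀ u ∈ {u : Fin 24 → ZMod 2 | u - w ∈ C ∧ hammingNorm u ≤ 4}, hammingNorm u = 4 ∧
        ∀ u' ∈ {u : Fin 24 → ZMod 2 | u - w ∈ C ∧ hammingNorm u ≤ 4}, u ≠ u' →
          Disjoint (supp u) (supp u')) := by
  classical
  set U := {u : Fin 24 → ZMod 2 | u - w ∈ C ∧ hammingNorm u ≤ 4} with hU
  have key : ∀ u ∈ U, ∀ v ∈ U, u ≠ v → hammingNorm u = 4 ∧ Disjoint (supp u) (supp v) := by
    rintro u ⟨hu, hu4⟩ v ⟨hv, hv4⟩ hne
    have hd := C.sub_mem hu hv
    rw [sub_sub_sub_cancel_right] at hd
    have := h.min _ hd (sub_ne_zero.mpr hne)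
    rw [sub_eq_add'] at this
    have := norm_add u v
    refine ⟨by omega, ?_⟩
    rw [Finset.disjoint_iff_inter_eq_empty, ← Finset.card_eq_zero]
    omega
  by_cases h3 : ∃ u ∈ U, hammingNorm u ≤ 3
  · obtain ⟨u, hu, hu3⟩ := h3
    refine Or.inl ⟨u, ?_, hu3⟩
    ext v
    refine ⟨fun hv => ?_, fun hv => hv ▸ hu⟩
    by_contra hne
    have := (key u hu v hv (fun he => hne he.symm)).1
    omega
  · push Not at h3
    have h4 : ∀ u ∈ U, hammingNorm u = 4 := fun u hu => by have := h3 u hu; have := hu.2; omega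
    refine Or.inr ⟨?_, fun u hu => ⟨h4 u hu, fun v hv hne => (key u hu v hv hne).2⟩⟩
    obtain ⟨u, huC, hu4⟩ := h.exists_norm_le_four w
    have hu : u ∈ U := ⟨huC, hu4⟩
    have hun := h4 u hu
    have hcov : U.toFinset.biUnion supp = Finset.univ := by
      refine Finset.eq_univ_iff_forall.mpr fun j => ?_
      rw [Finset.mem_biUnion]
      by_cases hj : j ∈ supp u
      · exact ⟨u, Set.mem_toFinset.mpr hu, hj⟩
      · have hc5 : (insert j (supp u)).card = 5 := by
          rw [Finset.card_insert_of_notMem hj, ← hammingNorm_eq_card_supp, hun]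
        obtain ⟨o, ho, hon, hSo⟩ := h.exists_octad _ hc5
        refine ⟨u + o, Set.mem_toFinset.mpr ⟨?_, ?_⟩, ?_⟩
        · have := C.add_mem huC ho
          rwa [sub_add_eq_add_sub] at this
        · have hn := norm_add u o
          have hi : supp u ∩ supp o = supp u :=
            Finset.inter_eq_left.mpr ((Finset.subset_insert _ _).trans hSo)
          rw [hi, ← hammingNorm_eq_card_supp] at hn
          omega
        · rw [supp_add, Finset.mem_symmDiff]
          exact Or.inr ⟨hSo (Finset.mem_insert_self _ _), hj⟩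
    have hcnt : (U.toFinset.biUnion supp).card = ∑ v ∈ U.toFinset, (supp v).card :=
      Finset.card_biUnion fun a ha b hb hab =>
        (key a (Set.mem_toFinset.mp ha) b (Set.mem_toFinset.mp hb) hab).2
    rw [hcov, Finset.sum_congr rfl (g := fun _ => 4)
      (fun v hv => by rw [← hammingNorm_eq_card_supp]; exact h4 v (Set.mem_toFinset.mp hv))] at hcnt
    rw [Finset.sum_const, smul_eq_mul, Finset.card_univ, Fintype.card_fin] at hcnt
    rw [Set.ncard_eq_toFinset_card']
    omega

theorem steiner (h : GolayHyp C) :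
    Cfsg.IsSteinerSystem 5 8 (Cfsg.wordsOfWeight (C : Set (Fin 24 → ZMod 2)) 8) := by
  refine ⟨fun b hb => hb.2, fun S hS => ?_⟩
  obtain ⟨o, ho, hon, hSo⟩ := h.exists_octad S hS
  refine ⟨supp o, ⟨⟨⟨o, ho, rfl⟩, hon⟩, hSo⟩, ?_⟩
  rintro b ⟨⟨⟨o', ho', rfl⟩, hb⟩, hsb⟩
  rw [h.octad_unique ho' ho hb hon (S := S) (by omega) hsb hSo]
  rfl

end GolayHyp

end CfsgLib.SporMisc
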