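import Mathlib.GroupTheory.Sylow
import Mathlib.GroupTheory.GroupAction.Quotient

set_option autoImplicit false

namespace CfsgLib.SporMisc

theorem smul_coset_eq_iff {G : Type*} [Group G] (H : Subgroup G) (x g : G) :
    x • (g : G ⧸ H) = (g : G ⧸ H) ↔ g⁻¹ * x * g ∈ H := by
  rw [MulAction.Quotient.smul_coe, smul_eq_mul, eq_comm, QuotientGroup.eq]
  simp [mul_assoc]

theorem existsUnique_fixed_coset_iff {G : Type*} [Group G] (H : Subgroup G) {x : G} (hx : x ∈ H) :
    (∃! c : G ⧸ H, x • c = c) ↔ ∀ g : G, g⁻¹ * x * g ∈ H → g ∈ H := by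
  have h1 : x • ((1 : G) : G ⧸ H) = ((1 : G) : G ⧸ H) :=
    (smul_coset_eq_iff H x 1).mpr (by simpa using hx)
  constructor
  · intro h g hg
    have := h.unique h1 ((smul_coset_eq_iff H x g).mpr hg)
    rw [QuotientGroup.eq] at this
    simpa using this
  · intro h
    refine ⟨_, h1, fun c hc => ?_⟩
    induction c using QuotientGroup.induction_on with
    | H g =>
      rw [QuotientGroup.eq]
      simpa using h g ((smul_coset_eq_iff H x g).mp hc)

/-- A 2-element is conjugate into any subgroup of odd index. -/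
theorem exists_conj_mem_of_odd_index {K : Type*} [Group K] [Finite K] (S : Subgroup K)
    (hS : Odd S.index) (u : K) (hu : ∃ k : ℕ, orderOf u = 2 ^ k) : ∃ c : K, c⁻¹ * u * c ∈ S := by
  haveI : Fact (Nat.Prime 2) := ⟨Nat.prime_two⟩
  obtain ⟨k, hk⟩ := hu
  have hp : IsPGroup 2 (Subgroup.zpowers u) := IsPGroup.of_card ((Nat.card_zpowers u).trans hk)
  have hnd : ¬ 2 ∣ Nat.card (K ⧸ S) := by
    rw [← Subgroup.index_eq_card]
    exact hS.not_two_dvd_nat
  obtain ⟨c, hc⟩ := hp.nonempty_fixed_point_of_prime_not_dvd_card (K ⧸ S) hnd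
  induction c using QuotientGroup.induction_on with
  | H g =>
    refine ⟨g, (smul_coset_eq_iff S u g).mp ?_⟩
    exact hc ⟨u, Subgroup.mem_zpowers u⟩

/-- A 2-group permuting an odd number of cosets and containing an element with a single fixed
coset fixes that coset. -/
theorem fixes_of_unique_fixed {G : Type*} [Group G] [Finite G] (H : Subgroup G)
    (hH : Odd H.index) (S : Subgroup G) (hS : IsPGroup 2 S) {z : G} (hz : z ∈ S) (p : G ⧸ H)
    (hp : ∀ c : G ⧸ H, z • c = c → c = p) : ∀ s ∈ S, s • p = p := by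
  haveI : Fact (Nat.Prime 2) := ⟨Nat.prime_two⟩
  have hnd : ¬ 2 ∣ Nat.card (G ⧸ H) := by
    rw [← Subgroup.index_eq_card]
    exact hH.not_two_dvd_nat
  obtain ⟨c, hc⟩ := hS.nonempty_fixed_point_of_prime_not_dvd_card (G ⧸ H) hnd
  intro s hs
  have := hp c (hc ⟨z, hz⟩)
  subst this
  exact hc ⟨s, hs⟩

end CfsgLib.SporMisc
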