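import Mathlib.GroupTheory.OrderOfElement
import Mathlib.Algebra.Group.Conj
import Mathlib.Tactic

set_option autoImplicit false

namespace CfsgLib.SporMisc

variable {G : Type*} [Group G] {a b : G}

theorem invol_conj_pow_two (ha : a * a = 1) (hb : b * b = 1) (j : ℕ) :
    IsConj a (a * (a * b) ^ (2 * j)) ∧ IsConj b (a * (a * b) ^ (2 * j + 1)) := by
  have hainv : a⁻¹ = a := inv_eq_of_mul_eq_one_right ha
  have hbinv : b⁻¹ = b := inv_eq_of_mul_eq_one_right hb
  have hra : a * (a * b) * a = (a * b)⁻¹ := by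
    rw [mul_inv_rev, hainv, hbinv, ← mul_assoc a a b, ha, one_mul]
  have hstep : ∀ k : ℕ, (a * b)⁻¹ * (a * (a * b) ^ k) * (a * b) = a * (a * b) ^ (k + 2) := by
    intro k
    rw [← hra, pow_add, pow_two]
    generalize a * b = r
    calc a * r * a * (a * r ^ k) * r = a * (r * (a * a) * r ^ k) * r := by group
      _ = a * (r ^ k * r) * r := by rw [ha, mul_one, ← pow_succ', pow_succ]
      _ = a * (r ^ k * (r * r)) := by group
  induction j with
  | zero =>
    refine ⟨by simpa using IsConj.refl a, ?_⟩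
    simpa [← mul_assoc, ha] using IsConj.refl b
  | succ j ih =>
    refine ⟨ih.1.trans (isConj_iff.mpr ⟨(a * b)⁻¹, ?_⟩), ih.2.trans (isConj_iff.mpr ⟨(a * b)⁻¹, ?_⟩)⟩
    · rw [inv_inv, hstep]; rfl
    · rw [inv_inv, hstep]; rfl

/-- If the product of two involutions has order `2 * m`, its `m`th power commutes with both. -/
theorem invol_half_pow_comm (ha : a * a = 1) (hb : b * b = 1) {m : ℕ}
    (hm : (a * b) ^ (2 * m) = 1) :
    a * (a * b) ^ m = (a * b) ^ m * a ∧ b * (a * b) ^ m = (a * b) ^ m * b := by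
  have hainv : a⁻¹ = a := inv_eq_of_mul_eq_one_right ha
  have hbinv : b⁻¹ = b := inv_eq_of_mul_eq_one_right hb
  have hcc : (a * b) ^ m * (a * b) ^ m = 1 := by rw [← pow_add, ← two_mul, hm]
  have h1 : a * (a * b) ^ m = (a * b) ^ m * a := by
    have hra : a * (a * b) * a⁻¹ = (a * b)⁻¹ := by
      rw [mul_inv_rev, hainv, hbinv, ← mul_assoc a a b, ha, one_mul]
    have h : (a * (a * b) * a⁻¹) ^ m = a * (a * b) ^ m * a⁻¹ := conj_pow
    rw [hra, inv_pow, inv_eq_of_mul_eq_one_right hcc] at h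
    exact (mul_inv_eq_iff_eq_mul.mp h.symm)
  refine ⟨h1, ?_⟩
  have hb' : b = a * (a * b) := by rw [← mul_assoc, ha, one_mul]
  generalize a * b = r at *
  subst hb'
  calc a * r * r ^ m = a * (r * r ^ m) := by group
    _ = a * (r ^ m * r) := by rw [← pow_succ', pow_succ]
    _ = a * r ^ m * r := by group
    _ = r ^ m * (a * r) := by rw [h1, mul_assoc]

end CfsgLib.SporMisc
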