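import Cfsg.Prelude.Def_FischerSpaces

/-!
# The two planes occurring in Fischer spaces, and subspaces of line systems
-/

set_option autoImplicit false

namespace CfsgLib.SporMisc.FS

open Cfsg

variable {X P : Type*} {L : Set (Set X)}

theorem subset_span (L : Set (Set X)) (S : Set X) : S ⊆ LineSystem.span L S :=
  fun _ hx => Set.mem_sInter.2 fun _ hT => hT.1 hx

theorem span_isSubspace (L : Set (Set X)) (S : Set X) :
    LineSystem.IsSubspace L (LineSystem.span L S) := by
  intro l hl x hx y hy hne hxl hyl z hz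
  rw [LineSystem.span, Set.mem_sInter] at hx hy ⊢
  exact fun T hT => hT.2 l hl x (hx T hT) y (hy T hT) hne hxl hyl hz

theorem span_subset {S T : Set X} (hST : S ⊆ T) (hT : LineSystem.IsSubspace L T) :
    LineSystem.span L S ⊆ T := Set.sInter_subset_of_mem ⟨hST, hT⟩

/-- An embedding of a model line system onto a spanned subspace gives an isomorphism. -/
theorem isomorphic_of_model (hP : LineSystem.IsPartialLinear L) (h3 : ∀ l ∈ L, l.ncard = 3)
    {M : Set (Set P)} (f : P → X) (hf : Function.Injective f) (H1 : ∀ lm ∈ M, f '' lm ∈ L)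
    (H2 : ∀ p q : P, p ≠ q → LineSystem.Collinear L (f p) (f q) → ∃ lm ∈ M, p ∈ lm ∧ q ∈ lm)
    {S₀ : Set X} (hS₀ : S₀ ⊆ Set.range f) (hgen : Set.range f ⊆ LineSystem.span L S₀) :
    LineSystem.Isomorphic (LineSystem.restrict L (LineSystem.span L S₀)) M := by
  have line : ∀ l ∈ L, ∀ p q : P, p ≠ q → f p ∈ l → f q ∈ l → ∃ lm ∈ M, f '' lm = l := by
    intro l hl p q hpq hp hq
    obtain ⟨lm, hlm, hp', hq'⟩ := H2 p q hpq ⟨hf.ne hpq, l, hl, hp, hq⟩
    exact ⟨lm, hlm, hP _ (H1 lm hlm) l hl (f p) (f q) (hf.ne hpq) ⟨p, hp', rfl⟩ ⟨q, hq', rfl⟩ hp hq⟩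
  have hsub : LineSystem.IsSubspace L (Set.range f) := by
    rintro l hl _ ⟨p, rfl⟩ _ ⟨q, rfl⟩ hne hp hq
    obtain ⟨lm, -, rfl⟩ := line l hl p q (fun e => hne (congrArg f e)) hp hq
    exact Set.image_subset_range f lm
  have hS : LineSystem.span L S₀ = Set.range f :=
    Set.Subset.antisymm (span_subset hS₀ hsub) hgen
  rw [hS]
  refine ⟨(Equiv.ofInjective f hf).symm, fun s => ⟨?_, ?_⟩⟩
  · rintro ⟨l, hl, hls, rfl⟩
    obtain ⟨a, b, c, hab, -, -, rfl⟩ := Set.ncard_eq_three.1 (h3 l hl)
    obtain ⟨p, rfl⟩ := hls (Set.mem_insert a _)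
    obtain ⟨q, rfl⟩ := hls (show b ∈ ({f p, b, c} : Set X) by simp)
    obtain ⟨lm, hlm, he⟩ := line _ hl p q (fun e => hab (congrArg f e)) (by simp) (by simp)
    convert hlm using 1
    ext r
    rw [Equiv.image_eq_preimage_symm, Equiv.symm_symm, Set.mem_preimage, Set.mem_setOf_eq,
      Equiv.ofInjective_apply, ← he, hf.mem_set_image]
  · intro h
    refine ⟨f '' ((Equiv.ofInjective f hf).symm '' s), H1 _ h, Set.image_subset_range _ _, ?_⟩
    ext ⟨x, p, rfl⟩
    rw [Set.mem_setOf_eq, hf.mem_set_image, Equiv.image_eq_preimage_symm, Equiv.symm_symm, Set.mem_preimage,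
      show (Equiv.ofInjective f hf) p = ⟨f p, p, rfl⟩ from Subtype.ext rfl]

/-! ## The dual affine plane -/

/-- Swap the two members of a point, fixing the others. -/
def pairFun (s : DualAffinePoint) : Fin 4 → Fin 4 := fun i =>
  if i ∈ s.val then (∑ j ∈ s.val, j) - i else i

theorem pairFun_invol : ∀ s : DualAffinePoint, Function.Involutive (pairFun s) := by
  unfold Function.Involutive
  decide +kernel

/-- The transposition attached to a point. -/
def pairPerm (s : DualAffinePoint) : Equiv.Perm (Fin 4) := (pairFun_invol s).toPerm _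

theorem pairPerm_injective : ∀ s t : DualAffinePoint, pairPerm s = pairPerm t → s = t := by
  decide +kernel

theorem pairPerm_conj : ∀ s : DualAffinePoint,
    ∃ g : Equiv.Perm (Fin 4), pairPerm s = g * Equiv.swap 0 1 * g⁻¹ := by
  decide +kernel

/-- The third point, or `u` when there is no common line. -/
def dualTau (p u : DualAffinePoint) : DualAffinePoint :=
  ⟨u.val.image (pairPerm p), by rw [Finset.card_image_of_injective _ (pairPerm p).injective]; exact u.2⟩

theorem pairPerm_tau : ∀ p u : DualAffinePoint,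
    pairPerm (dualTau p u) = pairPerm p * pairPerm u * pairPerm p := by
  decide +kernel

theorem dual_cases : ∀ p u : DualAffinePoint, p ≠ u →
    (∃ i : Fin 4, i ∉ p.val ∧ i ∉ u.val) ∨
      (pairPerm p * pairPerm u = pairPerm u * pairPerm p ∧ dualTau p u = u) := by
  decide +kernel

theorem dual_line : ∀ p u : DualAffinePoint, ∀ i : Fin 4, p ≠ u → i ∉ p.val → i ∉ u.val →
    (pairPerm p * pairPerm u ≠ pairPerm u * pairPerm p ∧ dualTau p u ≠ p ∧ dualTau p u ≠ u ∧
      ∀ s : DualAffinePoint, i ∉ s.val ↔ (s = p ∨ s = u ∨ s = dualTau p u)) := by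
  decide +kernel

theorem dual_two : ∀ i : Fin 4, ∃ p u : DualAffinePoint, p ≠ u ∧ i ∉ p.val ∧ i ∉ u.val := by
  decide +kernel

theorem dual_line_mem {p u : DualAffinePoint} {i : Fin 4} (hne : p ≠ u) (hp : i ∉ p.val) (hu : i ∉ u.val) :
    ({p, u, dualTau p u} : Set DualAffinePoint) ∈ dualAffinePlaneTwo :=
  ⟨i, Set.ext fun s => ((dual_line p u i hne hp hu).2.2.2 s).symm⟩

/-- The data of an involutory automorphism of a plane fixing exactly the lines through a point. -/
structure HasTau (M : Set (Set P)) (p : P) (τ : P → P) : Prop where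
  self : τ p = p
  third : ∀ u, LineSystem.Collinear M p u → τ u ≠ p ∧ τ u ≠ u ∧ ({p, u, τ u} : Set P) ∈ M
  fixed : ∀ u, u ≠ p → ¬ LineSystem.Collinear M p u → τ u = u
  lines : ∀ lm ∈ M, τ '' lm ∈ M

theorem dual_hasTau (p : DualAffinePoint) : HasTau dualAffinePlaneTwo p (dualTau p) := by
  constructor
  · apply pairPerm_injective
    rw [pairPerm_tau, show pairPerm p * pairPerm p = 1 from Equiv.ext (pairFun_invol p), one_mul]
  · rintro u ⟨hne, _, ⟨i, rfl⟩, hp, hu⟩
    obtain ⟨-, h1, h2, -⟩ := dual_line p u i hne hp hu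
    exact ⟨h1, h2, dual_line_mem hne hp hu⟩
  · intro u hne hn
    rcases dual_cases p u hne.symm with ⟨i, hp, hu⟩ | ⟨-, h⟩
    · exact absurd ⟨hne.symm, _, dual_line_mem hne.symm hp hu, by simp, by simp⟩ hn
    · exact h
  · rintro _ ⟨i, rfl⟩
    refine ⟨pairPerm p i, ?_⟩
    ext s
    have hinv : ∀ s, dualTau p (dualTau p s) = s := by
      intro s
      apply pairPerm_injective
      rw [pairPerm_tau, pairPerm_tau]
      have hpp : pairPerm p * pairPerm p = 1 := Equiv.ext (pairFun_invol p)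
      rw [show pairPerm p * (pairPerm p * pairPerm s * pairPerm p) * pairPerm p =
        (pairPerm p * pairPerm p) * pairPerm s * (pairPerm p * pairPerm p) by group, hpp, one_mul, mul_one]
    have hmem : ∀ s : DualAffinePoint, pairPerm p i ∈ (dualTau p s).val ↔ i ∈ s.val := fun s => by
      simp [dualTau]
    simp only [Set.mem_image, Set.mem_setOf_eq]
    constructor
    · rintro ⟨t, ht, rfl⟩
      rwa [hmem]
    · intro hs
      exact ⟨dualTau p s, fun h => hs (by rwa [← hmem, hinv] at h), hinv s⟩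

/-! ## The affine plane -/

theorem affine_three (a b : Fin 2 → ZMod 3) :
    ({a, b, -a - b} : Set (Fin 2 → ZMod 3)) = {x | ∃ c : ZMod 3, x = a + c • (b - a)} := by
  have h3 : (3 : ZMod 3) = 0 := rfl
  have key : a + (2 : ZMod 3) • (b - a) = -a - b := by
    funext i
    simp only [Pi.add_apply, Pi.smul_apply, Pi.sub_apply, Pi.neg_apply, smul_eq_mul]
    linear_combination b i * h3
  ext x
  simp only [Set.mem_insert_iff, Set.mem_singleton_iff, Set.mem_setOf_eq]
  constructor
  · rintro (rfl | rfl | rfl)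
    · exact ⟨0, by simp⟩
    · exact ⟨1, by simp⟩
    · exact ⟨2, key.symm⟩
  · rintro ⟨c, rfl⟩
    have : ∀ c : ZMod 3, c = 0 ∨ c = 1 ∨ c = 2 := by decide
    rcases this c with rfl | rfl | rfl
    · left; simp
    · right; left; simp
    · right; right; exact key

theorem affine_line_mem {a b : Fin 2 → ZMod 3} (h : a ≠ b) :
    ({a, b, -a - b} : Set (Fin 2 → ZMod 3)) ∈ affinePlaneThree :=
  ⟨a, b - a, sub_ne_zero.2 h.symm, affine_three a b⟩

theorem affine_line_eq {lm : Set (Fin 2 → ZMod 3)} (h : lm ∈ affinePlaneThree) :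
    ∃ a b, a ≠ b ∧ lm = {a, b, -a - b} := by
  obtain ⟨v, w, hw, rfl⟩ := h
  exact ⟨v, v + w, by simpa using hw, by rw [affine_three, add_sub_cancel_left]⟩

theorem affine_third_ne : ∀ a b : Fin 2 → ZMod 3, a ≠ b → -a - b ≠ a ∧ -a - b ≠ b := by
  decide +kernel

theorem affine_hasTau (p : Fin 2 → ZMod 3) : HasTau affinePlaneThree p (fun u => -p - u) := by
  constructor
  · have : ∀ p : Fin 2 → ZMod 3, -p - p = p := by decide +kernel
    exact this p
  · rintro u ⟨hne, -⟩
    obtain ⟨h1, h2⟩ := affine_third_ne p u hne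
    exact ⟨h1, h2, affine_line_mem hne⟩
  · exact fun u hne hn => absurd ⟨hne.symm, _, affine_line_mem hne.symm, by simp, by simp⟩ hn
  · intro lm h
    obtain ⟨a, b, hab, rfl⟩ := affine_line_eq h
    simp only [Set.image_insert_eq, Set.image_singleton]
    convert affine_line_mem (a := -p - a) (b := -p - b) (fun e => hab (sub_right_injective e)) using 3
    have : ∀ p a b : Fin 2 → ZMod 3, -p - (-a - b) = -(-p - a) - (-p - b) := by decide +kernel
    rw [this p a b]

end CfsgLib.SporMisc.FS
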