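import Cfsg.Agent.Lib.SporMisc.FischerModel
import Cfsg.Agent.Lib.ThreeTransp.Basic
import Cfsg.Agent.S5344

/-!
# The Fischer space of a set of 3-transpositions, and the automorphisms of a Fischer space
-/

set_option autoImplicit false

namespace CfsgLib.SporMisc.FS

open Cfsg CfsgLib.ThreeTransp

section Group

variable {G : Type*} [Group G] {D : Set G} (hD : IsTT D)
include hD

/-- The third point. -/
def cj (x y : D) : D := ⟨(y : G) * x * y, hD.cj_mem y.2 x.2⟩

theorem line_mem_iff {l : Set D} : l ∈ threeTranspositionLines D ↔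
    ∃ x y : D, ¬ Commute (x : G) y ∧ l = {x, y, cj hD x y} := by
  constructor <;> rintro ⟨x, y, h, rfl⟩ <;> refine ⟨x, y, h, ?_⟩ <;> ext z <;>
    simp only [Set.mem_insert_iff, Set.mem_singleton_iff, Set.mem_setOf_eq, cj, Subtype.ext_iff, hD.inv_eq y.2]

theorem cj_comm {x y : D} (h : ¬ Commute (x : G) y) : cj hD x y = cj hD y x :=
  Subtype.ext (hD.braid y.2 x.2 fun hc => h hc.symm)

theorem cj_not_commute {x y : D} (h : ¬ Commute (x : G) y) :
    ¬ Commute (y : G) (cj hD x y) ∧ cj hD y (cj hD x y) = x ∧ cj hD (cj hD x y) y = x := by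
  have h1 : cj hD (cj hD x y) y = x :=
    Subtype.ext (show (y : G) * (y * x * y) * y = x by simp [mul_assoc, cancel₂ (hD.sq _ y.2), hD.sq _ y.2])
  have h2 : ¬ Commute (y : G) (cj hD x y) := hD.not_commute_cj_left y.2 fun hc => h hc.symm
  exact ⟨h2, (cj_comm hD h2).trans h1, h1⟩

theorem line_of_two {l : Set D} (hl : l ∈ threeTranspositionLines D) {p q : D} (hp : p ∈ l) (hq : q ∈ l)
    (hpq : p ≠ q) : ¬ Commute (p : G) q ∧ l = {p, q, cj hD p q} := by
  obtain ⟨x, y, h, rfl⟩ := (line_mem_iff hD).1 hl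
  have h' : ¬ Commute (y : G) x := fun hc => h hc.symm
  obtain ⟨hy, ey, ey'⟩ := cj_not_commute hD h
  obtain ⟨hx, ex, ex'⟩ := cj_not_commute hD h'
  rw [← cj_comm hD h] at hx ex ex'
  simp only [Set.mem_insert_iff, Set.mem_singleton_iff] at hp hq
  rcases hp with rfl | rfl | rfl <;> rcases hq with rfl | rfl | rfl <;>
    first
    | exact absurd rfl hpq
    | exact ⟨h, rfl⟩
    | (refine ⟨h', ?_⟩; rw [← cj_comm hD h]; exact Set.insert_comm _ _ _)
    | (refine ⟨hx, ?_⟩; rw [ex]; ext; simp; tauto)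
    | (refine ⟨fun hc => hx hc.symm, ?_⟩; rw [ex']; ext; simp; tauto)
    | (refine ⟨hy, ?_⟩; rw [ey]; ext; simp; tauto)
    | (refine ⟨fun hc => hy hc.symm, ?_⟩; rw [ey']; ext; simp; tauto)

theorem partialLinear : LineSystem.IsPartialLinear (threeTranspositionLines D) := by
  intro l hl m hm x y hne hxl hyl hxm hym
  rw [(line_of_two hD hl hxl hyl hne).2, (line_of_two hD hm hxm hym hne).2]

theorem ncard_line {l : Set D} (hl : l ∈ threeTranspositionLines D) : l.ncard = 3 := by
  obtain ⟨x, y, h, rfl⟩ := (line_mem_iff hD).1 hl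
  refine Set.ncard_eq_three.2 ⟨x, y, cj hD x y, fun e => h (e ▸ Commute.refl _), fun e => ?_, fun e => ?_, rfl⟩
  · refine hD.not_commute_cj_right y.2 x.2 (fun hc => h hc.symm) ?_
    rw [show (y : G) * x * y = x from (congrArg Subtype.val e).symm]
  · exact (cj_not_commute hD h).1 ((congrArg Subtype.val e) ▸ Commute.refl (y : G))

theorem line_mem {x y : D} (h : ¬ Commute (x : G) y) : ({x, y, cj hD x y} : Set D) ∈ threeTranspositionLines D :=
  (line_mem_iff hD).2 ⟨x, y, h, rfl⟩

theorem collinear_noncomm {x y : D} (h : LineSystem.Collinear (threeTranspositionLines D) x y) :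
    ¬ Commute (x : G) y := by
  obtain ⟨hne, l, hl, hx, hy⟩ := h
  exact (line_of_two hD hl hx hy hne).1

/-- A string gives the dual affine plane. -/
theorem string_plane (hset : IsThreeTranspositionSet D) {b x c : D} {l m : Set D}
    (hbx : ¬ Commute (b : G) x) (hxc : ¬ Commute (x : G) c) (hbc : Commute (b : G) c) (hne : b ≠ c)
    (hl : l = {x, b, cj hD x b}) (hm : m = {x, c, cj hD x c}) :
    LineSystem.Isomorphic (LineSystem.restrict (threeTranspositionLines D)
      (LineSystem.span (threeTranspositionLines D) (l ∪ m))) dualAffinePlaneTwo := by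
  obtain ⟨φ, hφ, h0, h1, h2⟩ := Cfsg.Agent.S5344.result hset b.2 x.2 c.2
    (fun e => hne (Subtype.ext e)) hbc hbx hxc
  have hmem : ∀ s, φ (pairPerm s) ∈ D := by
    intro s
    obtain ⟨g, hg⟩ := pairPerm_conj s
    rw [hg, map_mul, map_mul, map_inv, h0]
    exact hD.conj _ _ b.2
  let f : DualAffinePoint → D := fun s => ⟨φ (pairPerm s), hmem s⟩
  have hf : Function.Injective f := fun s t h => pairPerm_injective _ _ (hφ (congrArg Subtype.val h))
  have hcj : ∀ p u, f (dualTau p u) = cj hD (f u) (f p) := fun p u =>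
    Subtype.ext (show φ (pairPerm (dualTau p u)) = φ (pairPerm p) * φ (pairPerm u) * φ (pairPerm p) by
      rw [pairPerm_tau, map_mul, map_mul])
  have hnc : ∀ p u (i : Fin 4), p ≠ u → i ∉ p.val → i ∉ u.val → ¬ Commute (f p : G) (f u) := by
    intro p u i hne' hp hu hc
    exact (dual_line p u i hne' hp hu).1 (hφ (by rw [map_mul, map_mul]; exact hc.eq))
  let P01 : DualAffinePoint := ⟨{0, 1}, by decide⟩
  let P12 : DualAffinePoint := ⟨{1, 2}, by decide⟩
  let P23 : DualAffinePoint := ⟨{2, 3}, by decide⟩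
  have e01 : f P01 = b := Subtype.ext (show φ (pairPerm P01) = b by
    rw [show pairPerm P01 = Equiv.swap 0 1 by decide +kernel, h0])
  have e12 : f P12 = x := Subtype.ext (show φ (pairPerm P12) = x by
    rw [show pairPerm P12 = Equiv.swap 1 2 by decide +kernel, h1])
  have e23 : f P23 = c := Subtype.ext (show φ (pairPerm P23) = c by
    rw [show pairPerm P23 = Equiv.swap 2 3 by decide +kernel, h2])
  refine isomorphic_of_model (partialLinear hD) (fun _ => ncard_line hD) f hf ?_ ?_ ?_ ?_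
  · rintro _ ⟨i, rfl⟩
    obtain ⟨p, u, hne', hp, hu⟩ := dual_two i
    convert line_mem hD (x := f u) (y := f p) (fun hc => hnc p u i hne' hp hu hc.symm) using 1
    rw [show {s : DualAffinePoint | i ∉ s.val} = ({p, u, dualTau p u} : Set _) from
      Set.ext fun s => (dual_line p u i hne' hp hu).2.2.2 s, Set.image_insert_eq, Set.image_insert_eq,
      Set.image_singleton, hcj]
    exact Set.insert_comm _ _ _
  · intro p q hpq hcol
    rcases dual_cases p q hpq with ⟨i, hp, hq⟩ | ⟨hc, -⟩
    · exact ⟨_, dual_line_mem hpq hp hq, by simp, by simp⟩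
    · refine absurd ?_ (collinear_noncomm hD hcol)
      show φ (pairPerm p) * φ (pairPerm q) = φ (pairPerm q) * φ (pairPerm p)
      rw [← map_mul, hc, map_mul]
  · subst hl hm
    rintro z (hz | hz) <;> simp only [Set.mem_insert_iff, Set.mem_singleton_iff] at hz <;>
      rcases hz with rfl | rfl | rfl
    · exact ⟨P12, e12⟩
    · exact ⟨P01, e01⟩
    · exact ⟨dualTau P01 P12, by rw [hcj, e01, e12]⟩
    · exact ⟨P12, e12⟩
    · exact ⟨P23, e23⟩
    · exact ⟨dualTau P23 P12, by rw [hcj, e23, e12]⟩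
  · set T := LineSystem.span (threeTranspositionLines D) (l ∪ m)
    have step : ∀ p u (i : Fin 4), p ≠ u → i ∉ p.val → i ∉ u.val → f p ∈ T → f u ∈ T → f (dualTau p u) ∈ T := by
      intro p u i hne' hp hu hpT huT
      have hn := fun hc : Commute (f u : G) (f p) => hnc p u i hne' hp hu hc.symm
      rw [hcj]
      exact span_isSubspace _ _ _ (line_mem hD hn) _ huT _ hpT (fun e => hne' (hf e.symm)) (by simp) (by simp)
        (by simp)
    have s01 : f P01 ∈ T := subset_span _ _ (Or.inl (by rw [hl, e01]; simp))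
    have s12 : f P12 ∈ T := subset_span _ _ (Or.inl (by rw [hl, e12]; simp))
    have s23 : f P23 ∈ T := subset_span _ _ (Or.inr (by rw [hm, e23]; simp))
    have s02 := step P12 P01 3 (by decide) (by decide) (by decide) s12 s01
    have s13 := step P12 P23 0 (by decide) (by decide) (by decide) s12 s23
    have s03 := step P01 (dualTau P12 P23) 2 (by decide) (by decide +kernel) (by decide +kernel) s01 s13
    rintro _ ⟨s, rfl⟩
    have hall : ∀ s : DualAffinePoint, s = P01 ∨ s = P12 ∨ s = P23 ∨ s = dualTau P12 P01 ∨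
        s = dualTau P12 P23 ∨ s = dualTau P01 (dualTau P12 P23) := by decide +kernel
    rcases hall s with rfl | rfl | rfl | rfl | rfl | rfl <;> assumption

/-- The nine points of an affine plane. -/
def nine (x y z : G) (a : Fin 2 → ZMod 3) : G :=
  (![![x, z, x * z * x], ![y, (x * y * x) * (x * z * x) * (x * y * x), (x * y * x) * z * (x * y * x)],
    ![x * y * x, y * (x * z * x) * y, y * z * y]] : Fin 3 → Fin 3 → G) (a 0) (a 1)

/-- Four pairwise non-commuting partners give the affine plane of order three. -/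
theorem affine_plane {y x z : D} {l m : Set D} (hyx : ¬ Commute (y : G) x) (hxz : ¬ Commute (x : G) z)
    (h1 : ¬ Commute (y : G) z) (h2 : ¬ Commute (cj hD y x : G) z) (h3 : ¬ Commute (y : G) (cj hD z x : G))
    (hl : l = {x, y, cj hD x y}) (hm : m = {x, z, cj hD x z}) :
    LineSystem.Isomorphic (LineSystem.restrict (threeTranspositionLines D)
      (LineSystem.span (threeTranspositionLines D) (l ∪ m))) affinePlaneThree := by
  have sx := cancel₂ (hD.sq _ x.2)
  have sy := cancel₂ (hD.sq _ y.2)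
  have sz := cancel₂ (hD.sq _ z.2)
  have sx' := hD.sq _ x.2
  have sy' := hD.sq _ y.2
  have sz' := hD.sq _ z.2
  have b1 : (y : G) * x * y = x * y * x := hD.braid y.2 x.2 hyx
  have b2 : (z : G) * x * z = x * z * x := hD.braid z.2 x.2 fun hc => hxz hc.symm
  have b3 : (z : G) * y * z = y * z * y := hD.braid z.2 y.2 fun hc => h1 hc.symm
  have b4 : (z : G) * (x * y * x) * z = (x * y * x) * z * (x * y * x) :=
    hD.braid z.2 (cj hD y x).2 fun hc => h2 hc.symm
  have b5 : (y : G) * (x * z * x) * y = (x * z * x) * y * (x * z * x) :=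
    hD.braid y.2 (cj hD z x).2 h3
  set F := nine (x : G) y z with hF
  have pt : ∀ a : Fin 2 → ZMod 3, a = ![a 0, a 1] := fun a => by funext i; fin_cases i <;> rfl
  have hall : ∀ a : Fin 2 → ZMod 3, a = ![0, 0] ∨ a = ![0, 1] ∨ a = ![0, 2] ∨ a = ![1, 0] ∨ a = ![1, 1] ∨
      a = ![1, 2] ∨ a = ![2, 0] ∨ a = ![2, 1] ∨ a = ![2, 2] := by decide +kernel
  have v00 : F ![0, 0] = x := rfl
  have v01 : F ![0, 1] = z := rfl
  have v02 : F ![0, 2] = (x : G) * z * x := rfl
  have v10 : F ![1, 0] = y := rfl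
  have v11 : F ![1, 1] = ((x : G) * y * x) * (x * z * x) * (x * y * x) := rfl
  have v12 : F ![1, 2] = ((x : G) * y * x) * z * (x * y * x) := rfl
  have v20 : F ![2, 0] = (x : G) * y * x := rfl
  have v21 : F ![2, 1] = (y : G) * (x * z * x) * y := rfl
  have v22 : F ![2, 2] = (y : G) * z * y := rfl
  have hx : ∀ a, (x : G) * F a * x = F (-![0, 0] - a) := by
    intro a
    rcases hall a with rfl | rfl | rfl | rfl | rfl | rfl | rfl | rfl | rfl
    · rw [show -![0, 0] - (![0, 0] : Fin 2 → ZMod 3) = ![0, 0] by decide +kernel, v00, mul_assoc, sx]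
    · rw [show -![0, 0] - (![0, 1] : Fin 2 → ZMod 3) = ![0, 2] by decide +kernel, v02, v01]
    · rw [show -![0, 0] - (![0, 2] : Fin 2 → ZMod 3) = ![0, 1] by decide +kernel, v02, v01]
      simp [mul_assoc, sx, sx']
    · rw [show -![0, 0] - (![1, 0] : Fin 2 → ZMod 3) = ![2, 0] by decide +kernel, v20, v10]
    · rw [show -![0, 0] - (![1, 1] : Fin 2 → ZMod 3) = ![2, 2] by decide +kernel, v22, v11]
      simp [mul_assoc, sx, sx']
    · rw [show -![0, 0] - (![1, 2] : Fin 2 → ZMod 3) = ![2, 1] by decide +kernel, v21, v12]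
      simp [mul_assoc, sx, sx']
    · rw [show -![0, 0] - (![2, 0] : Fin 2 → ZMod 3) = ![1, 0] by decide +kernel, v20, v10]
      simp [mul_assoc, sx, sx']
    · rw [show -![0, 0] - (![2, 1] : Fin 2 → ZMod 3) = ![1, 2] by decide +kernel, v21, v12]
      simp [mul_assoc]
    · rw [show -![0, 0] - (![2, 2] : Fin 2 → ZMod 3) = ![1, 1] by decide +kernel, v22, v11]
      simp [mul_assoc, sx]
  have hy : ∀ a, (y : G) * F a * y = F (-![1, 0] - a) := by
    intro a
    rcases hall a with rfl | rfl | rfl | rfl | rfl | rfl | rfl | rfl | rfl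
    · rw [show -![1, 0] - (![0, 0] : Fin 2 → ZMod 3) = ![2, 0] by decide +kernel, v20, v00, b1]
    · rw [show -![1, 0] - (![0, 1] : Fin 2 → ZMod 3) = ![2, 2] by decide +kernel, v22, v01]
    · rw [show -![1, 0] - (![0, 2] : Fin 2 → ZMod 3) = ![2, 1] by decide +kernel, v21, v02]
    · rw [show -![1, 0] - (![1, 0] : Fin 2 → ZMod 3) = ![1, 0] by decide +kernel, v10, mul_assoc, sy]
    · rw [show -![1, 0] - (![1, 1] : Fin 2 → ZMod 3) = ![1, 2] by decide +kernel, v12, v11,
        show (x : G) * y * x * (x * z * x) * (x * y * x) = x * (y * z * y) * x by simp [mul_assoc, sx],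
        show (y : G) * (x * (y * z * y) * x) * y = (y * x * y) * z * (y * x * y) by group, b1]
    · rw [show -![1, 0] - (![1, 2] : Fin 2 → ZMod 3) = ![1, 1] by decide +kernel, v12, v11,
        show (x : G) * y * x * (x * z * x) * (x * y * x) = x * (y * z * y) * x by simp [mul_assoc, sx], ← b1]
      simp [mul_assoc, sy, sy']
    · rw [show -![1, 0] - (![2, 0] : Fin 2 → ZMod 3) = ![0, 0] by decide +kernel, v20, v00, ← b1]
      simp [mul_assoc, sy, sy']
    · rw [show -![1, 0] - (![2, 1] : Fin 2 → ZMod 3) = ![0, 2] by decide +kernel, v21, v02]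
      simp [mul_assoc, sy, sy']
    · rw [show -![1, 0] - (![2, 2] : Fin 2 → ZMod 3) = ![0, 1] by decide +kernel, v22, v01]
      simp [mul_assoc, sy, sy']
  have hz : ∀ a, (z : G) * F a * z = F (-![0, 1] - a) := by
    have e11 : (x : G) * y * x * (x * z * x) * (x * y * x) = x * (z * y * z) * x := by
      rw [b3]; simp [mul_assoc, sx]
    have e21 : (z : G) * (x * (z * y * z) * x) * z = y * (x * z * x) * y := by
      rw [b5, show (z : G) * (x * (z * y * z) * x) * z = (z * x * z) * y * (z * x * z) by group, b2]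
    intro a
    rcases hall a with rfl | rfl | rfl | rfl | rfl | rfl | rfl | rfl | rfl
    · rw [show -![0, 1] - (![0, 0] : Fin 2 → ZMod 3) = ![0, 2] by decide +kernel, v02, v00, b2]
    · rw [show -![0, 1] - (![0, 1] : Fin 2 → ZMod 3) = ![0, 1] by decide +kernel, v01, mul_assoc, sz]
    · rw [show -![0, 1] - (![0, 2] : Fin 2 → ZMod 3) = ![0, 0] by decide +kernel, v02, v00, ← b2]
      simp [mul_assoc, sz, sz']
    · rw [show -![0, 1] - (![1, 0] : Fin 2 → ZMod 3) = ![2, 2] by decide +kernel, v22, v10, b3]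
    · rw [show -![0, 1] - (![1, 1] : Fin 2 → ZMod 3) = ![2, 1] by decide +kernel, v21, v11, e11, e21]
    · rw [show -![0, 1] - (![1, 2] : Fin 2 → ZMod 3) = ![2, 0] by decide +kernel, v20, v12, ← b4]
      simp [mul_assoc, sz, sz']
    · rw [show -![0, 1] - (![2, 0] : Fin 2 → ZMod 3) = ![1, 2] by decide +kernel, v20, v12, b4]
    · rw [show -![0, 1] - (![2, 1] : Fin 2 → ZMod 3) = ![1, 1] by decide +kernel, v21, v11, e11, ← e21]
      simp [mul_assoc, sz, sz']
    · rw [show -![0, 1] - (![2, 2] : Fin 2 → ZMod 3) = ![1, 0] by decide +kernel, v22, v10, ← b3]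
      simp [mul_assoc, sz, sz']
  have hFD : ∀ a, F a ∈ D := by
    intro a
    rcases hall a with rfl | rfl | rfl | rfl | rfl | rfl | rfl | rfl | rfl
    exacts [x.2, z.2, hD.cj_mem x.2 z.2, y.2, hD.cj_mem (hD.cj_mem x.2 y.2) (hD.cj_mem x.2 z.2),
      hD.cj_mem (hD.cj_mem x.2 y.2) z.2, hD.cj_mem x.2 y.2, hD.cj_mem y.2 (hD.cj_mem x.2 z.2),
      hD.cj_mem y.2 z.2]
  -- conjugation by every point is the reflection at it
  have refl : ∀ c a, F c * F a * F c = F (-c - a) := by
    have comp : ∀ (g : D) (c₀ c : Fin 2 → ZMod 3), (∀ a, (g : G) * F a * g = F (-c₀ - a)) →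
        (∀ a, F c * F a * F c = F (-c - a)) → ∀ a, F (-c₀ - c) * F a * F (-c₀ - c) = F (-(-c₀ - c) - a) := by
      intro g c₀ c hg hc a
      rw [← hg c, show (g : G) * F c * g * F a * (g * F c * g) = g * (F c * (g * F a * g) * F c) * g by group,
        hg, hc, hg]
      congr 1
      have key : ∀ p q r : Fin 2 → ZMod 3, -p - (-q - (-p - r)) = -(-p - q) - r := by decide +kernel
      exact key c₀ c a
    have r00 : ∀ a, F ![0, 0] * F a * F ![0, 0] = F (-![0, 0] - a) := by intro a; rw [v00]; exact hx a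
    have r10 : ∀ a, F ![1, 0] * F a * F ![1, 0] = F (-![1, 0] - a) := by intro a; rw [v10]; exact hy a
    have r01 : ∀ a, F ![0, 1] * F a * F ![0, 1] = F (-![0, 1] - a) := by intro a; rw [v01]; exact hz a
    have r20 := comp x ![0, 0] ![1, 0] hx r10
    have r02 := comp x ![0, 0] ![0, 1] hx r01
    have r22 := comp y ![1, 0] ![0, 1] hy r01
    rw [show -![0, 0] - (![1, 0] : Fin 2 → ZMod 3) = ![2, 0] by decide +kernel] at r20
    rw [show -![0, 0] - (![0, 1] : Fin 2 → ZMod 3) = ![0, 2] by decide +kernel] at r02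
    rw [show -![1, 0] - (![0, 1] : Fin 2 → ZMod 3) = ![2, 2] by decide +kernel] at r22
    have r12 := comp z ![0, 1] ![2, 0] hz r20
    have r21 := comp y ![1, 0] ![0, 2] hy r02
    have r11 := comp x ![0, 0] ![2, 2] hx r22
    rw [show -![0, 1] - (![2, 0] : Fin 2 → ZMod 3) = ![1, 2] by decide +kernel] at r12
    rw [show -![1, 0] - (![0, 2] : Fin 2 → ZMod 3) = ![2, 1] by decide +kernel] at r21
    rw [show -![0, 0] - (![2, 2] : Fin 2 → ZMod 3) = ![1, 1] by decide +kernel] at r11
    intro c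
    rcases hall c with rfl | rfl | rfl | rfl | rfl | rfl | rfl | rfl | rfl
    exacts [r00, r01, r02, r10, r11, r12, r20, r21, r22]
  have hinj : ∀ a b, F a = F b → a = b := by
    intro a b hab
    by_contra hne
    have hper : ∀ u, F (u + (a - b)) = F u := by
      intro u
      have e1 := refl a (-u - a)
      have e2 := refl b (-u - a)
      rw [hab] at e1
      have : F (-a - (-u - a)) = F (-b - (-u - a)) := e1.symm.trans e2
      rw [show -a - (-u - a) = u by abel, show -b - (-u - a) = u + (a - b) by abel] at this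
      exact this.symm
    have hper2 : ∀ u, F (u + -(a - b)) = F u := fun u => by
      have := hper (u + -(a - b))
      rw [neg_add_cancel_right] at this
      exact this.symm
    have hcases : ∀ v : Fin 2 → ZMod 3, v ≠ 0 →
        v = ![1, 0] ∨ v = ![0, 1] ∨ v = ![1, 1] ∨ v = ![1, 2] ∨
        -v = ![1, 0] ∨ -v = ![0, 1] ∨ -v = ![1, 1] ∨ -v = ![1, 2] := by decide +kernel
    have k1 : ∀ v : Fin 2 → ZMod 3, (∀ u, F (u + v) = F u) →
        v = ![1, 0] ∨ v = ![0, 1] ∨ v = ![1, 1] ∨ v = ![1, 2] → False := by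
      intro v hv hc
      rcases hc with rfl | rfl | rfl | rfl
      · have := hv ![0, 0]
        rw [show ![0, 0] + (![1, 0] : Fin 2 → ZMod 3) = ![1, 0] by decide +kernel, v10, v00] at this
        exact hyx (this ▸ Commute.refl _)
      · have := hv ![0, 0]
        rw [show ![0, 0] + (![0, 1] : Fin 2 → ZMod 3) = ![0, 1] by decide +kernel, v01, v00] at this
        exact hxz (this ▸ Commute.refl _)
      · have := hv ![0, 2]
        rw [show ![0, 2] + (![1, 1] : Fin 2 → ZMod 3) = ![1, 0] by decide +kernel, v10, v02] at this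
        exact h3 (this ▸ Commute.refl _)
      · have := hv ![0, 1]
        rw [show ![0, 1] + (![1, 2] : Fin 2 → ZMod 3) = ![1, 0] by decide +kernel, v10, v01] at this
        exact h1 (this ▸ Commute.refl _)
    rcases hcases (a - b) (sub_ne_zero.2 hne) with h | h | h | h | h | h | h | h
    · exact k1 _ hper (Or.inl h)
    · exact k1 _ hper (Or.inr (Or.inl h))
    · exact k1 _ hper (Or.inr (Or.inr (Or.inl h)))
    · exact k1 _ hper (Or.inr (Or.inr (Or.inr h)))
    · exact k1 _ hper2 (Or.inl h)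
    · exact k1 _ hper2 (Or.inr (Or.inl h))
    · exact k1 _ hper2 (Or.inr (Or.inr (Or.inl h)))
    · exact k1 _ hper2 (Or.inr (Or.inr (Or.inr h)))
  have hnc : ∀ a b, a ≠ b → ¬ Commute (F a) (F b) := by
    intro a b hab hc
    have := refl a b
    rw [hc.eq, mul_assoc, hD.sq _ (hFD a), mul_one] at this
    exact (affine_third_ne a b hab).2 (hinj _ _ this).symm
  let f : (Fin 2 → ZMod 3) → D := fun a => ⟨F a, hFD a⟩
  have hf : Function.Injective f := fun a b h => hinj a b (congrArg Subtype.val h)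
  have hcj : ∀ a b, cj hD (f b) (f a) = f (-a - b) := fun a b => Subtype.ext (refl a b)
  have hline : ∀ a b, a ≠ b → ({f a, f b, f (-a - b)} : Set D) ∈ threeTranspositionLines D := by
    intro a b hab
    convert line_mem hD (x := f b) (y := f a) (hnc b a hab.symm) using 1
    rw [hcj]
    exact Set.insert_comm _ _ _
  have e00 : f ![0, 0] = x := Subtype.ext v00
  have e10 : f ![1, 0] = y := Subtype.ext v10
  have e01 : f ![0, 1] = z := Subtype.ext v01
  refine isomorphic_of_model (partialLinear hD) (fun _ => ncard_line hD) f hf ?_ ?_ ?_ ?_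
  · intro lm hlm
    obtain ⟨a, b, hab, rfl⟩ := affine_line_eq hlm
    rw [Set.image_insert_eq, Set.image_insert_eq, Set.image_singleton]
    exact hline a b hab
  · exact fun p q hpq _ => ⟨_, affine_line_mem hpq, by simp, by simp⟩
  · subst hl hm
    rintro w (hw | hw) <;> simp only [Set.mem_insert_iff, Set.mem_singleton_iff] at hw <;>
      rcases hw with rfl | rfl | rfl
    · exact ⟨_, e00⟩
    · exact ⟨_, e10⟩
    · exact ⟨-![1, 0] - ![0, 0], by rw [← hcj, e10, e00]⟩
    · exact ⟨_, e00⟩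
    · exact ⟨_, e01⟩
    · exact ⟨-![0, 1] - ![0, 0], by rw [← hcj, e01, e00]⟩
  · set T := LineSystem.span (threeTranspositionLines D) (l ∪ m)
    have step : ∀ a b, a ≠ b → f a ∈ T → f b ∈ T → ∀ c, c = -a - b → f c ∈ T := by
      intro a b hab ha hb c hc
      subst hc
      exact span_isSubspace _ _ _ (hline a b hab) _ ha _ hb (hf.ne hab) (by simp) (by simp) (by simp)
    have s00 : f ![0, 0] ∈ T := subset_span _ _ (Or.inl (by rw [hl, e00]; simp))
    have s10 : f ![1, 0] ∈ T := subset_span _ _ (Or.inl (by rw [hl, e10]; simp))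
    have s01 : f ![0, 1] ∈ T := subset_span _ _ (Or.inr (by rw [hm, e01]; simp))
    have s20 := step _ _ (by decide +kernel) s00 s10 ![2, 0] (by decide +kernel)
    have s02 := step _ _ (by decide +kernel) s00 s01 ![0, 2] (by decide +kernel)
    have s22 := step _ _ (by decide +kernel) s10 s01 ![2, 2] (by decide +kernel)
    have s12 := step _ _ (by decide +kernel) s01 s20 ![1, 2] (by decide +kernel)
    have s21 := step _ _ (by decide +kernel) s10 s02 ![2, 1] (by decide +kernel)
    have s11 := step _ _ (by decide +kernel) s00 s22 ![1, 1] (by decide +kernel)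
    rintro _ ⟨a, rfl⟩
    rcases hall a with rfl | rfl | rfl | rfl | rfl | rfl | rfl | rfl | rfl <;> assumption

/-- The lines of a set of 3-transpositions form a Fischer space. -/
theorem isFischerSpace (hset : IsThreeTranspositionSet D) : IsFischerSpace (threeTranspositionLines D) := by
  refine ⟨partialLinear hD, fun _ => ncard_line hD, fun l hl m hm hne hint => ?_⟩
  obtain ⟨x, hxl, hxm⟩ := hint
  have other : ∀ l ∈ threeTranspositionLines D, x ∈ l → ∃ y, y ∈ l ∧ y ≠ x := by
    intro l hl hxl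
    by_contra hcon
    push Not at hcon
    have := ncard_line hD hl
    rw [show l = {x} from Set.ext fun w => ⟨fun hw => hcon w hw, fun hw => hw ▸ hxl⟩] at this
    simp at this
  obtain ⟨y, hyl, hyx⟩ := other l hl hxl
  obtain ⟨z, hzm, hzx⟩ := other m hm hxm
  obtain ⟨ny, el⟩ := line_of_two hD hl hxl hyl hyx.symm
  obtain ⟨nz, em⟩ := line_of_two hD hm hxm hzm hzx.symm
  by_cases hcom : ∃ b ∈ l, ∃ c ∈ m, b ≠ x ∧ c ≠ x ∧ Commute (b : G) c
  · obtain ⟨b, hb, c, hc, hbx, hcx, hbc⟩ := hcom
    obtain ⟨nb, elb⟩ := line_of_two hD hl hxl hb hbx.symm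
    obtain ⟨nc, emc⟩ := line_of_two hD hm hxm hc hcx.symm
    refine Or.inl (string_plane hD hset (fun h => nb h.symm) nc hbc ?_ elb emc)
    intro e
    subst e
    exact hne (partialLinear hD l hl m hm x b hbx.symm hxl hb hxm hc)
  · push Not at hcom
    have my : cj hD y x ∈ l ∧ cj hD y x ≠ x := by
      rw [← cj_comm hD ny]
      refine ⟨by rw [el]; simp, fun e => ?_⟩
      refine hD.not_commute_cj_right y.2 x.2 (fun h => ny h.symm) ?_
      rw [show (y : G) * x * y = x from congrArg Subtype.val e]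
    have mz : cj hD z x ∈ m ∧ cj hD z x ≠ x := by
      rw [← cj_comm hD nz]
      refine ⟨by rw [em]; simp, fun e => ?_⟩
      refine hD.not_commute_cj_right z.2 x.2 (fun h => nz h.symm) ?_
      rw [show (z : G) * x * z = x from congrArg Subtype.val e]
    exact Or.inr (affine_plane hD (fun h => ny h.symm) nz (hcom y hyl z hzm hyx hzx)
      (hcom _ my.1 z hzm my.2 hzx) (hcom y hyl _ mz.1 hyx mz.2) el em)

end Group

section Space

variable {X : Type*} {L : Set (Set X)} (hL : IsFischerSpace L)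
include hL

theorem exists_third {x u : X} (h : LineSystem.Collinear L x u) :
    ∃ w, w ≠ x ∧ w ≠ u ∧ ({x, u, w} : Set X) ∈ L := by
  obtain ⟨hne, l, hl, hx, hu⟩ := h
  obtain ⟨a, b, c, hab, hac, hbc, rfl⟩ := Set.ncard_eq_three.1 (hL.2.1 l hl)
  simp only [Set.mem_insert_iff, Set.mem_singleton_iff] at hx hu
  rcases hx with rfl | rfl | rfl <;> rcases hu with rfl | rfl | rfl <;>
    first
    | exact absurd rfl hne
    | exact ⟨a, hab, hac, by convert hl using 1 <;> (ext; simp; tauto)⟩
    | exact ⟨a, hac, hab, by convert hl using 1 <;> (ext; simp; tauto)⟩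
    | exact ⟨b, hab.symm, hbc, by convert hl using 1 <;> (ext; simp; tauto)⟩
    | exact ⟨b, hbc, hab.symm, by convert hl using 1 <;> (ext; simp; tauto)⟩
    | exact ⟨c, hac.symm, hbc.symm, by convert hl using 1 <;> (ext; simp; tauto)⟩
    | exact ⟨c, hbc.symm, hac.symm, by convert hl using 1 <;> (ext; simp; tauto)⟩

theorem lineMap_line {x u w : X} (hxu : x ≠ u) (hwx : w ≠ x) (hwu : w ≠ u) (hl : ({x, u, w} : Set X) ∈ L) :
    LineSystem.lineMap L x u = w := by
  unfold LineSystem.lineMap
  have h : ∃ z : X, z ≠ x ∧ z ≠ u ∧ x ≠ u ∧ ({x, u, z} : Set X) ∈ L := ⟨w, hwx, hwu, hxu, hl⟩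
  rw [dif_pos h]
  obtain ⟨h1, h2, -, h4⟩ := h.choose_spec
  have e := hL.1 _ h4 _ hl x u hxu (by simp) (by simp) (by simp) (by simp)
  have hmem : h.choose ∈ ({x, u, w} : Set X) := e ▸ by simp
  simpa [h1, h2] using hmem

theorem lineMap_fixed {x u : X} (h : ¬ LineSystem.Collinear L x u) : LineSystem.lineMap L x u = u := by
  unfold LineSystem.lineMap
  rw [dif_neg]
  rintro ⟨z, -, -, hne, hl⟩
  exact h ⟨hne, _, hl, by simp, by simp⟩

theorem lineMap_self (x : X) : LineSystem.lineMap L x x = x := lineMap_fixed hL fun h => h.1 rfl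

theorem lineMap_invol (x : X) : Function.Involutive (LineSystem.lineMap L x) := by
  intro u
  by_cases h : LineSystem.Collinear L x u
  · obtain ⟨w, hwx, hwu, hl⟩ := exists_third hL h
    rw [lineMap_line hL h.1 hwx hwu hl]
    exact lineMap_line hL hwx.symm h.1.symm hwu.symm (by convert hl using 1; ext; simp; tauto)
  · rw [lineMap_fixed hL h, lineMap_fixed hL h]

/-- `t(x)` as a permutation. -/
noncomputable def tPerm (x : X) : Equiv.Perm X := (lineMap_invol hL x).toPerm _

theorem image_line_of_plane {P : Type} {M : Set (Set P)} (hM : ∀ p, ∃ τ, HasTau M p τ) {S : Set X}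
    (hS : LineSystem.IsSubspace L S) (hiso : LineSystem.Isomorphic (LineSystem.restrict L S) M)
    {x : X} (hx : x ∈ S) {l : Set X} (hl : l ∈ L) (hlS : l ⊆ S) :
    LineSystem.lineMap L x '' l ∈ L := by
  obtain ⟨e, he⟩ := hiso
  obtain ⟨τ, hτ⟩ := hM (e ⟨x, hx⟩)
  have back : ∀ lm ∈ M, Subtype.val '' (e.symm '' lm) ∈ L := by
    intro lm hlm
    have h1 : e.symm '' lm ∈ LineSystem.restrict L S :=
      (he _).2 (by rwa [Set.image_image, show (fun a => e (e.symm a)) = id from funext e.apply_symm_apply, Set.image_id])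
    obtain ⟨l', hl', hsub, e1⟩ := h1
    rw [e1]
    convert hl' using 1
    ext a
    constructor
    · rintro ⟨b, hb, rfl⟩; exact hb
    · exact fun ha => ⟨⟨a, hsub ha⟩, ha, rfl⟩
  have key : ∀ u : S, LineSystem.lineMap L x u = (e.symm (τ (e u)) : X) := by
    intro u
    by_cases hu : (u : X) = x
    · rw [hu, lineMap_self hL, show u = ⟨x, hx⟩ from Subtype.ext hu, hτ.self, e.symm_apply_apply]
    by_cases hc : LineSystem.Collinear M (e ⟨x, hx⟩) (e u)
    · obtain ⟨t1, t2, t3⟩ := hτ.third _ hc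
      refine lineMap_line hL (Ne.symm hu) (fun h => t1 ?_) (fun h => t2 ?_) ?_
      · rw [show (⟨x, hx⟩ : S) = e.symm (τ (e u)) from Subtype.ext h.symm, e.apply_symm_apply]
      · rw [show τ (e u) = e (e.symm (τ (e u))) from (e.apply_symm_apply _).symm, Subtype.ext h]
      · convert back _ t3 using 1
        simp [Set.image_insert_eq]
    · rw [hτ.fixed _ (fun h => hu (congrArg Subtype.val (e.injective h))) hc, e.symm_apply_apply]
      refine lineMap_fixed hL fun ⟨hne, l', hl', hxl, hul⟩ => hc ?_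
      have hsub : l' ⊆ S := hS l' hl' x hx u u.2 hne hxl hul
      exact ⟨fun h => hu (congrArg Subtype.val (e.injective h)).symm, e '' {a : S | (a : X) ∈ l'},
        (he _).1 ⟨l', hl', hsub, rfl⟩, ⟨_, hxl, rfl⟩, ⟨_, hul, rfl⟩⟩
  convert back _ (hτ.lines _ ((he _).1 ⟨l, hl, hlS, rfl⟩)) using 1
  ext a
  simp only [Set.mem_image, Set.mem_setOf_eq]
  constructor
  · rintro ⟨b, hb, rfl⟩
    exact ⟨e.symm (τ (e ⟨b, hlS hb⟩)), ⟨_, ⟨_, ⟨⟨b, hlS hb⟩, hb, rfl⟩, rfl⟩, rfl⟩, (key ⟨b, hlS hb⟩).symm⟩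
  · rintro ⟨_, ⟨_, ⟨_, ⟨b, hb, rfl⟩, rfl⟩, rfl⟩, rfl⟩
    exact ⟨b, hb, key b⟩

theorem lineMap_image_line (x : X) {l : Set X} (hl : l ∈ L) : LineSystem.lineMap L x '' l ∈ L := by
  by_cases hxl : x ∈ l
  · convert hl using 1
    have hfwd : ∀ u ∈ l, LineSystem.lineMap L x u ∈ l := by
      intro u hu
      by_cases hux : u = x
      · rw [hux, lineMap_self hL]; exact hxl
      have hcol : LineSystem.Collinear L x u := ⟨Ne.symm hux, l, hl, hxl, hu⟩
      obtain ⟨w, hwx, hwu, hw⟩ := exists_third hL hcol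
      rw [lineMap_line hL hcol.1 hwx hwu hw, ← hL.1 _ hw l hl x u hcol.1 (by simp) (by simp) hxl hu]
      simp
    refine Set.Subset.antisymm (Set.image_subset_iff.2 hfwd) fun u hu => ?_
    exact ⟨LineSystem.lineMap L x u, hfwd u hu, lineMap_invol hL x u⟩
  by_cases hex : ∃ u ∈ l, LineSystem.Collinear L x u
  · obtain ⟨u, hul, hne, m, hm, hxm, hum⟩ := hex
    have hlm : l ≠ m := fun e => hxl (e ▸ hxm)
    have hx : x ∈ LineSystem.span L (l ∪ m) := subset_span _ _ (Or.inr hxm)
    have hls : l ⊆ LineSystem.span L (l ∪ m) := fun a ha => subset_span _ _ (Or.inl ha)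
    rcases hL.2.2 l hl m hm hlm ⟨u, hul, hum⟩ with h | h
    · exact image_line_of_plane hL (fun p => ⟨_, dual_hasTau p⟩) (span_isSubspace _ _) h hx hl hls
    · exact image_line_of_plane hL (fun p => ⟨_, affine_hasTau p⟩) (span_isSubspace _ _) h hx hl hls
  · push Not at hex
    rwa [Set.image_congr fun u hu => lineMap_fixed hL (hex u hu), Set.image_id']

theorem tPerm_isIso (x : X) : LineSystem.IsIso L L (tPerm hL x) := by
  intro l
  refine ⟨fun h => lineMap_image_line hL x h, fun h => ?_⟩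
  have := lineMap_image_line hL x (show LineSystem.lineMap L x '' l ∈ L from h)
  rwa [Set.image_image, show (fun a => LineSystem.lineMap L x (LineSystem.lineMap L x a)) = id from
    funext (lineMap_invol hL x), Set.image_id] at this

theorem orderOf_tPerm (hnd : LineSystem.IsNondegenerate L) (x : X) : orderOf (tPerm hL x) = 2 := by
  refine orderOf_eq_prime (Equiv.ext fun u => ?_) fun h => ?_
  · rw [pow_two]; exact lineMap_invol hL x u
  obtain ⟨l, hl, hxl⟩ := hnd x
  obtain ⟨a, b, c, hab, -, -, rfl⟩ := Set.ncard_eq_three.1 (hL.2.1 l hl)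
  obtain ⟨u, hu, hne⟩ : ∃ u ∈ ({a, b, c} : Set X), x ≠ u := by
    by_cases hxa : x = a
    · exact ⟨b, by simp, hxa ▸ hab⟩
    · exact ⟨a, by simp, hxa⟩
  obtain ⟨w, hwx, hwu, hw⟩ := exists_third hL ⟨hne, _, hl, hxl, hu⟩
  have e := congrArg (fun s : Equiv.Perm X => s u) h
  exact hwu ((lineMap_line hL hne hwx hwu hw).symm.trans e)

theorem conj_tPerm {g : Equiv.Perm X} (hg : LineSystem.IsIso L L g) (x : X) :
    g * tPerm hL x * g⁻¹ = tPerm hL (g x) := by
  ext v
  obtain ⟨u, rfl⟩ := g.surjective v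
  simp only [Equiv.Perm.mul_apply, Equiv.Perm.inv_def, Equiv.symm_apply_apply]
  show g (LineSystem.lineMap L x u) = LineSystem.lineMap L (g x) (g u)
  by_cases h : LineSystem.Collinear L x u
  · obtain ⟨w, hwx, hwu, hl⟩ := exists_third hL h
    rw [lineMap_line hL h.1 hwx hwu hl]
    refine (lineMap_line hL (g.injective.ne h.1) (g.injective.ne hwx) (g.injective.ne hwu) ?_).symm
    simpa [Set.image_insert_eq] using (hg _).1 hl
  · rw [lineMap_fixed hL h]
    refine (lineMap_fixed hL fun ⟨hne, l, hl, hx, hu⟩ => h ?_).symm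
    refine ⟨fun e => hne (congrArg g e), g ⁻¹' l, (hg _).2 ?_, hx, hu⟩
    rwa [Set.image_preimage_eq l g.surjective]

theorem tPerm_pair (x y : X) : (tPerm hL x * tPerm hL y) ^ 2 = 1 ∨ (tPerm hL x * tPerm hL y) ^ 3 = 1 := by
  have sq : ∀ z, tPerm hL z * tPerm hL z = 1 := fun z => Equiv.ext (lineMap_invol hL z)
  have inv : ∀ z, (tPerm hL z)⁻¹ = tPerm hL z := fun z => inv_eq_of_mul_eq_one_right (sq z)
  by_cases h : LineSystem.Collinear L x y
  · right
    obtain ⟨w, hwx, hwy, hl⟩ := exists_third hL h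
    have e1 := conj_tPerm hL (tPerm_isIso hL x) y
    have e2 := conj_tPerm hL (tPerm_isIso hL y) x
    rw [inv] at e1 e2
    refine pow_three_eq_one (sq x) (sq y) ?_
    rw [e1, e2, show tPerm hL x y = w from lineMap_line hL h.1 hwx hwy hl,
      show tPerm hL y x = w from lineMap_line hL h.1.symm hwy hwx (by convert hl using 1; ext; simp; tauto)]
  · left
    have e1 := conj_tPerm hL (tPerm_isIso hL x) y
    rw [inv, show tPerm hL x y = y from lineMap_fixed hL h] at e1
    rw [pow_two, ← mul_assoc, e1, sq]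

end Space

end CfsgLib.SporMisc.FS
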