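import Mathlib
import Cfsg.Prelude.Def_Sporadic_a
import Cfsg.Agent.Lib.Golay.Design

/-!
Projective planes of order four as Steiner systems `S(2,5,21)`: lines, arcs, hyperovals.
-/

namespace CfsgLib.SporMisc.PlaneFour

open Finset
open scoped Classical

variable {α : Type*} [Fintype α] [DecidableEq α]

/-- A plane of order four. -/
structure IsPlane (L : Set (Finset α)) : Prop where
  card : Fintype.card α = 21
  steiner : Cfsg.IsSteinerSystem 2 5 L

/-- An arc: no three points on a line. -/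
def Arc (L : Set (Finset α)) (S : Finset α) : Prop := ∀ l ∈ L, (l ∩ S).card ≤ 2

/-- A hyperoval. -/
def Oval (L : Set (Finset α)) (H : Finset α) : Prop := H.card = 6 ∧ ∀ l ∈ L, (l ∩ H).card ≤ 2

variable {L : Set (Finset α)}

namespace IsPlane

variable (h : IsPlane L)

include h

theorem exists_line {p q : α} (hpq : p ≠ q) : ∃ l ∈ L, p ∈ l ∧ q ∈ l := by
  obtain ⟨l, ⟨hl, hs⟩, -⟩ := h.steiner.2 {p, q} (card_pair hpq)
  exact ⟨l, hl, hs (mem_insert_self _ _), hs (mem_insert_of_mem (mem_singleton_self _))⟩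

theorem line_unique {p q : α} (hpq : p ≠ q) {l m : Finset α} (hl : l ∈ L) (hm : m ∈ L)
    (hpl : p ∈ l) (hql : q ∈ l) (hpm : p ∈ m) (hqm : q ∈ m) : l = m := by
  refine CfsgLib.Golay.steiner_two_blocks h.steiner hl hm ?_
  rw [← card_pair hpq]
  exact card_le_card (by intro x hx; simp only [mem_insert, mem_singleton] at hx; aesop)

theorem point_unique {p q : α} {l m : Finset α} (hl : l ∈ L) (hm : m ∈ L) (hlm : l ≠ m)
    (hpl : p ∈ l) (hql : q ∈ l) (hpm : p ∈ m) (hqm : q ∈ m) : p = q := by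
  by_contra hpq
  exact hlm (h.line_unique hpq hl hm hpl hql hpm hqm)

theorem lines_through (p : α) :
    ((CfsgLib.Golay.blockFinset L).filter (p ∈ ·)).card = 5 := by
  have h1 := CfsgLib.Golay.blocks_through h.steiner {p} (by simp)
  simp only [card_singleton, singleton_subset_iff, h.card] at h1
  norm_num at h1
  omega

theorem lines_count : L.ncard = 21 := by
  have h1 := CfsgLib.Golay.blocks_total h.steiner
  rw [h.card] at h1
  norm_num [Nat.choose] at h1
  omega

theorem card_line {l : Finset α} (hl : l ∈ L) : l.card = 5 := h.steiner.1 l hl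

theorem meet {l m : Finset α} (hl : l ∈ L) (hm : m ∈ L) : ∃ p, p ∈ l ∧ p ∈ m := by
  by_contra! hno
  obtain ⟨p, hp⟩ : m.Nonempty := card_pos.1 (by rw [h.card_line hm]; norm_num)
  have hne : ∀ q ∈ l, p ≠ q := fun q hq hpq => hno p (hpq ▸ hq) hp
  choose! f hf1 hf2 hf3 using fun q (hq : q ∈ l) => h.exists_line (hne q hq)
  have hinj : Set.InjOn f l := by
    intro a ha b hb hab
    by_contra hne'
    have e := h.line_unique hne' hl (hf1 a ha) ha hb (hf3 a ha) (hab ▸ hf3 b hb)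
    exact hno p (e ▸ hf2 a ha) hp
  have hsub : insert m (l.image f) ⊆ (CfsgLib.Golay.blockFinset L).filter (p ∈ ·) := by
    intro x hx
    rcases mem_insert.1 hx with rfl | hx
    · simp [CfsgLib.Golay.mem_blockFinset, hm, hp]
    · obtain ⟨q, hq, rfl⟩ := mem_image.1 hx
      simp [CfsgLib.Golay.mem_blockFinset, hf1 q hq, hf2 q hq]
  have hnot : m ∉ l.image f := by
    intro hm'
    obtain ⟨q, hq, rfl⟩ := mem_image.1 hm'
    exact hno q hq (hf3 q hq)
  have := card_le_card hsub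
  rw [card_insert_of_notMem hnot, card_image_of_injOn hinj, h.card_line hl, h.lines_through] at this
  omega

theorem inter_eq_singleton {l m : Finset α} (hl : l ∈ L) (hm : m ∈ L) (hlm : l ≠ m) {p : α}
    (hpl : p ∈ l) (hpm : p ∈ m) : l ∩ m = {p} := by
  ext q
  simp only [mem_inter, mem_singleton]
  exact ⟨fun hq => h.point_unique hl hm hlm hq.1 hpl hq.2 hpm, by rintro rfl; exact ⟨hpl, hpm⟩⟩

/-- Three points of an arc are not collinear. -/
theorem arc_not_col {S : Finset α} (hS : Arc L S) {a b c : α} (ha : a ∈ S) (hb : b ∈ S) (hc : c ∈ S)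
    (hab : a ≠ b) (hac : a ≠ c) (hbc : b ≠ c) {l : Finset α} (hl : l ∈ L) (hal : a ∈ l)
    (hbl : b ∈ l) : c ∉ l := by
  intro hcl
  have h1 := hS l hl
  have h2 : ({a, b, c} : Finset α).card ≤ (l ∩ S).card := card_le_card (by
    intro x hx; simp only [mem_insert, mem_singleton] at hx; rcases hx with rfl | rfl | rfl <;> simp [*])
  rw [card_eq_three.2 ⟨a, b, c, hab, hac, hbc, rfl⟩] at h2
  omega

theorem two_of_card {S l : Finset α} (hl2 : 2 ≤ (l ∩ S).card) :
    ∃ a b, a ≠ b ∧ a ∈ S ∧ b ∈ S ∧ a ∈ l ∧ b ∈ l := by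
  obtain ⟨a, ha, b, hb, hab⟩ := one_lt_card.1 hl2
  exact ⟨a, b, hab, (mem_inter.1 ha).2, (mem_inter.1 hb).2, (mem_inter.1 ha).1, (mem_inter.1 hb).1⟩

/-- The six secants of a quadrangle cover all but two points. -/
theorem quad_rest {S : Finset α} (hS4 : S.card = 4) (hS : Arc L S) :
    (univ.filter fun p => ∀ l ∈ L, p ∈ l → (l ∩ S).card ≤ 1).card = 2 := by
  obtain ⟨a, b, c, d, hab, hac, had, hbc, hbd, hcd, rfl⟩ := card_eq_four.1 hS4
  obtain ⟨A, hA, aA, bA⟩ := h.exists_line hab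
  obtain ⟨B, hB, aB, cB⟩ := h.exists_line hac
  obtain ⟨C, hC, aC, dC⟩ := h.exists_line had
  obtain ⟨D, hD, bD, cD⟩ := h.exists_line hbc
  obtain ⟨E, hE, bE, dE⟩ := h.exists_line hbd
  obtain ⟨F, hF, cF, dF⟩ := h.exists_line hcd
  have nA : c ∉ A ∧ d ∉ A := ⟨arc_not_col h hS (by simp) (by simp) (by simp) hab hac hbc hA aA bA,
    arc_not_col h hS (by simp) (by simp) (by simp) hab had hbd hA aA bA⟩
  have nB : b ∉ B ∧ d ∉ B := ⟨arc_not_col h hS (by simp) (by simp) (by simp) hac hab hbc.symm hB aB cB,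
    arc_not_col h hS (by simp) (by simp) (by simp) hac had hcd hB aB cB⟩
  have nC : b ∉ C ∧ c ∉ C := ⟨arc_not_col h hS (by simp) (by simp) (by simp) had hab hbd.symm hC aC dC,
    arc_not_col h hS (by simp) (by simp) (by simp) had hac hcd.symm hC aC dC⟩
  have nD : a ∉ D ∧ d ∉ D := ⟨arc_not_col h hS (by simp) (by simp) (by simp) hbc hab.symm hac.symm hD bD cD,
    arc_not_col h hS (by simp) (by simp) (by simp) hbc hbd hcd hD bD cD⟩
  have nE : a ∉ E ∧ c ∉ E := ⟨arc_not_col h hS (by simp) (by simp) (by simp) hbd hab.symm had.symm hE bE dE,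
    arc_not_col h hS (by simp) (by simp) (by simp) hbd hbc hcd.symm hE bE dE⟩
  have nF : a ∉ F ∧ b ∉ F := ⟨arc_not_col h hS (by simp) (by simp) (by simp) hcd hac.symm had.symm hF cF dF,
    arc_not_col h hS (by simp) (by simp) (by simp) hcd hbc.symm hbd.symm hF cF dF⟩
  have ne : ∀ {l m : Finset α} {x : α}, x ∈ l → x ∉ m → l ≠ m := fun hx hx' e => hx' (e ▸ hx)
  obtain ⟨P, PD, PC⟩ := h.meet hD hC
  obtain ⟨R, RE, RB⟩ := h.meet hE hB
  obtain ⟨T, TF, TA⟩ := h.meet hF hA
  have hPb : P ≠ b := fun e => nC.1 (e ▸ PC)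
  have hPc : P ≠ c := fun e => nC.2 (e ▸ PC)
  have hRb : R ≠ b := fun e => nB.1 (e ▸ RB)
  have hRd : R ≠ d := fun e => nB.2 (e ▸ RB)
  have hTc : T ≠ c := fun e => nA.1 (e ▸ TA)
  have hTd : T ≠ d := fun e => nA.2 (e ▸ TA)
  have k0 : (A ∪ B ∪ C).card = 13 := by
    have e1 : A ∩ B = {a} := h.inter_eq_singleton hA hB (ne bA nB.1) aA aB
    have e2 : C ∩ A = {a} := h.inter_eq_singleton hC hA (ne dC nA.2) aC aA
    have e3 : C ∩ B = {a} := h.inter_eq_singleton hC hB (ne dC nB.2) aC aB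
    have u1 := card_union_add_card_inter A B
    rw [e1, h.card_line hA, h.card_line hB, card_singleton] at u1
    have u2 := card_union_add_card_inter (A ∪ B) C
    rw [inter_comm (A ∪ B) C, inter_union_distrib_left, e2, e3, union_self, card_singleton,
      h.card_line hC] at u2
    omega
  have k1 : (A ∪ B ∪ C ∪ D).card = 15 := by
    have e1 : D ∩ A = {b} := h.inter_eq_singleton hD hA (ne cD nA.1) bD bA
    have e2 : D ∩ B = {c} := h.inter_eq_singleton hD hB (ne bD nB.1) cD cB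
    have e3 : D ∩ C = {P} := h.inter_eq_singleton hD hC (ne bD nC.1) PD PC
    have u := card_union_add_card_inter (A ∪ B ∪ C) D
    rw [inter_comm _ D, inter_union_distrib_left, inter_union_distrib_left, e1, e2, e3,
      h.card_line hD, k0] at u
    have : ({b} ∪ {c} ∪ {P} : Finset α).card = 3 :=
      card_eq_three.2 ⟨b, c, P, hbc, hPb.symm, hPc.symm, by ext; simp <;> tauto⟩
    omega
  have k2 : (A ∪ B ∪ C ∪ D ∪ E).card = 17 := by
    have e1 : E ∩ A = {b} := h.inter_eq_singleton hE hA (ne dE nA.2) bE bA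
    have e2 : E ∩ B = {R} := h.inter_eq_singleton hE hB (ne bE nB.1) RE RB
    have e3 : E ∩ C = {d} := h.inter_eq_singleton hE hC (ne bE nC.1) dE dC
    have e4 : E ∩ D = {b} := h.inter_eq_singleton hE hD (ne dE nD.2) bE bD
    have u := card_union_add_card_inter (A ∪ B ∪ C ∪ D) E
    rw [inter_comm _ E, inter_union_distrib_left, inter_union_distrib_left, inter_union_distrib_left,
      e1, e2, e3, e4, h.card_line hE, k1] at u
    have : ({b} ∪ {R} ∪ {d} ∪ {b} : Finset α).card = 3 :=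
      card_eq_three.2 ⟨b, R, d, hRb.symm, hbd, hRd, by ext; simp <;> tauto⟩
    omega
  have k3 : (A ∪ B ∪ C ∪ D ∪ E ∪ F).card = 19 := by
    have e1 : F ∩ A = {T} := h.inter_eq_singleton hF hA (ne cF nA.1) TF TA
    have e2 : F ∩ B = {c} := h.inter_eq_singleton hF hB (ne dF nB.2) cF cB
    have e3 : F ∩ C = {d} := h.inter_eq_singleton hF hC (ne cF nC.2) dF dC
    have e4 : F ∩ D = {c} := h.inter_eq_singleton hF hD (ne dF nD.2) cF cD
    have e5 : F ∩ E = {d} := h.inter_eq_singleton hF hE (ne cF nE.2) dF dE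
    have u := card_union_add_card_inter (A ∪ B ∪ C ∪ D ∪ E) F
    rw [inter_comm _ F, inter_union_distrib_left, inter_union_distrib_left, inter_union_distrib_left,
      inter_union_distrib_left, e1, e2, e3, e4, e5, h.card_line hF, k2] at u
    have : ({T} ∪ {c} ∪ {d} ∪ {c} ∪ {d} : Finset α).card = 3 :=
      card_eq_three.2 ⟨T, c, d, hTc, hTd, hcd, by ext; simp <;> tauto⟩
    omega
  have hset : (univ.filter fun p => ∀ l ∈ L, p ∈ l → (l ∩ {a, b, c, d}).card ≤ 1)
      = (A ∪ B ∪ C ∪ D ∪ E ∪ F)ᶜ := by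
    ext p
    simp only [mem_filter, mem_univ, true_and, mem_compl, mem_union]
    constructor
    · intro hp hU
      have key : ∀ l ∈ L, p ∈ l → ∀ x y, x ≠ y → x ∈ l → y ∈ l → x ∈ ({a, b, c, d} : Finset α) →
          y ∈ ({a, b, c, d} : Finset α) → False := fun l hl hpl x y hxy hx hy hx' hy' =>
        absurd (hp l hl hpl) (not_le.2 (one_lt_card.2
          ⟨x, mem_inter.2 ⟨hx, hx'⟩, y, mem_inter.2 ⟨hy, hy'⟩, hxy⟩))
      rcases hU with ((((hp' | hp') | hp') | hp') | hp') | hp'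
      exacts [key A hA hp' a b hab aA bA (by simp) (by simp), key B hB hp' a c hac aB cB (by simp) (by simp),
        key C hC hp' a d had aC dC (by simp) (by simp), key D hD hp' b c hbc bD cD (by simp) (by simp),
        key E hE hp' b d hbd bE dE (by simp) (by simp), key F hF hp' c d hcd cF dF (by simp) (by simp)]
    · intro hU l hl hpl
      by_contra! hl2
      obtain ⟨x, y, hxy, hx, hy, hxl, hyl⟩ := two_of_card h hl2
      refine hU ?_
      have u : ∀ {M : Finset α}, M ∈ L → x ∈ M → y ∈ M → p ∈ M := fun hM h1 h2 =>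
        h.line_unique hxy hl hM hxl hyl h1 h2 ▸ hpl
      simp only [mem_insert, mem_singleton] at hx hy
      rcases hx with rfl | rfl | rfl | rfl <;> rcases hy with rfl | rfl | rfl | rfl
      all_goals first
        | exact absurd rfl hxy
        | (have := u hA ‹_› ‹_›; tauto)
        | (have := u hB ‹_› ‹_›; tauto)
        | (have := u hC ‹_› ‹_›; tauto)
        | (have := u hD ‹_› ‹_›; tauto)
        | (have := u hE ‹_› ‹_›; tauto)
        | (have := u hF ‹_› ‹_›; tauto)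
  rw [hset, card_compl, h.card, k3]

/-- Two points off the six secants and a point of the quadrangle are not collinear. -/
theorem rest_no_col {S : Finset α} (hS4 : S.card = 4) (hS : Arc L S) {p q x : α} (hpq : p ≠ q)
    (hxS : x ∈ S) (hp : ∀ l ∈ L, p ∈ l → (l ∩ S).card ≤ 1) (hq : ∀ l ∈ L, q ∈ l → (l ∩ S).card ≤ 1)
    (hpS : p ∉ S) (hqS : q ∉ S) {l : Finset α} (hl : l ∈ L) (hpl : p ∈ l) (hql : q ∈ l) : x ∉ l := by
  intro hxl
  have h3 : (S.erase x).card = 3 := by rw [card_erase_of_mem hxS, hS4]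
  obtain ⟨b, c, d, hbc, hbd, hcd, he⟩ := card_eq_three.1 h3
  have hm : ∀ y ∈ ({b, c, d} : Finset α), y ≠ x ∧ y ∈ S := fun y hy => mem_erase.1 (he ▸ hy)
  obtain ⟨hbx, hbS⟩ := hm b (by simp)
  obtain ⟨hcx, hcS⟩ := hm c (by simp)
  obtain ⟨hdx, hdS⟩ := hm d (by simp)
  have honly : ∀ y ∈ S, y ∈ l → y = x := fun y hy hyl => by
    by_contra hne
    exact absurd (hp l hl hpl) (not_le.2 (one_lt_card.2
      ⟨y, mem_inter.2 ⟨hyl, hy⟩, x, mem_inter.2 ⟨hxl, hxS⟩, hne⟩))
  obtain ⟨D, hD, bD, cD⟩ := h.exists_line hbc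
  obtain ⟨E, hE, bE, dE⟩ := h.exists_line hbd
  obtain ⟨F, hF, cF, dF⟩ := h.exists_line hcd
  obtain ⟨u, uD, ul⟩ := h.meet hD hl
  obtain ⟨v, vE, vl⟩ := h.meet hE hl
  obtain ⟨w, wF, wl⟩ := h.meet hF hl
  have dDE : D ≠ E := fun e => arc_not_col h hS hbS hcS hdS hbc hbd hcd hD bD cD (e ▸ dE)
  have dDF : D ≠ F := fun e => arc_not_col h hS hbS hcS hdS hbc hbd hcd hD bD cD (e ▸ dF)
  have dEF : E ≠ F := fun e => arc_not_col h hS hbS hdS hcS hbd hbc hcd.symm hE bE dE (e ▸ cF)
  have huv : u ≠ v := fun e => by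
    have := h.point_unique hD hE dDE uD bD (e ▸ vE) bE
    exact hbx (honly b hbS (this ▸ ul))
  have huw : u ≠ w := fun e => by
    have := h.point_unique hD hF dDF uD cD (e ▸ wF) cF
    exact hcx (honly c hcS (this ▸ ul))
  have hvw : v ≠ w := fun e => by
    have := h.point_unique hE hF dEF vE dE (e ▸ wF) dF
    exact hdx (honly d hdS (this ▸ vl))
  have hx_off : ∀ {M : Finset α} {y y' : α}, M ∈ L → y ≠ y' → y ∈ S → y' ∈ S → y ∈ M → y' ∈ M →
      y ≠ x → y' ≠ x → x ∉ M ∧ p ∉ M ∧ q ∉ M := fun {M y y'} hM hyy' hy hy' hyM hy'M h1 h2 =>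
    ⟨arc_not_col h hS hy hy' hxS hyy' h1 h2 hM hyM hy'M,
      fun hpM => absurd (hp M hM hpM) (not_le.2 (one_lt_card.2
        ⟨y, mem_inter.2 ⟨hyM, hy⟩, y', mem_inter.2 ⟨hy'M, hy'⟩, hyy'⟩)),
      fun hqM => absurd (hq M hM hqM) (not_le.2 (one_lt_card.2
        ⟨y, mem_inter.2 ⟨hyM, hy⟩, y', mem_inter.2 ⟨hy'M, hy'⟩, hyy'⟩))⟩
  obtain ⟨oD1, oD2, oD3⟩ := hx_off hD hbc hbS hcS bD cD hbx hcx
  obtain ⟨oE1, oE2, oE3⟩ := hx_off hE hbd hbS hdS bE dE hbx hdx
  obtain ⟨oF1, oF2, oF3⟩ := hx_off hF hcd hcS hdS cF dF hcx hdx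
  have h6 : ({x, p, q, u, v, w} : Finset α).card = 6 := by
    have n1 : ∀ {y : α}, y ∈ D → y ≠ x ∧ y ≠ p ∧ y ≠ q := fun hy =>
      ⟨fun e => oD1 (e ▸ hy), fun e => oD2 (e ▸ hy), fun e => oD3 (e ▸ hy)⟩
    have n2 : ∀ {y : α}, y ∈ E → y ≠ x ∧ y ≠ p ∧ y ≠ q := fun hy =>
      ⟨fun e => oE1 (e ▸ hy), fun e => oE2 (e ▸ hy), fun e => oE3 (e ▸ hy)⟩
    have n3 : ∀ {y : α}, y ∈ F → y ≠ x ∧ y ≠ p ∧ y ≠ q := fun hy =>
      ⟨fun e => oF1 (e ▸ hy), fun e => oF2 (e ▸ hy), fun e => oF3 (e ▸ hy)⟩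
    obtain ⟨a1, a2, a3⟩ := n1 uD
    obtain ⟨b1, b2, b3⟩ := n2 vE
    obtain ⟨c1, c2, c3⟩ := n3 wF
    have hxp : x ≠ p := fun e => hpS (e ▸ hxS)
    have hxq : x ≠ q := fun e => hqS (e ▸ hxS)
    simp [hxp, hxq, hpq, huv, huw, hvw, a1.symm, a2.symm, a3.symm, b1.symm, b2.symm, b3.symm,
      c1.symm, c2.symm, c3.symm]
  have h5 : ({x, p, q, u, v, w} : Finset α) ⊆ l := by
    intro y hy
    simp only [mem_insert, mem_singleton] at hy
    rcases hy with rfl | rfl | rfl | rfl | rfl | rfl <;> assumption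
  have := card_le_card h5
  rw [h6, h.card_line hl] at this
  omega

/-- A quadrangle lies in exactly one hyperoval. -/
theorem quad_oval {S : Finset α} (hS4 : S.card = 4) (hS : Arc L S) :
    ∃! H : Finset α, Oval L H ∧ S ⊆ H := by
  set R := univ.filter fun p => ∀ l ∈ L, p ∈ l → (l ∩ S).card ≤ 1 with hRdef
  have hR2 : R.card = 2 := h.quad_rest hS4 hS
  have hR : ∀ {p}, p ∈ R ↔ ∀ l ∈ L, p ∈ l → (l ∩ S).card ≤ 1 := by simp [hRdef]
  have hdisj : Disjoint S R := by
    rw [disjoint_left]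
    intro a ha haR
    obtain ⟨b, hb, hba⟩ := exists_mem_ne (by omega : 1 < S.card) a
    obtain ⟨l, hl, hal, hbl⟩ := h.exists_line hba.symm
    exact absurd (hR.1 haR l hl hal) (not_le.2 (one_lt_card.2
      ⟨a, mem_inter.2 ⟨hal, ha⟩, b, mem_inter.2 ⟨hbl, hb⟩, hba.symm⟩))
  have hov : Oval L (S ∪ R) := by
    refine ⟨by rw [card_union_of_disjoint hdisj, hS4, hR2], fun l hl => ?_⟩
    have hsplit : (l ∩ (S ∪ R)).card ≤ (l ∩ S).card + (l ∩ R).card := by
      rw [inter_union_distrib_left]; exact card_union_le _ _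
    have hS' := hS l hl
    have hR' : (l ∩ R).card ≤ 2 := hR2 ▸ card_le_card inter_subset_right
    rcases Nat.eq_zero_or_pos (l ∩ R).card with h0 | h0
    · omega
    obtain ⟨p, hp⟩ := card_pos.1 h0
    obtain ⟨hpl, hpR⟩ := mem_inter.1 hp
    have h1 := hR.1 hpR l hl hpl
    by_contra! h3
    obtain ⟨p', hp', q', hq', hne⟩ := one_lt_card.1 (by omega : 1 < (l ∩ R).card)
    obtain ⟨x, hx⟩ := card_pos.1 (by omega : 0 < (l ∩ S).card)
    exact rest_no_col h hS4 hS hne (mem_inter.1 hx).2 (hR.1 (mem_inter.1 hp').2)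
      (hR.1 (mem_inter.1 hq').2) (fun hh => disjoint_left.1 hdisj hh (mem_inter.1 hp').2)
      (fun hh => disjoint_left.1 hdisj hh (mem_inter.1 hq').2) hl (mem_inter.1 hp').1
      (mem_inter.1 hq').1 (mem_inter.1 hx).1
  refine ⟨S ∪ R, ⟨hov, subset_union_left⟩, ?_⟩
  rintro H ⟨hH, hSH⟩
  refine eq_of_subset_of_card_le (fun p hp => ?_) (by rw [hov.1, hH.1])
  by_cases hpS : p ∈ S
  · exact mem_union_left _ hpS
  refine mem_union_right _ (hR.2 fun l hl hpl => ?_)
  have hsub : insert p (l ∩ S) ⊆ l ∩ H := by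
    intro y hy
    rcases mem_insert.1 hy with rfl | hy
    · exact mem_inter.2 ⟨hpl, hp⟩
    · exact mem_inter.2 ⟨(mem_inter.1 hy).1, hSH (mem_inter.1 hy).2⟩
  have := card_le_card hsub
  rw [card_insert_of_notMem (fun hh => hpS (mem_inter.1 hh).2)] at this
  have := hH.2 l hl
  omega

omit h in
theorem card_filter_inter_eq (l : Finset α) (n i : ℕ) (hi : i ≤ n) :
    ((univ.powersetCard n).filter fun S => (l ∩ S).card = i).card
      = l.card.choose i * lᶜ.card.choose (n - i) := by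
  rw [← card_powersetCard, ← card_powersetCard, ← card_product]
  refine card_nbij' (fun S => (l ∩ S, lᶜ ∩ S)) (fun AB => AB.1 ∪ AB.2) ?_ ?_ ?_ ?_
  · intro S hS
    simp only [coe_filter, mem_powersetCard, Set.mem_setOf_eq] at hS
    have hpart : (l ∩ S) ∪ (lᶜ ∩ S) = S := by ext; simp; tauto
    have hd : Disjoint (l ∩ S) (lᶜ ∩ S) := disjoint_left.2 (by intro a; simp; tauto)
    have := card_union_of_disjoint hd
    rw [hpart, hS.1.2, hS.2] at this
    simp only [coe_product, Set.mem_prod, mem_coe, mem_powersetCard, inter_subset_left, true_and]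
    exact ⟨hS.2, by omega⟩
  · rintro ⟨A, B⟩ hAB
    simp only [coe_product, Set.mem_prod, mem_coe, mem_powersetCard] at hAB
    obtain ⟨⟨hA, hA'⟩, hB, hB'⟩ := hAB
    have hd : Disjoint A B := disjoint_left.2 fun a ha hb => mem_compl.1 (hB hb) (hA ha)
    simp only [coe_filter, mem_powersetCard, Set.mem_setOf_eq, subset_univ, true_and]
    refine ⟨by rw [card_union_of_disjoint hd, hA', hB']; omega, ?_⟩
    rw [← hA']
    congr 1
    ext a
    simp only [mem_inter, mem_union]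
    exact ⟨fun h => h.2.resolve_right (fun hb => mem_compl.1 (hB hb) h.1), fun ha => ⟨hA ha, .inl ha⟩⟩
  · intro S _
    ext; simp; tauto
  · rintro ⟨A, B⟩ hAB
    simp only [coe_product, Set.mem_prod, mem_coe, mem_powersetCard] at hAB
    obtain ⟨⟨hA, -⟩, hB, -⟩ := hAB
    simp only [Prod.mk.injEq]
    refine ⟨?_, ?_⟩ <;> ext a <;> simp only [mem_inter, mem_union, mem_compl]
    · exact ⟨fun h => h.2.resolve_right (fun hb => mem_compl.1 (hB hb) h.1), fun ha => ⟨hA ha, .inl ha⟩⟩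
    · exact ⟨fun h => h.2.resolve_left (fun ha => h.1 (hA ha)), fun hb => ⟨mem_compl.1 (hB hb), .inr hb⟩⟩

theorem quad_count : {S : Finset α | S.card = 4 ∧ ∀ l ∈ L, (l ∩ S).card ≤ 2}.ncard = 2520 := by
  classical
  let good := (univ.powersetCard 4).filter fun S : Finset α => ∀ l ∈ L, (l ∩ S).card ≤ 2
  have e : {S : Finset α | S.card = 4 ∧ ∀ l ∈ L, (l ∩ S).card ≤ 2} = ↑good := by
    ext S; simp [good, mem_powersetCard]
  rw [e, Set.ncard_coe_finset]
  let bad := fun l : Finset α => (univ.powersetCard 4).filter fun S : Finset α => 3 ≤ (l ∩ S).card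
  have hbad : ((univ.powersetCard 4).filter fun S : Finset α => ¬ ∀ l ∈ L, (l ∩ S).card ≤ 2)
      = (CfsgLib.Golay.blockFinset L).biUnion bad := by
    ext S
    simp [bad, CfsgLib.Golay.mem_blockFinset, mem_powersetCard, Nat.lt_iff_add_one_le]
    tauto
  have hbadc : ∀ l ∈ CfsgLib.Golay.blockFinset L, (bad l).card = 165 := by
    intro l hl
    have hl5 := h.card_line (CfsgLib.Golay.mem_blockFinset.1 hl)
    have hlc : lᶜ.card = 16 := by rw [card_compl, h.card, hl5]
    have e : bad l = ((univ.powersetCard 4).filter fun S => (l ∩ S).card = 3)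
        ∪ ((univ.powersetCard 4).filter fun S => (l ∩ S).card = 4) := by
      ext S
      simp only [bad, mem_union, mem_filter, mem_powersetCard]
      constructor
      · rintro ⟨⟨h1, h2⟩, h3⟩
        have : (l ∩ S).card ≤ 4 := h2 ▸ card_le_card inter_subset_right
        rcases (by omega : (l ∩ S).card = 3 ∨ (l ∩ S).card = 4) with h4 | h4
        exacts [.inl ⟨⟨h1, h2⟩, h4⟩, .inr ⟨⟨h1, h2⟩, h4⟩]
      · rintro (⟨h1, h2⟩ | ⟨h1, h2⟩) <;> exact ⟨h1, by omega⟩
    rw [e, card_union_of_disjoint (disjoint_filter.2 fun S _ h1 h2 => by omega),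
      card_filter_inter_eq l 4 3 (by norm_num), card_filter_inter_eq l 4 4 le_rfl, hl5, hlc]
    rfl
  have hdis : ((CfsgLib.Golay.blockFinset L : Finset (Finset α)) : Set (Finset α)).PairwiseDisjoint bad := by
    intro l hl m hm hlm
    rw [Function.onFun, disjoint_left]
    intro S hSl hSm
    simp only [bad, mem_filter, mem_powersetCard] at hSl hSm
    refine hlm (CfsgLib.Golay.steiner_two_blocks h.steiner (CfsgLib.Golay.mem_blockFinset.1 hl)
      (CfsgLib.Golay.mem_blockFinset.1 hm) ?_)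
    have hle : ((l ∩ S) ∩ (m ∩ S)).card ≤ (l ∩ m).card := card_le_card (by intro a; simp; tauto)
    have hu : ((l ∩ S) ∪ (m ∩ S)).card ≤ 4 := hSl.1.2 ▸ card_le_card (union_subset inter_subset_right inter_subset_right)
    have := card_union_add_card_inter (l ∩ S) (m ∩ S)
    omega
  have htot := card_filter_add_card_filter_not (s := univ.powersetCard 4)
    (fun S : Finset α => ∀ l ∈ L, (l ∩ S).card ≤ 2)
  rw [hbad, card_biUnion hdis, sum_congr rfl hbadc, sum_const, CfsgLib.Golay.card_blockFinset,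
    h.lines_count, card_powersetCard, card_univ, h.card] at htot
  have : Nat.choose 21 4 = 5985 := rfl
  change good.card = 2520
  simp only [smul_eq_mul, good] at htot ⊢
  omega

theorem oval_count : {H : Finset α | Oval L H}.ncard = 168 := by
  classical
  let Q := (univ.powersetCard 4).filter fun S : Finset α => ∀ l ∈ L, (l ∩ S).card ≤ 2
  let O := univ.filter fun H : Finset α => Oval L H
  have eQ : Q.card = 2520 := by
    rw [← h.quad_count, ← Set.ncard_coe_finset]
    congr 1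
    ext S; simp [Q, mem_powersetCard]
  have eO : {H : Finset α | Oval L H} = ↑O := by ext H; simp [O]
  rw [eO, Set.ncard_coe_finset]
  have hsum : Q.card = ∑ H ∈ O, 15 := by
    have hdc := sum_card_bipartiteAbove_eq_sum_card_bipartiteBelow (s := Q) (t := O) (fun S H => S ⊆ H)
    simp only [bipartiteAbove, bipartiteBelow] at hdc
    have h1 : ∀ S ∈ Q, (O.filter (S ⊆ ·)).card = 1 := by
      intro S hS
      simp only [Q, mem_filter, mem_powersetCard] at hS
      obtain ⟨H, hH, hu⟩ := h.quad_oval hS.1.2 hS.2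
      refine card_eq_one.2 ⟨H, ?_⟩
      ext H'
      simp only [O, mem_filter, mem_univ, true_and, mem_singleton]
      exact ⟨fun hh => hu H' hh, fun e => e ▸ hH⟩
    have h2 : ∀ H ∈ O, (Q.filter (· ⊆ H)).card = 15 := by
      intro H hH
      simp only [O, mem_filter, mem_univ, true_and] at hH
      have e : Q.filter (· ⊆ H) = H.powersetCard 4 := by
        ext S
        simp only [Q, mem_filter, mem_powersetCard, subset_univ, true_and]
        refine ⟨fun hh => ⟨hh.2, hh.1.1⟩, fun hh => ⟨⟨hh.2, fun l hl => ?_⟩, hh.1⟩⟩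
        exact (card_le_card (inter_subset_inter_left hh.1)).trans (hH.2 l hl)
      rw [e, card_powersetCard, hH.1]
      rfl
    rw [sum_congr rfl h1, sum_congr rfl h2, sum_const, smul_eq_mul, mul_one] at hdc
    exact hdc
  rw [sum_const, smul_eq_mul, eQ] at hsum
  omega

theorem exists_oval : ∃ H : Finset α, Oval L H := by
  have : {H : Finset α | Oval L H}.Nonempty := Set.nonempty_of_ncard_ne_zero (by
    rw [h.oval_count]; norm_num)
  exact this

/-- A line meets a hyperoval in no or two points. -/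
theorem oval_line {H : Finset α} (hH : Oval L H) {l : Finset α} (hl : l ∈ L) {a : α} (hal : a ∈ l)
    (haH : a ∈ H) : ∃ b, b ≠ a ∧ b ∈ l ∧ b ∈ H := by
  by_contra! hno
  choose! f hf1 hf2 hf3 using fun q (hq : q ∈ H.erase a) => h.exists_line (mem_erase.1 hq).1.symm
  have hinj : Set.InjOn f (H.erase a) := by
    intro x hx y hy hxy
    by_contra hne
    obtain ⟨hx1, hx2⟩ := mem_erase.1 hx
    obtain ⟨hy1, hy2⟩ := mem_erase.1 hy
    exact arc_not_col h hH.2 haH hx2 hy2 hx1.symm hy1.symm hne (hf1 x hx) (hf2 x hx) (hf3 x hx)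
      (hxy ▸ hf3 y hy)
  have hnot : l ∉ (H.erase a).image f := by
    intro hl'
    obtain ⟨q, hq, rfl⟩ := mem_image.1 hl'
    exact hno q (mem_erase.1 hq).1 (hf3 q hq) (mem_erase.1 hq).2
  have hsub : insert l ((H.erase a).image f) ⊆ (CfsgLib.Golay.blockFinset L).filter (a ∈ ·) := by
    intro x hx
    rcases mem_insert.1 hx with rfl | hx
    · simp [CfsgLib.Golay.mem_blockFinset, hl, hal]
    · obtain ⟨q, hq, rfl⟩ := mem_image.1 hx
      simp [CfsgLib.Golay.mem_blockFinset, hf1 q hq, hf2 q hq]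
  have := card_le_card hsub
  rw [card_insert_of_notMem hnot, card_image_of_injOn hinj, card_erase_of_mem haH, hH.1,
    h.lines_through] at this
  omega

end IsPlane

end CfsgLib.SporMisc.PlaneFour
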