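import Mathlib
import Cfsg.Agent.Lib.SporMisc.PlaneFour

/-!
Isomorphisms of planes of order four: every bijection between hyperovals extends uniquely.
The points off a hyperoval correspond to the fixed-point-free involutions of the hyperoval.
-/

namespace CfsgLib.SporMisc.PlaneFour

open Finset
open scoped Classical

variable {α : Type*} [Fintype α] [DecidableEq α] {L : Set (Finset α)}

/-- The fixed-point-free involutions of the six points of a hyperoval. -/
def Syn {γ : Type*} (f : Equiv.Perm γ) : Prop := ∀ a, f a ≠ a ∧ f (f a) = a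

theorem syn_eq_of_two {γ : Type*} [Fintype γ] (h6 : Fintype.card γ = 6) {f k : Equiv.Perm γ}
    (hf : Syn f) (hk : Syn k) {a c : γ} (hc1 : c ≠ a) (hc2 : c ≠ f a) (ea : k a = f a)
    (ec : k c = f c) : k = f := by
  have efa : k (f a) = f (f a) := by rw [(hf a).2, ← ea, (hk a).2]
  have efc : k (f c) = f (f c) := by rw [(hf c).2, ← ec, (hk c).2]
  let F : Finset γ := {a, f a, c, f c}
  have hF : F.card = 4 := by
    refine card_eq_four.2 ⟨a, f a, c, f c, (hf a).1.symm, hc1.symm, ?_, hc2.symm, ?_, (hf c).1.symm, rfl⟩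
    · intro e; exact hc2 (by rw [e, (hf c).2])
    · exact fun e => hc1 (f.injective e).symm
  have hstab : ∀ g : Equiv.Perm γ, Syn g → (∀ y ∈ F, g y = f y) → ∀ x ∈ Fᶜ, g x ∈ Fᶜ.erase x := by
    intro g hg hgF x hx
    refine mem_erase.2 ⟨(hg x).1, mem_compl.2 fun hgx => mem_compl.1 hx ?_⟩
    rw [← (hg x).2, hgF _ hgx]
    simp only [F, mem_insert, mem_singleton] at hgx ⊢
    rcases hgx with e | e | e | e <;> rw [e] <;> simp [(hf a).2, (hf c).2]
  have hkF : ∀ y ∈ F, k y = f y := by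
    intro y hy
    simp only [F, mem_insert, mem_singleton] at hy
    rcases hy with rfl | rfl | rfl | rfl <;> assumption
  refine Equiv.ext fun x => ?_
  by_cases hx : x ∈ F
  · exact hkF x hx
  · have hx' := mem_compl.2 hx
    have h1 : (Fᶜ.erase x).card = 1 := by rw [card_erase_of_mem hx', card_compl, h6, hF]
    exact card_le_one.1 h1.le _ (hstab k hk hkF x hx') _ (hstab f hf (fun _ _ => rfl) x hx')

/-- A plane with a chosen hyperoval. -/
structure Chart (L : Set (Finset α)) (H : Finset α) : Prop where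
  plane : IsPlane L
  oval : Oval L H

namespace Chart

variable {H : Finset α} (h : Chart L H)

include h

theorem no_three {a b c : α} (ha : a ∈ H) (hb : b ∈ H) (hc : c ∈ H) (hab : a ≠ b) (hac : a ≠ c)
    (hbc : b ≠ c) {l : Finset α} (hl : l ∈ L) (hal : a ∈ l) (hbl : b ∈ l) : c ∉ l :=
  IsPlane.arc_not_col h.plane h.oval.2 ha hb hc hab hac hbc hl hal hbl

theorem mate_exists {p : α} (hp : p ∉ H) (a : ↥H) :
    ∃ b : ↥H, b ≠ a ∧ ∃ l ∈ L, p ∈ l ∧ (a : α) ∈ l ∧ (b : α) ∈ l := by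
  obtain ⟨l, hl, hpl, hal⟩ := h.plane.exists_line (show p ≠ (a : α) from fun e => hp (e ▸ a.2))
  obtain ⟨b, hb, hbl, hbH⟩ := h.plane.oval_line h.oval hl hal a.2
  exact ⟨⟨b, hbH⟩, fun e => hb (congrArg Subtype.val e), l, hl, hpl, hal, hbl⟩

/-- The other point of the hyperoval on the line joining `p` and `a`. -/
noncomputable def mate (p : {x // x ∉ H}) (a : ↥H) : ↥H :=
  (h.mate_exists p.2 a).choose

theorem mate_ne (p : {x // x ∉ H}) (a : ↥H) : h.mate p a ≠ a :=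
  (h.mate_exists p.2 a).choose_spec.1

theorem mate_line (p : {x // x ∉ H}) (a : ↥H) :
    ∃ l ∈ L, (p : α) ∈ l ∧ (a : α) ∈ l ∧ (h.mate p a : α) ∈ l :=
  (h.mate_exists p.2 a).choose_spec.2

theorem mate_eq {p : {x // x ∉ H}} {a b : ↥H} (hne : b ≠ a) {l : Finset α} (hl : l ∈ L)
    (hp : (p : α) ∈ l) (ha : (a : α) ∈ l) (hb : (b : α) ∈ l) : h.mate p a = b := by
  obtain ⟨m, hm, hpm, ham, hbm⟩ := h.mate_line p a
  have e : m = l := h.plane.line_unique (show (p : α) ≠ a from fun e => p.2 (e ▸ a.2)) hm hl hpm ham hp ha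
  by_contra hc
  exact h.no_three a.2 (h.mate p a).2 b.2 (fun e => (h.mate_ne p a) (Subtype.ext e).symm)
    (fun e => hne (Subtype.ext e).symm) (fun e => hc (Subtype.ext e)) hl ha (e ▸ hbm) hb

theorem mate_mate (p : {x // x ∉ H}) (a : ↥H) : h.mate p (h.mate p a) = a := by
  obtain ⟨m, hm, hpm, ham, hbm⟩ := h.mate_line p a
  exact h.mate_eq (h.mate_ne p a).symm hm hpm hbm ham

/-- The syntheme of a point off the hyperoval. -/
noncomputable def syn (p : {x // x ∉ H}) : {f : Equiv.Perm ↥H // Syn f} :=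
  ⟨Function.Involutive.toPerm (h.mate p) (h.mate_mate p), fun a => ⟨h.mate_ne p a, h.mate_mate p a⟩⟩

theorem syn_apply (p : {x // x ∉ H}) (a : ↥H) : (h.syn p).1 a = h.mate p a := rfl

theorem exists_other (a b : ↥H) : ∃ c : ↥H, c ≠ a ∧ c ≠ b := by
  obtain ⟨c, -, hc⟩ := exists_mem_notMem_of_card_lt_card
    (s := ({a, b} : Finset ↥H)) (t := univ) (by
      have : ({a, b} : Finset ↥H).card ≤ 2 := card_le_two
      rw [card_univ, Fintype.card_coe, h.oval.1]; omega)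
  simp only [mem_insert, mem_singleton, not_or] at hc
  exact ⟨c, hc⟩

theorem nonempty_oval : Nonempty ↥H := by
  obtain ⟨a, ha⟩ := card_pos.1 (by rw [h.oval.1]; norm_num : 0 < H.card)
  exact ⟨⟨a, ha⟩⟩

theorem syn_injective : Function.Injective h.syn := by
  intro p q hpq
  have e : ∀ a, h.mate p a = h.mate q a := fun a => by rw [← h.syn_apply, hpq, h.syn_apply]
  obtain ⟨a⟩ := h.nonempty_oval
  obtain ⟨c, hca, hcb⟩ := h.exists_other a (h.mate p a)
  obtain ⟨l, hl, hpl, hal, hbl⟩ := h.mate_line p a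
  obtain ⟨l', hl', hql, hal', hbl'⟩ := h.mate_line q a
  obtain ⟨m, hm, hpm, hcm, hdm⟩ := h.mate_line p c
  obtain ⟨m', hm', hqm, hcm', hdm'⟩ := h.mate_line q c
  rw [← e] at hbl' hdm'
  have el : l' = l := h.plane.line_unique (fun e' => h.mate_ne p a (Subtype.ext e').symm) hl' hl
    hal' hbl' hal hbl
  have em : m' = m := h.plane.line_unique (fun e' => h.mate_ne p c (Subtype.ext e').symm) hm' hm
    hcm' hdm' hcm hdm
  have hlm : l ≠ m := fun e' => h.no_three a.2 (h.mate p a).2 c.2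
    (fun e => h.mate_ne p a (Subtype.ext e).symm) (fun e => hca (Subtype.ext e).symm)
    (fun e => hcb (Subtype.ext e).symm) hl hal hbl (e' ▸ hcm)
  exact Subtype.ext (h.plane.point_unique hl hm hlm hpl (el ▸ hql) hpm (em ▸ hqm))

theorem syn_surjective : Function.Surjective h.syn := by
  rintro ⟨f, hf⟩
  obtain ⟨a⟩ := h.nonempty_oval
  obtain ⟨c, hca, hcb⟩ := h.exists_other a (f a)
  obtain ⟨l, hl, hal, hbl⟩ := h.plane.exists_line
    (fun e => (hf a).1 (Subtype.ext e).symm : (a : α) ≠ (f a : α))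
  obtain ⟨m, hm, hcm, hdm⟩ := h.plane.exists_line
    (fun e => (hf c).1 (Subtype.ext e).symm : (c : α) ≠ (f c : α))
  have hlm : l ≠ m := fun e' => h.no_three a.2 (f a).2 c.2
    (fun e => (hf a).1 (Subtype.ext e).symm) (fun e => hca (Subtype.ext e).symm)
    (fun e => hcb (Subtype.ext e).symm) hl hal hbl (e' ▸ hcm)
  obtain ⟨p, hpl, hpm⟩ := h.plane.meet hl hm
  have hp : p ∉ H := by
    intro hpH
    have on : ∀ {x y : ↥H} {n : Finset α}, x ≠ y → n ∈ L → (x : α) ∈ n → (y : α) ∈ n → p ∈ n →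
        (⟨p, hpH⟩ : ↥H) = x ∨ (⟨p, hpH⟩ : ↥H) = y := by
      intro x y n hxy hn hx hy hpn
      by_contra! hne
      exact h.no_three x.2 y.2 hpH (fun e => hxy (Subtype.ext e))
        (fun e => hne.1 (Subtype.ext e.symm)) (fun e => hne.2 (Subtype.ext e.symm)) hn hx hy hpn
    rcases on (hf a).1.symm hl hal hbl hpl with e1 | e1 <;>
      rcases on (hf c).1.symm hm hcm hdm hpm with e2 | e2 <;> rw [e1] at e2
    · exact hca e2.symm
    · exact hcb (by rw [e2, (hf c).2])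
    · exact hcb e2.symm
    · exact hca (f.injective e2).symm
  refine ⟨⟨p, hp⟩, Subtype.ext (syn_eq_of_two (by rw [Fintype.card_coe, h.oval.1]) hf (h.syn _).2
    hca hcb ?_ ?_)⟩
  · exact h.mate_eq (hf a).1 hl hpl hal hbl
  · exact h.mate_eq (hf c).1 hm hpm hcm hdm

/-- Points off the hyperoval correspond to synthemes. -/
noncomputable def synEquiv : {x // x ∉ H} ≃ {f : Equiv.Perm ↥H // Syn f} :=
  Equiv.ofBijective h.syn ⟨h.syn_injective, h.syn_surjective⟩

theorem line_secant_of_mem {l : Finset α} (hl : l ∈ L) {a : ↥H} (ha : (a : α) ∈ l) :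
    ∃ b : ↥H, b ≠ a ∧ (b : α) ∈ l := by
  obtain ⟨b, hb, hbl, hbH⟩ := h.plane.oval_line h.oval hl ha a.2
  exact ⟨⟨b, hbH⟩, fun e => hb (congrArg Subtype.val e), hbl⟩

/-- Two points on an external line have disjoint synthemes. -/
theorem mate_ne_of_external {l : Finset α} (hl : l ∈ L) (hext : ∀ a ∈ H, a ∉ l)
    {p q : {x // x ∉ H}} (hp : (p : α) ∈ l) (hq : (q : α) ∈ l) (hpq : p ≠ q) (a : ↥H) :
    h.mate p a ≠ h.mate q a := by
  intro e
  obtain ⟨m, hm, hpm, ham, hbm⟩ := h.mate_line p a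
  obtain ⟨m', hm', hqm, ham', hbm'⟩ := h.mate_line q a
  rw [← e] at hbm'
  have em : m' = m := h.plane.line_unique (fun e' => h.mate_ne p a (Subtype.ext e').symm) hm' hm
    ham' hbm' ham hbm
  have := h.plane.line_unique (fun e' => hpq (Subtype.ext e')) hl hm hp hq hpm (em ▸ hqm)
  exact hext a a.2 (this ▸ ham)

theorem external_of_mate_ne {p q : {x // x ∉ H}} (hd : ∀ a, h.mate p a ≠ h.mate q a)
    {l : Finset α} (hl : l ∈ L) (hp : (p : α) ∈ l) (hq : (q : α) ∈ l) : ∀ a ∈ H, a ∉ l := by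
  intro a ha hal
  obtain ⟨b, hb, hbl⟩ := h.line_secant_of_mem (a := ⟨a, ha⟩) hl hal
  exact hd ⟨a, ha⟩ ((h.mate_eq hb hl hp hal hbl).trans (h.mate_eq hb hl hq hal hbl).symm)

/-- A point off the hyperoval is on at most two external lines. -/
theorem external_two {q : α} (hq : q ∉ H) {l m n : Finset α} (hl : l ∈ L) (hm : m ∈ L)
    (hn : n ∈ L) (hql : q ∈ l) (hqm : q ∈ m) (hqn : q ∈ n) (el : ∀ a ∈ H, a ∉ l)
    (em : ∀ a ∈ H, a ∉ m) (en : ∀ a ∈ H, a ∉ n) (hlm : l ≠ m) : n = l ∨ n = m := by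
  by_contra! hne
  let p : {x // x ∉ H} := ⟨q, hq⟩
  obtain ⟨a⟩ := h.nonempty_oval
  obtain ⟨c, hca, hcb⟩ := h.exists_other a (h.mate p a)
  obtain ⟨e, -, he⟩ := exists_mem_notMem_of_card_lt_card
    (s := ({a, h.mate p a, c, h.mate p c} : Finset ↥H)) (t := univ) (by
      have : ({a, h.mate p a, c, h.mate p c} : Finset ↥H).card ≤ 4 := card_le_four
      rw [card_univ, Fintype.card_coe, h.oval.1]; omega)
  simp only [mem_insert, mem_singleton, not_or] at he
  obtain ⟨A, hA, qA, aA, bA⟩ := h.mate_line p a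
  obtain ⟨C, hC, qC, cC, dC⟩ := h.mate_line p c
  obtain ⟨E, hE, qE, eE, fE⟩ := h.mate_line p e
  have hdist : ∀ {x y : ↥H} {X Y : Finset α}, X ∈ L → (x : α) ∈ X → (h.mate p x : α) ∈ X → y ≠ x →
      y ≠ h.mate p x → (y : α) ∈ Y → X ≠ Y := fun {x y X Y} hX hx hx' h1 h2 hy e' =>
    h.no_three x.2 (h.mate p x).2 y.2 (fun e => h.mate_ne p x (Subtype.ext e).symm)
      (fun e => h1 (Subtype.ext e).symm) (fun e => h2 (Subtype.ext e).symm) hX hx hx' (e' ▸ hy)
  have hAC := hdist hA aA bA hca hcb cC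
  have hAE := hdist hA aA bA he.1 he.2.1 eE
  have hCE := hdist hC cC dC he.2.2.1 he.2.2.2 eE
  have hext : ∀ {X Y : Finset α} {x : ↥H}, (x : α) ∈ X → (∀ a ∈ H, a ∉ Y) → X ≠ Y :=
    fun {X Y x} hx hY e' => hY x x.2 (e' ▸ hx)
  have h6 : ({l, m, n, A, C, E} : Finset (Finset α)).card = 6 := by
    simp [hlm, hne.1.symm, hne.2.symm, hAC, hAE, hCE, (hext aA el).symm, (hext cC el).symm,
      (hext eE el).symm, (hext aA em).symm, (hext cC em).symm, (hext eE em).symm,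
      (hext aA en).symm, (hext cC en).symm, (hext eE en).symm]
  have hsub : ({l, m, n, A, C, E} : Finset (Finset α)) ⊆
      (CfsgLib.Golay.blockFinset L).filter (q ∈ ·) := by
    intro x hx
    simp only [mem_insert, mem_singleton] at hx
    simp only [mem_filter, CfsgLib.Golay.mem_blockFinset]
    rcases hx with rfl | rfl | rfl | rfl | rfl | rfl
    exacts [⟨hl, hql⟩, ⟨hm, hqm⟩, ⟨hn, hqn⟩, ⟨hA, qA⟩, ⟨hC, qC⟩, ⟨hE, qE⟩]
  have := card_le_card hsub
  rw [h6, h.plane.lines_through] at this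
  omega

/-- Four points with pairwise disjoint synthemes are collinear. -/
theorem four_col {q₁ q₂ q₃ q₄ : {x // x ∉ H}}
    (h12 : ∀ a, h.mate q₁ a ≠ h.mate q₂ a) (h13 : ∀ a, h.mate q₁ a ≠ h.mate q₃ a)
    (h23 : ∀ a, h.mate q₂ a ≠ h.mate q₃ a) (h14 : ∀ a, h.mate q₁ a ≠ h.mate q₄ a)
    (h24 : ∀ a, h.mate q₂ a ≠ h.mate q₄ a) (h34 : ∀ a, h.mate q₃ a ≠ h.mate q₄ a)
    {l : Finset α} (hl : l ∈ L) (h1 : (q₁ : α) ∈ l) (h2 : (q₂ : α) ∈ l) : (q₃ : α) ∈ l := by
  by_contra hq3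
  obtain ⟨a0⟩ := h.nonempty_oval
  have ne : ∀ {x y : {x // x ∉ H}}, (∀ a, h.mate x a ≠ h.mate y a) → (x : α) ≠ (y : α) :=
    fun {x y} hd e => hd a0 (by rw [Subtype.ext e])
  obtain ⟨m, hm, m1, m3⟩ := h.plane.exists_line (ne h13)
  obtain ⟨n, hn, n2, n3⟩ := h.plane.exists_line (ne h23)
  obtain ⟨k1, hk1, a1, b1⟩ := h.plane.exists_line (ne h14)
  obtain ⟨k2, hk2, a2, b2⟩ := h.plane.exists_line (ne h24)
  obtain ⟨k3, hk3, a3, b3⟩ := h.plane.exists_line (ne h34)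
  have el := h.external_of_mate_ne h12 hl h1 h2
  have em := h.external_of_mate_ne h13 hm m1 m3
  have en := h.external_of_mate_ne h23 hn n2 n3
  have hlm : l ≠ m := fun e => hq3 (e ▸ m3)
  have hln : l ≠ n := fun e => hq3 (e ▸ n3)
  have hmn : m ≠ n := fun e => hlm
    (h.plane.line_unique (ne h12) hl hm h1 h2 m1 (e.symm ▸ n2))
  have c1 := h.external_two q₁.2 hl hm hk1 h1 m1 a1 el em (h.external_of_mate_ne h14 hk1 a1 b1) hlm
  have c2 := h.external_two q₂.2 hl hn hk2 h2 n2 a2 el en (h.external_of_mate_ne h24 hk2 a2 b2) hln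
  have c3 := h.external_two q₃.2 hm hn hk3 m3 n3 a3 em en (h.external_of_mate_ne h34 hk3 a3 b3) hmn
  rcases c1 with rfl | rfl
  · rcases c3 with rfl | rfl
    · exact ne h14 (h.plane.point_unique hl hm hlm h1 b1 m1 b3)
    · exact ne h24 (h.plane.point_unique hl hn hln h2 b1 n2 b3)
  · rcases c2 with rfl | rfl
    · exact ne h14 (h.plane.point_unique hl hm hlm h1 b2 m1 b1)
    · exact ne h34 (h.plane.point_unique hm hn hmn m3 b1 n3 b2)

end Chart

variable {β : Type*} [Fintype β] [DecidableEq β] {L' : Set (Finset β)} {H : Finset α} {H' : Finset β}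

/-- Transport of synthemes. -/
def synMap (σ : ↥H ≃ ↥H') : {f : Equiv.Perm ↥H // Syn f} ≃ {f : Equiv.Perm ↥H' // Syn f} :=
  σ.permCongr.subtypeEquiv fun f => by
    constructor
    · intro hf b
      simp only [Equiv.permCongr_apply, Equiv.symm_apply_apply]
      obtain ⟨h1, h2⟩ := hf (σ.symm b)
      exact ⟨fun e => h1 (σ.injective (by rw [e, Equiv.apply_symm_apply])), by rw [h2, Equiv.apply_symm_apply]⟩
    · intro hf a
      obtain ⟨h1, h2⟩ := hf (σ a)
      simp only [Equiv.permCongr_apply, Equiv.symm_apply_apply] at h1 h2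
      exact ⟨fun e => h1 (by rw [e]), σ.injective h2⟩

/-- The bijection of points extending a bijection of hyperovals. -/
noncomputable def extend (h : Chart L H) (h' : Chart L' H') (σ : ↥H ≃ ↥H') : α ≃ β :=
  (Equiv.sumCompl (· ∈ H)).symm.trans
    ((Equiv.sumCongr σ (h.synEquiv.trans ((synMap σ).trans h'.synEquiv.symm))).trans
      (Equiv.sumCompl (· ∈ H')))

theorem extend_mem (h : Chart L H) (h' : Chart L' H') (σ : ↥H ≃ ↥H') (a : ↥H) :
    extend h h' σ a = σ a := by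
  simp [extend, Equiv.sumCompl_symm_apply_of_pos a.2]

theorem extend_notMem (h : Chart L H) (h' : Chart L' H') (σ : ↥H ≃ ↥H') (p : {x // x ∉ H}) :
    ∃ q : {x // x ∉ H'}, extend h h' σ p = q ∧ ∀ a, h'.mate q (σ a) = σ (h.mate p a) := by
  refine ⟨h'.synEquiv.symm (synMap σ (h.synEquiv p)), ?_, fun a => ?_⟩
  · simp [extend, Equiv.sumCompl_symm_apply_of_neg p.2]
  · have e : h'.syn (h'.synEquiv.symm (synMap σ (h.synEquiv p))) = synMap σ (h.synEquiv p) :=
      h'.synEquiv.apply_symm_apply _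
    rw [← h'.syn_apply, e, ← h.syn_apply]
    show σ ((h.syn p).1 (σ.symm (σ a))) = _
    rw [Equiv.symm_apply_apply]

theorem extend_image (h : Chart L H) (h' : Chart L' H') (σ : ↥H ≃ ↥H') {l : Finset α} (hl : l ∈ L) :
    l.image (extend h h' σ) ∈ L' := by
  suffices hsub : ∃ l' ∈ L', ∀ p ∈ l, extend h h' σ p ∈ l' by
    obtain ⟨l', hl', hs⟩ := hsub
    rwa [eq_of_subset_of_card_le (image_subset_iff.2 hs) (by
      rw [card_image_of_injective _ (Equiv.injective _), h.plane.card_line hl, h'.plane.card_line hl'])]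
  by_cases hsec : ∃ a ∈ H, a ∈ l
  · obtain ⟨a, ha, hal⟩ := hsec
    obtain ⟨b, hb, hbl⟩ := h.line_secant_of_mem (a := ⟨a, ha⟩) hl hal
    have hne : σ ⟨a, ha⟩ ≠ σ b := fun e => hb (σ.injective e).symm
    obtain ⟨l', hl', h1, h2⟩ := h'.plane.exists_line
      (fun e => hne (Subtype.ext e) : (σ ⟨a, ha⟩ : β) ≠ (σ b : β))
    refine ⟨l', hl', fun p hp => ?_⟩
    by_cases hpH : p ∈ H
    · rw [extend_mem h h' σ ⟨p, hpH⟩]
      by_cases e1 : (⟨p, hpH⟩ : ↥H) = ⟨a, ha⟩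
      · rwa [e1]
      by_cases e2 : (⟨p, hpH⟩ : ↥H) = b
      · rwa [e2]
      exact absurd hp (h.no_three ha b.2 hpH (fun e => hb (Subtype.ext e.symm))
        (fun e => e1 (Subtype.ext e.symm)) (fun e => e2 (Subtype.ext e.symm)) hl hal hbl)
    · obtain ⟨q, hq, hmate⟩ := extend_notMem h h' σ ⟨p, hpH⟩
      rw [hq]
      obtain ⟨m, hm, m1, m2, m3⟩ := h'.mate_line q (σ ⟨a, ha⟩)
      rw [hmate, h.mate_eq (p := ⟨p, hpH⟩) hb hl hp hal hbl] at m3
      rwa [h'.plane.line_unique (fun e => hne (Subtype.ext e)) hl' hm h1 h2 m2 m3]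
  · push Not at hsec
    obtain ⟨p₁, hp₁, p₂, hp₂, h12⟩ := one_lt_card.1 (by rw [h.plane.card_line hl]; norm_num : 1 < l.card)
    have hoff : ∀ p ∈ l, p ∉ H := fun p hp hpH => hsec p hpH hp
    have hdis : ∀ {x y} (hx : x ∈ l) (hy : y ∈ l) {q r : {x // x ∉ H'}}, x ≠ y →
        (∀ a, h'.mate q (σ a) = σ (h.mate ⟨x, hoff x hx⟩ a)) →
        (∀ a, h'.mate r (σ a) = σ (h.mate ⟨y, hoff y hy⟩ a)) → ∀ b, h'.mate q b ≠ h'.mate r b := by
      intro x y hx hy q r hxy hq hr b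
      rw [← σ.apply_symm_apply b, hq, hr]
      intro e
      exact h.mate_ne_of_external hl hsec (p := ⟨x, hoff x hx⟩) (q := ⟨y, hoff y hy⟩) hx hy
        (fun e' => hxy (congrArg Subtype.val e')) _ (σ.injective e)
    obtain ⟨q₁, e₁, m₁⟩ := extend_notMem h h' σ ⟨p₁, hoff _ hp₁⟩
    obtain ⟨q₂, e₂, m₂⟩ := extend_notMem h h' σ ⟨p₂, hoff _ hp₂⟩
    have hq12 : (q₁ : β) ≠ (q₂ : β) := by
      rw [← e₁, ← e₂]; exact fun e => h12 ((extend h h' σ).injective e)
    obtain ⟨l', hl', a1, a2⟩ := h'.plane.exists_line hq12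
    refine ⟨l', hl', fun p hp => ?_⟩
    by_cases k1 : p = p₁
    · rw [k1]; exact e₁ ▸ a1
    by_cases k2 : p = p₂
    · rw [k2]; exact e₂ ▸ a2
    obtain ⟨r, hr, hr'⟩ := exists_mem_notMem_of_card_lt_card
      (s := ({p₁, p₂, p} : Finset α)) (t := l) (by
        have : ({p₁, p₂, p} : Finset α).card ≤ 3 := card_le_three
        rw [h.plane.card_line hl]; omega)
    simp only [mem_insert, mem_singleton, not_or] at hr'
    obtain ⟨q₃, e₃, m₃⟩ := extend_notMem h h' σ ⟨p, hoff _ hp⟩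
    obtain ⟨q₄, e₄, m₄⟩ := extend_notMem h h' σ ⟨r, hoff _ hr⟩
    rw [e₃]
    exact h'.four_col (hdis hp₁ hp₂ h12 m₁ m₂) (hdis hp₁ hp (Ne.symm k1) m₁ m₃)
      (hdis hp₂ hp (Ne.symm k2) m₂ m₃) (hdis hp₁ hr (Ne.symm hr'.1) m₁ m₄)
      (hdis hp₂ hr (Ne.symm hr'.2.1) m₂ m₄) (hdis hp hr (Ne.symm hr'.2.2) m₃ m₄) hl' a1 a2

theorem extend_image_eq (h : Chart L H) (h' : Chart L' H') (σ : ↥H ≃ ↥H') :
    (fun b => b.image (extend h h' σ)) '' L = L' := by
  refine Set.eq_of_subset_of_ncard_le ?_ ?_ (Set.toFinite _)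
  · rintro _ ⟨l, hl, rfl⟩
    exact extend_image h h' σ hl
  · rw [Set.ncard_image_of_injective _ (image_injective (Equiv.injective _)), h.plane.lines_count,
      h'.plane.lines_count]

theorem extend_unique (h : Chart L H) (h' : Chart L' H') (σ : ↥H ≃ ↥H') (g : α ≃ β)
    (hg : ∀ l ∈ L, l.image g ∈ L') (hσ : ∀ a : ↥H, g a = σ a) : g = extend h h' σ := by
  refine Equiv.ext fun p => ?_
  by_cases hp : p ∈ H
  · rw [extend_mem h h' σ ⟨p, hp⟩]; exact hσ ⟨p, hp⟩
  obtain ⟨q, hq, hmate⟩ := extend_notMem h h' σ ⟨p, hp⟩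
  rw [hq]
  have hgp : g p ∉ H' := by
    intro hgH
    obtain ⟨a, ha⟩ := σ.surjective ⟨g p, hgH⟩
    have := hσ a
    rw [ha] at this
    exact hp (g.injective this ▸ a.2)
  have : (⟨g p, hgp⟩ : {x // x ∉ H'}) = q := by
    refine h'.syn_injective (Subtype.ext (Equiv.ext fun b => ?_))
    obtain ⟨a, rfl⟩ := σ.surjective b
    rw [h'.syn_apply, h'.syn_apply, hmate]
    obtain ⟨l, hl, l1, l2, l3⟩ := h.mate_line ⟨p, hp⟩ a
    refine h'.mate_eq (fun e => h.mate_ne ⟨p, hp⟩ a (σ.injective e)) (hg l hl)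
      (mem_image_of_mem _ l1) ?_ ?_
    · rw [← hσ]; exact mem_image_of_mem _ l2
    · rw [← hσ]; exact mem_image_of_mem _ l3
  exact congrArg Subtype.val this

theorem planes_iso {L : Set (Finset α)} {L' : Set (Finset β)} (h : IsPlane L) (h' : IsPlane L') :
    Cfsg.SetSystemIso L L' := by
  obtain ⟨H, hH⟩ := h.exists_oval
  obtain ⟨H', hH'⟩ := h'.exists_oval
  exact ⟨extend ⟨h, hH⟩ ⟨h', hH'⟩ (H.equivOfCardEq (hH.1.trans hH'.1.symm)),
    extend_image_eq _ _ _⟩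

end CfsgLib.SporMisc.PlaneFour
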