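import Mathlib
import Cfsg.Agent.Lib.SporMisc.S4Hom

/-!
The Coxeter relations of type A4 give a homomorphism from the symmetric group of degree 5.
-/

set_option linter.style.haveILetI false

namespace CfsgLib.SporMisc

open Subgroup

section bound5

variable {M : Type*} [Group M] {x y z w : M}
variable (hx : x * x = 1) (hy : y * y = 1) (hz : z * z = 1) (hw : w * w = 1)
  (hxy : x * y * x = y * x * y) (hyz : y * z * y = z * y * z) (hzw : z * w * z = w * z * w)
  (hxz : x * z = z * x) (hxw : x * w = w * x) (hyw : y * w = w * y)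

/-- Five coset words. -/
def wordFive (x y z w : M) : Fin 5 → M := ![1, w, w * z, w * z * y, w * z * y * x]

include hx hy hz hw hxy hyz hzw hxz hxw hyw in
theorem wordFive_mul_gen (r : Fin 5) (g : M) (hg : g = x ∨ g = y ∨ g = z ∨ g = w) :
    ∃ k ∈ closure ({x, y, z} : Set M), ∃ r', k * wordFive x y z w r' = wordFive x y z w r * g := by
  have kx : x ∈ closure ({x, y, z} : Set M) := subset_closure (by simp)
  have ky : y ∈ closure ({x, y, z} : Set M) := subset_closure (by simp)
  have kz : z ∈ closure ({x, y, z} : Set M) := subset_closure (by simp)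
  have k1 : (1 : M) ∈ closure ({x, y, z} : Set M) := one_mem _
  fin_cases r <;> rcases hg with h | h | h | h <;> rw [h] <;>
    simp only [wordFive, Fin.isValue, Fin.zero_eta, Fin.mk_one, Matrix.cons_val_zero,
      Matrix.cons_val_one, Matrix.cons_val, Fin.reduceFinMk, one_mul]
  · exact ⟨x, kx, 0, by simp⟩
  · exact ⟨y, ky, 0, by simp⟩
  · exact ⟨z, kz, 0, by simp⟩
  · exact ⟨1, k1, 1, by simp⟩
  · exact ⟨x, kx, 1, by simpa using hxw⟩
  · exact ⟨y, ky, 1, by simpa using hyw⟩
  · exact ⟨1, k1, 2, by simp⟩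
  · exact ⟨1, k1, 0, by simpa using hw.symm⟩
  · refine ⟨x, kx, 2, ?_⟩
    show x * (w * z) = w * z * x
    rw [mul_assoc w z x, ← hxz, ← mul_assoc, hxw, mul_assoc]
  · exact ⟨1, k1, 3, by simp⟩
  · exact ⟨1, k1, 1, by simp [mul_assoc, hz]⟩
  · refine ⟨z, kz, 2, ?_⟩
    show z * (w * z) = w * z * w
    rw [← hzw, mul_assoc]
  · exact ⟨1, k1, 4, by simp⟩
  · exact ⟨1, k1, 2, by simp [mul_assoc, hy]⟩
  · refine ⟨y, ky, 3, ?_⟩
    show y * (w * z * y) = w * z * y * z
    calc y * (w * z * y) = (y * w) * z * y := by group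
      _ = w * (y * z * y) := by rw [hyw]; group
      _ = w * z * y * z := by rw [hyz]; group
  · refine ⟨z, kz, 3, ?_⟩
    show z * (w * z * y) = w * z * y * w
    calc z * (w * z * y) = (z * w * z) * y := by group
      _ = w * z * (w * y) := by rw [hzw]; group
      _ = w * z * y * w := by rw [← hyw]; group
  · exact ⟨1, k1, 3, by simp [mul_assoc, hx]⟩
  · refine ⟨x, kx, 4, ?_⟩
    show x * (w * z * y * x) = w * z * y * x * y
    calc x * (w * z * y * x) = (x * w) * z * y * x := by group
      _ = w * (x * z) * y * x := by rw [hxw]; group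
      _ = w * z * (x * y * x) := by rw [hxz]; group
      _ = w * z * y * x * y := by rw [hxy]; group
  · refine ⟨y, ky, 4, ?_⟩
    show y * (w * z * y * x) = w * z * y * x * z
    calc y * (w * z * y * x) = (y * w) * z * y * x := by group
      _ = w * (y * z * y) * x := by rw [hyw]; group
      _ = w * z * y * (z * x) := by rw [hyz]; group
      _ = w * z * y * x * z := by rw [← hxz]; group
  · refine ⟨z, kz, 4, ?_⟩
    show z * (w * z * y * x) = w * z * y * x * w
    calc z * (w * z * y * x) = (z * w * z) * y * x := by group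
      _ = w * z * (w * y) * x := by rw [hzw]; group
      _ = w * z * y * (w * x) := by rw [← hyw]; group
      _ = w * z * y * x * w := by rw [← hxw]; group

include hx hy hz hw hxy hyz hzw hxz hxw hyw in
theorem closure_card_le_five :
    ((closure ({x, y, z, w} : Set M) : Subgroup M) : Set M).Finite ∧
      ((closure ({x, y, z, w} : Set M) : Subgroup M) : Set M).ncard ≤ 120 := by
  obtain ⟨hfin, hcard⟩ := closure_card_le hx hy hz hxy hyz hxz
  set K : Subgroup M := closure ({x, y, z} : Set M) with hK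
  haveI : Finite K := hfin.to_subtype
  set S : Set M := Set.range fun p : K × Fin 5 => (p.1 : M) * wordFive x y z w p.2 with hS
  have hinv : ∀ u : M, u ∈ ({x, y, z, w} : Set M) → u⁻¹ = u := by
    rintro u (rfl | rfl | rfl | rfl)
    exacts [inv_eq_of_mul_eq_one_right hx, inv_eq_of_mul_eq_one_right hy,
      inv_eq_of_mul_eq_one_right hz, inv_eq_of_mul_eq_one_right hw]
  have hstep : ∀ v ∈ S, ∀ u ∈ ({x, y, z, w} : Set M), v * u ∈ S := by
    rintro v ⟨⟨k, r⟩, rfl⟩ u hu
    obtain ⟨k', hk', r', e⟩ := wordFive_mul_gen hx hy hz hw hxy hyz hzw hxz hxw hyw r u (by simpa using hu)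
    refine ⟨(⟨(k : M) * k', mul_mem k.2 hk'⟩, r'), ?_⟩
    show (k : M) * k' * _ = (k : M) * _ * u
    rw [mul_assoc, e, ← mul_assoc]
  have hsub : ((closure ({x, y, z, w} : Set M) : Subgroup M) : Set M) ⊆ S := by
    intro v hv
    induction hv using Subgroup.closure_induction_right with
    | one => exact ⟨(1, 0), by simp [wordFive]⟩
    | mul_right v hv u hu ih => exact hstep _ ih _ hu
    | mul_inv_cancel v hv u hu ih => rw [hinv u hu]; exact hstep _ ih _ hu
  refine ⟨(Set.finite_range _).subset hsub, ?_⟩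
  calc ((closure ({x, y, z, w} : Set M) : Subgroup M) : Set M).ncard
      ≤ S.ncard := Set.ncard_le_ncard hsub (Set.finite_range _)
    _ ≤ Nat.card (K × Fin 5) := by
        rw [hS, ← Set.image_univ]
        exact (Set.ncard_image_le Set.finite_univ).trans (by rw [Set.ncard_univ])
    _ = Nat.card K * 5 := by rw [Nat.card_prod, Nat.card_fin]
    _ ≤ 24 * 5 := Nat.mul_le_mul_right 5 (le_of_eq_of_le (Nat.card_coe_set_eq _) hcard)
    _ = 120 := rfl

end bound5

/-- The Coxeter relations of type `A4` give a homomorphism from the symmetric group of degree 5. -/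
theorem exists_hom_symm5 {G : Type*} [Group G] {a b c e : G} (ha : a * a = 1) (hb : b * b = 1)
    (hc : c * c = 1) (he : e * e = 1) (hab : a * b * a = b * a * b) (hbc : b * c * b = c * b * c)
    (hce : c * e * c = e * c * e) (hac : a * c = c * a) (hae : a * e = e * a) (hbe : b * e = e * b) :
    ∃ φ : Equiv.Perm (Fin 5) →* G, φ (Equiv.swap 0 1) = a ∧ φ (Equiv.swap 1 2) = b ∧
      φ (Equiv.swap 2 3) = c ∧ φ (Equiv.swap 3 4) = e := by
  let s0 : Equiv.Perm (Fin 5) := Equiv.swap 0 1
  let s1 : Equiv.Perm (Fin 5) := Equiv.swap 1 2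
  let s2 : Equiv.Perm (Fin 5) := Equiv.swap 2 3
  let s3 : Equiv.Perm (Fin 5) := Equiv.swap 3 4
  let Γ : Subgroup (G × Equiv.Perm (Fin 5)) := closure {(a, s0), (b, s1), (c, s2), (e, s3)}
  obtain ⟨hfin, hcard⟩ := closure_card_le_five (x := (a, s0)) (y := (b, s1)) (z := (c, s2)) (w := (e, s3))
    (Prod.ext ha (show s0 * s0 = 1 by decide)) (Prod.ext hb (show s1 * s1 = 1 by decide))
    (Prod.ext hc (show s2 * s2 = 1 by decide)) (Prod.ext he (show s3 * s3 = 1 by decide))
    (Prod.ext hab (show s0 * s1 * s0 = s1 * s0 * s1 by decide))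
    (Prod.ext hbc (show s1 * s2 * s1 = s2 * s1 * s2 by decide))
    (Prod.ext hce (show s2 * s3 * s2 = s3 * s2 * s3 by decide))
    (Prod.ext hac (show s0 * s2 = s2 * s0 by decide)) (Prod.ext hae (show s0 * s3 = s3 * s0 by decide))
    (Prod.ext hbe (show s1 * s3 = s3 * s1 by decide))
  let π : Γ →* Equiv.Perm (Fin 5) := (MonoidHom.snd G _).comp Γ.subtype
  have hsurj : Function.Surjective π := by
    rw [← MonoidHom.range_eq_top, eq_top_iff]
    intro σ _
    have hσ : σ ∈ Submonoid.closure (Set.range fun i : Fin 4 ↦ Equiv.swap i.castSucc i.succ) := by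
      rw [Equiv.Perm.mclosure_swap_castSucc_succ]; trivial
    refine (Submonoid.closure_le (S := π.range.toSubmonoid)).mpr ?_ hσ
    rintro _ ⟨i, rfl⟩
    fin_cases i
    · exact ⟨⟨(a, s0), subset_closure (by simp)⟩, rfl⟩
    · exact ⟨⟨(b, s1), subset_closure (by simp)⟩, rfl⟩
    · exact ⟨⟨(c, s2), subset_closure (by simp)⟩, rfl⟩
    · exact ⟨⟨(e, s3), subset_closure (by simp)⟩, rfl⟩
  haveI : Finite Γ := hfin.to_subtype
  have hcardΓ : Nat.card Γ = Nat.card (Equiv.Perm (Fin 5)) := by
    refine le_antisymm ?_ (Nat.card_le_card_of_surjective π hsurj)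
    rw [Nat.card_eq_fintype_card (α := Equiv.Perm (Fin 5)), Fintype.card_perm, Fintype.card_fin]
    calc Nat.card Γ = ((Γ : Set (G × Equiv.Perm (Fin 5)))).ncard := Nat.card_coe_set_eq _
      _ ≤ 120 := hcard
      _ = Nat.factorial 5 := by rfl
  let E : Γ ≃* Equiv.Perm (Fin 5) :=
    MulEquiv.ofBijective π ((Nat.bijective_iff_surjective_and_card π).mpr ⟨hsurj, hcardΓ⟩)
  refine ⟨((MonoidHom.fst G _).comp Γ.subtype).comp E.symm.toMonoidHom, ?_, ?_, ?_, ?_⟩
  · have h : E.symm s0 = ⟨(a, s0), subset_closure (by simp)⟩ := by rw [MulEquiv.symm_apply_eq]; rfl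
    exact congrArg (fun t : Γ => (t : G × Equiv.Perm (Fin 5)).1) h
  · have h : E.symm s1 = ⟨(b, s1), subset_closure (by simp)⟩ := by rw [MulEquiv.symm_apply_eq]; rfl
    exact congrArg (fun t : Γ => (t : G × Equiv.Perm (Fin 5)).1) h
  · have h : E.symm s2 = ⟨(c, s2), subset_closure (by simp)⟩ := by rw [MulEquiv.symm_apply_eq]; rfl
    exact congrArg (fun t : Γ => (t : G × Equiv.Perm (Fin 5)).1) h
  · have h : E.symm s3 = ⟨(e, s3), subset_closure (by simp)⟩ := by rw [MulEquiv.symm_apply_eq]; rfl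
    exact congrArg (fun t : Γ => (t : G × Equiv.Perm (Fin 5)).1) h

end CfsgLib.SporMisc
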