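import Mathlib
import Cfsg.Prelude.Def_Transfer
import Cfsg.Agent.Lib.PGroup.Basic
import Cfsg.Agent.Lib.Transfer.Critical
import Cfsg.Agent.Lib.Invol.ZStarFinal
import Cfsg.Agent.Lib.InvolChar.CentralTransfer
import Cfsg.Agent.Lib.LocalEven.DihedralCriterion

/-!
A simple group with an involution whose centralizer is a Sylow 2-subgroup with Frattini subgroup
generated by that involution: the Sylow 2-subgroup is dihedral of order eight.
-/

namespace CfsgLib.SporMisc

open Subgroup
open scoped commutatorElement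

variable {L : Type*} [Group L] [Finite L] [IsSimpleGroup L]

theorem sylow_centralizer_dihedral (hL : ¬ IsMulCommutative L) {z : L} (hz : orderOf z = 2)
    (R : Sylow 2 L) (hR : (R : Subgroup L) = centralizer ({z} : Set L))
    (hΦ : (frattini ↥(R : Subgroup L)).map (R : Subgroup L).subtype = zpowers z) :
    Nonempty (↥(R : Subgroup L) ≃* DihedralGroup 4) := by
  classical
  haveI : Fact (Nat.Prime 2) := ⟨Nat.prime_two⟩
  have hzz : z * z = 1 := by rw [← sq, ← hz, pow_orderOf_eq_one]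
  have hz1 : z ≠ 1 := fun h => by rw [h, orderOf_one] at hz; omega
  have hP : IsPGroup 2 ↥(R : Subgroup L) := R.isPGroup'
  have hzp : ∀ y ∈ zpowers z, y = 1 ∨ y = z := by
    intro y hy
    obtain ⟨k, rfl⟩ := mem_zpowers_iff.1 hy
    have h2 : z ^ (2 : ℤ) = 1 := by rw [zpow_two, hzz]
    rcases Int.even_or_odd k with ⟨j, hj⟩ | ⟨j, hj⟩
    · left; rw [hj, ← two_mul, zpow_mul, h2, one_zpow]
    · right; rw [hj, zpow_add, zpow_mul, h2, one_zpow, one_mul, zpow_one]
  have memR : ∀ {x : L}, x ∈ (R : Subgroup L) ↔ x * z = z * x := by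
    intro x; rw [hR, mem_centralizer_singleton_iff]
  have hzR : z ∈ (R : Subgroup L) := memR.2 rfl
  have hsq : ∀ x ∈ (R : Subgroup L), x * x = 1 ∨ x * x = z := fun x hx => hzp _ (by
    rw [← hΦ]
    exact ⟨_, CfsgLib.PGroup.pow_mem_frattini hP ⟨x, hx⟩, by simp [sq]⟩)
  have hcomm : ∀ x ∈ (R : Subgroup L), ∀ y ∈ (R : Subgroup L),
      x * y * x⁻¹ * y⁻¹ = 1 ∨ x * y * x⁻¹ * y⁻¹ = z := fun x hx y hy => hzp _ (by
    rw [← hΦ]
    refine ⟨⁅(⟨x, hx⟩ : ↥(R : Subgroup L)), ⟨y, hy⟩⁆, CfsgLib.PGroup.commutator_le_frattini hP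
      (commutator_mem_commutator (mem_top _) (mem_top _)), by simp [commutatorElement_def]⟩)
  have hone : ∀ N : Subgroup L, N.Normal → N.index ≠ 2 := by
    intro N hN hi
    rcases hN.eq_bot_or_eq_top with rfl | rfl
    · rw [index_bot] at hi
      haveI : IsCyclic L := isCyclic_of_prime_card hi
      exact hL ⟨⟨fun a b => (IsCyclic.commGroup (α := L)).mul_comm a b⟩⟩
    · simp at hi
  -- the Sylow subgroup is self-normalizing
  have hnorm : ∀ n : L, n ∈ normalizer ((R : Subgroup L) : Set L) → n ∈ (R : Subgroup L) := by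
    intro n hn
    obtain ⟨x, hx, hx2⟩ : ∃ x ∈ (R : Subgroup L), x * x = z := by
      by_contra! hno
      have hsq1 : ∀ x ∈ (R : Subgroup L), x * x = 1 := fun x hx => (hsq x hx).resolve_right (hno x hx)
      have hbot : frattini ↥(R : Subgroup L) ≤ ⊥ := by
        refine CfsgLib.Transfer.frattini_le_of_commutator_pow (p := 2) ⊥ (fun a b => ?_) fun a => ?_
        · have ha : ∀ c : ↥(R : Subgroup L), c⁻¹ = c := fun c =>
            inv_eq_of_mul_eq_one_left (Subtype.ext (hsq1 c c.2))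
          rw [mem_bot, commutatorElement_eq_one_iff_mul_comm, ← ha (a * b), mul_inv_rev, ha, ha]
        · rw [mem_bot, sq]; exact Subtype.ext (hsq1 a a.2)
      rw [le_bot_iff.1 hbot, Subgroup.map_bot] at hΦ
      exact hz1 (zpowers_eq_bot.1 hΦ.symm)
    have hnx : n * x * n⁻¹ ∈ (R : Subgroup L) := (mem_normalizer_iff.1 hn x).1 hx
    have e : n * x * n⁻¹ * (n * x * n⁻¹) = n * z * n⁻¹ := by rw [← hx2]; group
    rcases hsq _ hnx with h | h <;> rw [e] at h
    · exact absurd (conj_eq_one_iff.1 h) hz1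
    · exact memR.2 (mul_inv_eq_iff_eq_mul.1 h)
  -- the only central involution is `z`
  have hcen : ∀ v ∈ (R : Subgroup L), (∀ y ∈ (R : Subgroup L), y * v = v * y) → v * v = 1 →
      v = 1 ∨ v = z := by
    intro v hv hvc hv2
    by_contra! hne
    have hvF : (⟨v, hv⟩ : ↥(R : Subgroup L)) ∉ frattini ↥(R : Subgroup L) := fun h => by
      have h' : v ∈ zpowers z := hΦ ▸ ⟨_, h, rfl⟩
      rcases hzp v h' with h1 | h1
      exacts [hne.1 h1, hne.2 h1]
    obtain ⟨M, hM, hvM⟩ : ∃ M : Subgroup ↥(R : Subgroup L), IsCoatom M ∧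
        (⟨v, hv⟩ : ↥(R : Subgroup L)) ∉ M := by
      by_contra! h
      refine hvF ?_
      rw [frattini, Order.radical]
      simp only [Subgroup.mem_iInf]
      exact fun M hM => h M hM
    have hMc : _root_.commutator ↥(R : Subgroup L) ≤ M :=
      (CfsgLib.PGroup.commutator_le_frattini hP).trans (frattini_le_coatom hM)
    haveI : M.Normal := ⟨fun m hm x => by
      rw [show x * m * x⁻¹ = ⁅x, m⁆ * m by rw [commutatorElement_def]; group]
      exact mul_mem (hMc (commutator_mem_commutator (mem_top _) (mem_top _))) hm⟩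
    have htop : M ⊔ zpowers (⟨v, hv⟩ : ↥(R : Subgroup L)) = ⊤ :=
      hM.2 _ (left_lt_sup.2 fun h => hvM (h (mem_zpowers _)))
    have hidx : M.index = 2 := by
      rw [index_eq_two_iff]
      refine ⟨⟨v, hv⟩, fun b => ?_⟩
      have hb : b ∈ M ⊔ zpowers (⟨v, hv⟩ : ↥(R : Subgroup L)) := htop ▸ mem_top b
      obtain ⟨m, hm, k, hk, rfl⟩ := mem_sup_of_normal_left.1 hb
      obtain ⟨j, rfl⟩ := mem_zpowers_iff.1 hk
      have hv' : (⟨v, hv⟩ : ↥(R : Subgroup L)) * ⟨v, hv⟩ = 1 := Subtype.ext hv2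
      rcases Int.even_or_odd j with ⟨i, hi⟩ | ⟨i, hi⟩
      · have : (⟨v, hv⟩ : ↥(R : Subgroup L)) ^ j = 1 := by
          rw [hi, ← two_mul, zpow_mul, zpow_two, hv', one_zpow]
        rw [this, mul_one]
        exact .inr ⟨hm, fun h => hvM ((M.mul_mem_cancel_left hm).1 h)⟩
      · have : (⟨v, hv⟩ : ↥(R : Subgroup L)) ^ j = ⟨v, hv⟩ := by
          rw [hi, zpow_add, zpow_mul, zpow_two, hv', one_zpow, one_mul, zpow_one]
        rw [this, mul_assoc, hv', mul_one]
        exact .inl ⟨hm, fun h => hvM ((M.mul_mem_cancel_left hm).1 h)⟩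
    have hrel : (M.map (R : Subgroup L).subtype).relIndex (R : Subgroup L) = 2 := by
      rw [relIndex, subgroupOf, comap_map_eq_self_of_injective (R : Subgroup L).subtype_injective]
      exact hidx
    have hord : orderOf v = 2 := orderOf_eq_prime (by rw [sq, hv2]) hne.1
    rcases CfsgLib.InvolChar.exists_conj_central R (M.map (R : Subgroup L).subtype) (map_subtype_le _)
      hrel v hord hvc with ⟨N, hN, hNi, -⟩ | ⟨g, hgQ, hgc⟩
    · exact hone N hN hNi
    · have hyR : g⁻¹ * v * g ∈ (R : Subgroup L) := map_subtype_le _ hgQ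
      have hyc : g⁻¹ * v * g ∈ centralizer ((R : Subgroup L) : Set L) := by
        rw [mem_centralizer_iff]
        intro y hy
        have hb : (⟨y, hy⟩ : ↥(R : Subgroup L)) ∈ M ⊔ zpowers (⟨v, hv⟩ : ↥(R : Subgroup L)) :=
          htop ▸ mem_top _
        obtain ⟨m, hm, k, hk, hmk⟩ := mem_sup_of_normal_left.1 hb
        obtain ⟨j, rfl⟩ := mem_zpowers_iff.1 hk
        have e : (m : L) * v ^ j = y := by simpa using congrArg Subtype.val hmk
        have hcm : Commute (m : L) (g⁻¹ * v * g) := hgc _ ⟨m, hm, rfl⟩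
        have hcv : Commute (g⁻¹ * v * g) v := hvc _ hyR
        rw [← e]
        exact (hcm.mul_left (hcv.symm.zpow_left j)).eq
      obtain ⟨n, hn, hnv⟩ := R.conj_eq_normalizer_conj_of_mem_centralizer v g
        (mem_centralizer_iff.2 hvc) hyc
      have hnR := hnorm n hn
      rw [mul_assoc n⁻¹, ← hvc n hnR, inv_mul_cancel_left] at hnv
      rw [hnv] at hgQ
      obtain ⟨m, hm, hmv⟩ := hgQ
      exact hvM ((show m = ⟨v, hv⟩ from Subtype.ext hmv) ▸ hm)
  -- a second conjugate
  obtain ⟨g, hg, hgne⟩ : ∃ g : L, Commute z (g * z * g⁻¹) ∧ g * z * g⁻¹ ≠ z := by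
    by_contra! h
    have hiso : Cfsg.IsIsolatedInvolution z := ⟨hz, h⟩
    have hO : Cfsg.oddCore L = ⊥ := by
      rw [Cfsg.oddCore, Cfsg.pPrimeCore, eq_bot_iff]
      refine sSup_le fun N ⟨hN, hNo⟩ => ?_
      rcases hN.eq_bot_or_eq_top with rfl | rfl
      · exact le_rfl
      · exfalso
        rw [card_top] at hNo
        have : 2 ∣ Nat.card L := hz ▸ orderOf_dvd_natCard z
        exact absurd (Nat.Coprime.coprime_dvd_left this hNo) (by simp)
    have hc := CfsgLib.Invol.zstar_center hiso hO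
    rcases (inferInstance : (center L).Normal).eq_bot_or_eq_top with h1 | h1
    · exact hz1 (by simpa [h1] using hc)
    · exact hL ⟨⟨fun a b => (mem_center_iff.1 (h1 ▸ mem_top b) a).trans rfl⟩⟩
  obtain ⟨u, hu⟩ : ∃ u, u = g * z * g⁻¹ := ⟨_, rfl⟩
  rw [← hu] at hgne
  have huR : u ∈ (R : Subgroup L) := memR.2 (hu ▸ hg.symm.eq)
  have huu : u * u = 1 := by
    rw [hu, show g * z * g⁻¹ * (g * z * g⁻¹) = g * (z * z) * g⁻¹ by group, hzz]; group
  have hu1 : u ≠ 1 := hu ▸ fun h => hz1 (conj_eq_one_iff.1 h)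
  have hDsq : ∀ d ∈ (R : Subgroup L), d * u = u * d → d * d = 1 := by
    intro d hd hdu
    have hd' : g⁻¹ * d * g ∈ (R : Subgroup L) := memR.2 (by
      calc g⁻¹ * d * g * z = g⁻¹ * (d * (g * z * g⁻¹)) * g := by group
        _ = g⁻¹ * ((g * z * g⁻¹) * d) * g := by rw [← hu, hdu]
        _ = z * (g⁻¹ * d * g) := by group)
    rcases hsq d hd with h | h
    · exact h
    · have e : d * d = g * (g⁻¹ * d * g * (g⁻¹ * d * g)) * g⁻¹ := by group
      rcases hsq _ hd' with h' | h'
      · rw [e, h']; group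
      · exact absurd (by rw [← h, e, h', ← hu] : u = z) hgne
  have hDab : ∀ d ∈ (R : Subgroup L), ∀ d' ∈ (R : Subgroup L), d * u = u * d → d' * u = u * d' →
      d * d' = d' * d := by
    intro d hd d' hd' h h'
    have hi : ∀ c ∈ (R : Subgroup L), c * u = u * c → c⁻¹ = c := fun c hc hcu =>
      inv_eq_of_mul_eq_one_left (hDsq c hc hcu)
    rw [← hi _ (mul_mem hd hd') ((Commute.mul_left h h').eq), mul_inv_rev, hi d hd h, hi d' hd' h']
  obtain ⟨a, ha, hau⟩ : ∃ a ∈ (R : Subgroup L), a * u ≠ u * a := by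
    by_contra! h
    rcases hcen u huR h huu with h1 | h1
    exacts [hu1 h1, hgne h1]
  have hak : a * u * a⁻¹ = z * u :=
    eq_mul_of_mul_inv_eq ((hcomm a ha u huR).resolve_left fun h =>
      hau (by rwa [mul_inv_eq_one, mul_inv_eq_iff_eq_mul] at h))
  have hcos : ∀ y ∈ (R : Subgroup L), y * u = u * y ∨ (a⁻¹ * y) * u = u * (a⁻¹ * y) := by
    intro y hy
    rcases hcomm y hy u huR with h | h
    · left; rwa [mul_inv_eq_one, mul_inv_eq_iff_eq_mul] at h
    · right
      calc a⁻¹ * y * u = a⁻¹ * (y * u * y⁻¹) * y := by group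
        _ = a⁻¹ * (a * u * a⁻¹) * y := by rw [eq_mul_of_mul_inv_eq h, hak]
        _ = u * (a⁻¹ * y) := by group
  have hcc : ∀ d ∈ (R : Subgroup L), d * u = u * d → a * d = d * a → d = 1 ∨ d = z := by
    intro d hd hdu had
    refine hcen d hd (fun y hy => ?_) (hDsq d hd hdu)
    rcases hcos y hy with h | h
    · exact hDab y hy d hd h hdu
    · have h1 := hDab (a⁻¹ * y) (mul_mem (inv_mem ha) hy) d hd h hdu
      calc y * d = a * (a⁻¹ * y * d) := by group
        _ = (a * d) * (a⁻¹ * y) := by rw [h1, mul_assoc]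
        _ = d * y := by rw [had]; group
  have hzu : z * u = u * z := (memR.1 huR).symm
  have hD : ∀ d ∈ (R : Subgroup L), d * u = u * d → d = 1 ∨ d = z ∨ d = u ∨ d = z * u := by
    intro d hd hdu
    rcases hcomm a ha d hd with h | h
    · rw [mul_inv_eq_one, mul_inv_eq_iff_eq_mul] at h
      exact (hcc d hd hdu h).imp id .inl
    · have h' : a * d * a⁻¹ = z * d := eq_mul_of_mul_inv_eq h
      have hdu' : d * u * u = u * (d * u) := by rw [← mul_assoc, hdu]
      have : a * (d * u) = d * u * a := by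
        refine mul_inv_eq_iff_eq_mul.1 ?_
        calc a * (d * u) * a⁻¹ = (a * d * a⁻¹) * (a * u * a⁻¹) := by group
          _ = z * (d * z) * u := by rw [h', hak]; group
          _ = d * u := by rw [memR.1 hd, ← mul_assoc, hzz, one_mul]
      rcases hcc _ (mul_mem hd huR) hdu' this with e | e
      · exact .inr (.inr (.inl ((eq_inv_of_mul_eq_one_left e).trans (inv_eq_of_mul_eq_one_left huu))))
      · exact .inr (.inr (.inr (by rw [← e, mul_assoc, huu, mul_one])))
  have hza : z * a = a * z := (memR.1 ha).symm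
  -- an element of order four inverted by `u`
  obtain ⟨c, hc, hcu, hc2, hca⟩ : ∃ c ∈ (R : Subgroup L), c * u * c⁻¹ = z * u ∧ c * c = z ∧
      (a = c ∨ a = c * u) := by
    rcases hsq a ha with h | h
    · refine ⟨a * u, mul_mem ha huR, ?_, ?_, .inr (by rw [mul_assoc, huu, mul_one])⟩
      · rw [← hak]; group
      · calc a * u * (a * u) = (a * u * a⁻¹) * (a * a) * u := by group
          _ = z * u * u := by rw [hak, h, mul_one]
          _ = z := by rw [mul_assoc, huu, mul_one]
    · exact ⟨a, ha, hak, h, .inl rfl⟩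
  have hc4 : orderOf c = 4 :=
    orderOf_eq_prime_pow (p := 2) (n := 1) (by rw [pow_one, sq, hc2]; exact hz1)
      (by rw [show (2 : ℕ) ^ (1 + 1) = 2 * 2 by rfl, pow_mul, sq, sq, hc2, hzz])
  have hci : c⁻¹ = z * c := inv_eq_of_mul_eq_one_left (by rw [mul_assoc, hc2, hzz])
  have hcu' : u * c * u⁻¹ = c⁻¹ := by
    have e : c * u = z * u * c := mul_inv_eq_iff_eq_mul.1 hcu
    rw [hci, mul_inv_eq_iff_eq_mul, mul_assoc z c u, e, ← mul_assoc, ← mul_assoc, hzz, one_mul]
  have hutc : u ∉ zpowers c := by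
    rintro ⟨k, hk⟩
    have : c * u * c⁻¹ = u := by rw [← hk]; group
    rw [hcu] at this
    exact hz1 (mul_eq_right.1 this)
  have hc4' : c ^ 4 = 1 := hc4 ▸ pow_orderOf_eq_one c
  let φ := CfsgLib.LocalEven.DihedralCrit.toGroup (p := 4) u c huu hc4' hcu'
  have hrange : φ.range = (R : Subgroup L) := by
    refine le_antisymm ?_ (fun y hy => ?_)
    · rintro _ ⟨(i | i), rfl⟩
      · simpa [φ] using pow_mem hc _
      · simpa [φ] using mul_mem huR (pow_mem hc _)
    · have hcφ : c ∈ φ.range := ⟨DihedralGroup.r 1, pow_one c⟩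
      have huφ : u ∈ φ.range := ⟨DihedralGroup.sr 0, by simp [φ]⟩
      have haφ : a ∈ φ.range := by
        rcases hca with e | e <;> rw [e]
        exacts [hcφ, mul_mem hcφ huφ]
      have hDφ : ∀ d ∈ (R : Subgroup L), d * u = u * d → d ∈ φ.range := by
        intro d hd hdu
        have hzφ : z ∈ φ.range := hc2 ▸ mul_mem hcφ hcφ
        rcases hD d hd hdu with e | e | e | e <;> rw [e]
        exacts [one_mem _, hzφ, huφ, mul_mem hzφ huφ]
      rcases hcos y hy with h | h
      · exact hDφ y hy h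
      · rw [show y = a * (a⁻¹ * y) by group]
        exact mul_mem haφ (hDφ _ (mul_mem (inv_mem ha) hy) h)
  exact ⟨((MulEquiv.subgroupCongr hrange).symm.trans (MonoidHom.ofInjective
    (CfsgLib.LocalEven.DihedralCrit.toGroup_injective huu hc4' hcu' hc4 hutc)).symm)⟩

end CfsgLib.SporMisc
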